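import Groth.Agent.StrictAlg.Induct
import Groth.Agent.StrictFun.Main
import Groth.Agent.StrictFun.Flatten

/-!
# Flattening strict transforms by an admissible blow-up
-/

set_option autoImplicit false
set_option linter.style.haveILetI false
set_option backward.isDefEq.respectTransparency false
set_option backward.isDefEq.respectTransparency.types false
attribute [-instance] CategoryTheory.catToReflQuiver

universe u

open CategoryTheory CategoryTheory.Limits AlgebraicGeometry TopologicalSpace Opposite TensorProduct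
open Scheme (IdealSheafData)

namespace Groth.Agent.StrictAlg

open Groth.Agent.QCoh Groth.Agent.StrictFun

/-- Flatness and finite presentation on a localisation give goodness. -/
theorem stGood_away {R B N B' N' : Type u} [CommRing R] [CommRing B] [Algebra R B] [AddCommGroup N] [Module B N]
    [Module R N] [IsScalarTower R B N] (f : R) [CommRing B'] [Algebra B B']
    [IsLocalization.Away (algebraMap R B f) B'] [AddCommGroup N'] [Module B N'] [Module B' N']
    [IsScalarTower B B' N'] [Module R N'] [IsScalarTower R B N'] (l : N →ₗ[B] N')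
    [IsLocalizedModule (Submonoid.powers (algebraMap R B f)) l] [Module.Flat R N'] [Module.FinitePresentation B' N'] :
    StGood R B N (Localization.Away f) 1 := by
  let A := Localization.Away f
  let U := Submonoid.powers (algebraMap R B f)
  letI : Algebra B (A ⊗[R] B) := Algebra.TensorProduct.rightAlgebra
  letI : Module B (A ⊗[R] N) := Module.compHom _ (algebraMap B (A ⊗[R] B))
  haveI : IsScalarTower B (A ⊗[R] B) (A ⊗[R] N) := .of_algebraMap_smul fun _ _ => rfl
  haveI : IsScalarTower R (A ⊗[R] B) (A ⊗[R] N) := IsScalarTower.of_algebraMap_smul fun x (m : A ⊗[R] N) => by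
    rw [IsScalarTower.algebraMap_apply R A (A ⊗[R] B)]
    exact Eq.trans (algebraMap_smul (M := A ⊗[R] N) (A ⊗[R] B) (algebraMap R A x) m)
      (algebraMap_smul (M := A ⊗[R] N) A x m)
  haveI : IsScalarTower R B (A ⊗[R] N) := .of_algebraMap_smul fun x m => by
    rw [← algebraMap_smul (A ⊗[R] B) (algebraMap R B x) m, ← IsScalarTower.algebraMap_apply R B]
    exact algebraMap_smul (A ⊗[R] B) x m
  haveI : IsLocalization.Away (algebraMap R B f) (A ⊗[R] B) := by
    have : IsLocalization (Algebra.algebraMapSubmonoid B (Submonoid.powers f)) (A ⊗[R] B) :=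
      (Algebra.isLocalization_iff_isPushout (Submonoid.powers f) A).2 (Algebra.IsPushout.symm inferInstance)
    rwa [Algebra.algebraMapSubmonoid, Submonoid.map_powers] at this
  let fN : N →ₗ[B] A ⊗[R] N :=
    { toFun := fun n => 1 ⊗ₜ n
      map_add' := fun x y => tmul_add _ _ _
      map_smul' := fun b n => by
        show _ = ((1 : A) ⊗ₜ[R] b) • ((1 : A) ⊗ₜ[R] n)
        rw [tmul_smul_tmul, mul_one] }
  haveI : IsLocalizedModule U fN :=
    (isLocalizedModule_iff_isBaseChange U (A ⊗[R] B) fN).2 (isBaseChange_act R A B N fN fun _ => rfl)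
  obtain ⟨i, j, hij⟩ := exists_semilinear U (A ⊗[R] B) B' fN l
  haveI : Module.Flat R (A ⊗[R] N) :=
    Module.Flat.of_linearEquiv ((IsLocalizedModule.linearEquiv U fN l).restrictScalars R)
  exact (goodQ_iff_of_isUnit isUnit_one).2
    ⟨(Module.flat_iff_of_isLocalization A (Submonoid.powers f) (A ⊗[R] N)).2 ‹_›, fp_of_semilinear i j hij⟩

/-- Transport of goodness to models of the base changes. -/
theorem goodQ_of_model {R A B N BA M : Type u} [CommRing R] [CommRing A] [CommRing B] [Algebra R A] [Algebra R B]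
    [AddCommGroup N] [Module B N] [Module R N] [IsScalarTower R B N]
    [CommRing BA] [Algebra A BA] [Algebra B BA] [Algebra R BA] [IsScalarTower R A BA] [IsScalarTower R B BA]
    [Algebra.IsPushout R A B BA] [AddCommGroup M] [Module BA M] [Module A M] [IsScalarTower A BA M]
    [Module B M] [IsScalarTower B BA M] (l : N →ₗ[B] M) (hl : IsBaseChange BA l) {a : A}
    (h : StGood R B N A a) : GoodQ A BA M a := by
  letI : Module R M := Module.compHom _ (algebraMap R BA)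
  haveI : IsScalarTower R BA M := .of_algebraMap_smul fun _ _ => rfl
  haveI : IsScalarTower R B M := .of_algebraMap_smul fun r m => by
    rw [← algebraMap_smul BA (algebraMap R B r) m, ← IsScalarTower.algebraMap_apply]
    rfl
  haveI : IsScalarTower R A M := .of_algebraMap_smul fun r m => by
    rw [← algebraMap_smul BA (algebraMap R A r) m, ← IsScalarTower.algebraMap_apply]
    rfl
  have hlR : IsBaseChange A (l.restrictScalars R) := (isBaseChange_iff_pushout (A := R) (A' := A) l).1 hl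
  let i : A ⊗[R] B ≃ₐ[A] BA := Algebra.IsPushout.equiv R A B BA
  let j : A ⊗[R] N ≃ₗ[A] M := hlR.equiv
  refine GoodQ.of_semilinear i.symm j.symm.toAddEquiv (fun r m => ?_) h
  show j.symm (r • m) = i.symm r • j.symm m
  obtain ⟨r, rfl⟩ := i.surjective r
  obtain ⟨m, rfl⟩ := j.surjective m
  rw [AlgEquiv.symm_apply_apply, LinearEquiv.symm_apply_apply]
  apply j.injective
  rw [LinearEquiv.apply_symm_apply]
  induction r using TensorProduct.induction_on with
  | zero => rw [map_zero, zero_smul, zero_smul, map_zero]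
  | add x y hx hy => rw [map_add, add_smul, add_smul, map_add, hx, hy]
  | tmul x b =>
    induction m using TensorProduct.induction_on with
    | zero => rw [map_zero, smul_zero, smul_zero, map_zero]
    | add p q hp hq => rw [map_add, smul_add, smul_add, map_add, hp, hq]
    | tmul y n =>
      simp only [i, j, tmul_smul_tmul, IsBaseChange.equiv_tmul, LinearMap.restrictScalars_apply,
        Algebra.IsPushout.equiv_tmul, map_smul]
      rw [← algebraMap_smul BA y, ← algebraMap_smul BA b (l n), ← algebraMap_smul BA (x * y), smul_smul, smul_smul,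
        map_mul]
      congr 1
      ring

/-- The ideal `I` flattens the module on a pair of affine opens. -/
def ChartFlattens {X S : Scheme.{u}} (f : X ⟶ S) (F : X.Modules) (V : S.Opens) (W : X.Opens) (hle : W ≤ f ⁻¹ᵁ V)
    (I : Ideal Γ(S, V)) : Prop :=
  letI : Algebra Γ(S, V) Γ(X, W) := (f.appLE V W hle).hom.toAlgebra
  letI : Module Γ(S, V) Γ(F, W) := Module.compHom _ (f.appLE V W hle).hom
  haveI : IsScalarTower Γ(S, V) Γ(X, W) Γ(F, W) := .of_algebraMap_smul fun _ _ => rfl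
  Flattens Γ(S, V) Γ(X, W) Γ(F, W) I

theorem exists_chartFlattens {X S : Scheme.{u}} (f : X ⟶ S) [LocallyOfFinitePresentation f] (U : S.Opens)
    (F : X.Modules) (hqc : Coh.IsQCoh F) (hft : CohB1.IsFT F)
    (hfpU : CohB1.IsFP ((Scheme.Modules.pullback (f ⁻¹ᵁ U).ι).obj F))
    (hflU : ∀ x : X, f.base x ∈ U → FlatMod.IsFlatOverAt f F x)
    {K₀ : S.IdealSheafData} (hK₀ : BlowUp.IsFiniteTypeIdeal K₀) (hK₀s : (K₀.support : Set S) = (U : Set S)ᶜ)
    (V : S.affineOpens) (W : X.Opens) (hW : IsAffineOpen W) (hle : W ≤ f ⁻¹ᵁ V.1) :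
    ∃ I : Ideal Γ(S, V.1), I.FG ∧ I.radical = (K₀.ideal V).radical ∧ ChartFlattens f F V.1 W hle I := by
  classical
  letI : Algebra Γ(S, V.1) Γ(X, W) := (f.appLE V.1 W hle).hom.toAlgebra
  letI : Module Γ(S, V.1) Γ(F, W) := Module.compHom _ (f.appLE V.1 W hle).hom
  haveI : IsScalarTower Γ(S, V.1) Γ(X, W) Γ(F, W) := .of_algebraMap_smul fun _ _ => rfl
  haveI : Algebra.FinitePresentation Γ(S, V.1) Γ(X, W) := f.finitePresentation_appLE V.2 hW hle
  haveI : Module.Finite Γ(X, W) Γ(F, W) := finite_of_isFT hqc hft hW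
  obtain ⟨s, hs⟩ := hK₀ V
  refine flattenable_of_offGood (hK₀ V) (offGood_of_away s hs fun t ht => ?_)
  let tX : Γ(X, W) := algebraMap Γ(S, V.1) Γ(X, W) t
  have hD : IsAffineOpen (X.basicOpen tX) := hW.basicOpen tX
  have htU : S.basicOpen t ≤ U := fun z hz => by
    by_contra hne
    exact (BlowSep.mem_support_iff_notMem K₀ (S.basicOpen_le t hz)).1
      (hK₀s.ge hne) t (hs ▸ Ideal.subset_span ht) hz
  have hDU : ∀ x ∈ X.basicOpen tX, f x ∈ U := fun x hx => htU (by
    have h1 : x ∈ f ⁻¹ᵁ S.basicOpen t := by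
      rw [Scheme.preimage_basicOpen]
      have hx' : x ∈ X.basicOpen ((f.appLE V.1 W hle).hom t) := hx
      rw [Scheme.Hom.appLE, CommRingCat.comp_apply, Scheme.basicOpen_res] at hx'
      exact hx'.2
    exact h1)
  letI := basicModule tX F
  haveI := hW.isLocalization_basicOpen tX
  haveI := isLocalizedModule_basicRes tX hqc hW
  haveI : IsScalarTower Γ(X, W) Γ(X, X.basicOpen tX) Γ(F, X.basicOpen tX) := .of_algebraMap_smul fun _ _ => rfl
  haveI : Module.FinitePresentation Γ(X, X.basicOpen tX) Γ(F, X.basicOpen tX) :=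
    finitePresentation_of_pullback hqc (isFP_pullback_of_range hqc hfpU _ fun y => hDU _ y.2) hD
  letI : Module Γ(S, V.1) Γ(F, X.basicOpen tX) :=
    Module.compHom _ (f.appLE V.1 (X.basicOpen tX) ((X.basicOpen_le tX).trans hle)).hom
  haveI : IsScalarTower Γ(S, V.1) Γ(X, W) Γ(F, X.basicOpen tX) := .of_algebraMap_smul fun r m => by
    show (X.presheaf.map (homOfLE (X.basicOpen_le tX)).op) (f.appLE V.1 W hle r) • m = _
    rw [← CommRingCat.comp_apply, Scheme.Hom.appLE_map]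
    rfl
  haveI : Module.Flat Γ(S, V.1) Γ(F, X.basicOpen tX) :=
    (flat_appLE_iff f hqc hD V.2 _).2 fun x hx => hflU x (hDU x hx)
  exact stGood_away (B' := Γ(X, X.basicOpen tX)) t (basicRes tX F)

/-- The strict quotient on one chart. -/
theorem good_chart {X S S' X' : Scheme.{u}} {f : X ⟶ S} {b : S' ⟶ S} {p₁ : X' ⟶ X} {p₂ : X' ⟶ S'}
    (hsq : IsPullback p₁ p₂ f b) (U : S.Opens) (F : X.Modules) (hqc : Coh.IsQCoh F)
    {V : S.Opens} (hV : IsAffineOpen V) {W : X.Opens} (hW : IsAffineOpen W) (hle : W ≤ f ⁻¹ᵁ V)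
    {T : S'.Opens} (hT : IsAffineOpen T) (hTV : T ≤ b ⁻¹ᵁ V)
    (I : Ideal Γ(S, V)) (hfl : ChartFlattens f F V W hle I) (a : Γ(S', T)) (ha : a ∈ nonZeroDivisors Γ(S', T))
    (hIa : I.map (b.appLE V T hTV).hom = Ideal.span {a}) (haU : ∀ z ∈ T, z ∈ S'.basicOpen a ↔ b z ∈ U)
    (G : X'.Modules) (π : (Scheme.Modules.pullback p₁).obj F ⟶ G) (hG : Coh.IsQCoh G)
    (hπ : IsCut ((p₁ ≫ f) ⁻¹ᵁ U) π) :
    IsAffineOpen (p₁ ⁻¹ᵁ W ⊓ p₂ ⁻¹ᵁ T) ∧
      Module.FinitePresentation Γ(X', p₁ ⁻¹ᵁ W ⊓ p₂ ⁻¹ᵁ T) Γ(G, p₁ ⁻¹ᵁ W ⊓ p₂ ⁻¹ᵁ T) ∧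
      ∀ x ∈ p₁ ⁻¹ᵁ W ⊓ p₂ ⁻¹ᵁ T, FlatMod.IsFlatOverAt p₂ G x := by
  haveI := hπ.1
  let W' := p₁ ⁻¹ᵁ W ⊓ p₂ ⁻¹ᵁ T
  haveI : IsAffine V.toScheme := hV
  haveI : IsAffine W.toScheme := hW
  haveI : IsAffine T.toScheme := hT
  have hW' : IsAffineOpen W' :=
    .of_isIso (Scheme.Hom.isPullback_resLE hsq hTV hle (rfl : W' = p₁ ⁻¹ᵁ W ⊓ p₂ ⁻¹ᵁ T)).isoPullback.hom
  have hW1 : W' ≤ p₁ ⁻¹ᵁ W := inf_le_left
  have hW2 : W' ≤ p₂ ⁻¹ᵁ T := inf_le_right
  have hpo := (isIso_pushoutSection_iff hsq (US := V) (UX := W) (UT := T) hTV hle (UY := W') rfl).mp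
    (isIso_pushoutSection_of_isAffineOpen hsq (US := V) (UX := W) (UT := T) hTV hle rfl hV hT hW)
  let N := (Scheme.Modules.pullback p₁).obj F
  letI : Algebra Γ(S, V) Γ(X, W) := (f.appLE V W hle).hom.toAlgebra
  letI : Algebra Γ(S, V) Γ(S', T) := (b.appLE V T hTV).hom.toAlgebra
  letI : Algebra Γ(X, W) Γ(X', W') := (p₁.appLE W W' hW1).hom.toAlgebra
  letI : Algebra Γ(S', T) Γ(X', W') := (p₂.appLE T W' hW2).hom.toAlgebra
  letI : Algebra Γ(S, V) Γ(X', W') := (f.appLE V W hle ≫ p₁.appLE W W' hW1).hom.toAlgebra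
  haveI : IsScalarTower Γ(S, V) Γ(X, W) Γ(X', W') := .of_algebraMap_eq fun _ => rfl
  haveI : IsScalarTower Γ(S, V) Γ(S', T) Γ(X', W') := .of_algebraMap_eq fun x => congr($(hpo.w).hom x)
  haveI : Algebra.IsPushout Γ(S, V) Γ(X, W) Γ(S', T) Γ(X', W') := CommRingCat.isPushout_iff_isPushout.mp hpo
  haveI : Algebra.IsPushout Γ(S, V) Γ(S', T) Γ(X, W) Γ(X', W') := Algebra.IsPushout.symm inferInstance
  letI : Module Γ(S, V) Γ(F, W) := Module.compHom _ (f.appLE V W hle).hom
  haveI : IsScalarTower Γ(S, V) Γ(X, W) Γ(F, W) := .of_algebraMap_smul fun _ _ => rfl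
  letI : Module Γ(X, W) Γ(N, W') := Module.compHom _ (p₁.appLE W W' hW1).hom
  haveI : IsScalarTower Γ(X, W) Γ(X', W') Γ(N, W') := .of_algebraMap_smul fun _ _ => rfl
  letI : Module Γ(S', T) Γ(N, W') := Module.compHom _ (p₂.appLE T W' hW2).hom
  haveI : IsScalarTower Γ(S', T) Γ(X', W') Γ(N, W') := .of_algebraMap_smul fun _ _ => rfl
  obtain ⟨l, -, hl⟩ := ExistEasy.exists_pullSec_baseChange p₁ hqc hW' hW hW1
  obtain ⟨hflat, hfp⟩ := goodQ_of_model (R := Γ(S, V)) (A := Γ(S', T)) (BA := Γ(X', W')) l hl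
    (hfl Γ(S', T) a hIa ha)
  let a' : Γ(X', W') := p₂.appLE T W' hW2 a
  have hDa : W' ⊓ (p₁ ≫ f) ⁻¹ᵁ U = X'.basicOpen a' := by
    simp only [a', Scheme.Hom.appLE]
    rw [CommRingCat.comp_apply, Scheme.basicOpen_res, ← Scheme.preimage_basicOpen]
    ext z
    refine and_congr_right fun hz => ?_
    show (p₁ ≫ f) z ∈ U ↔ p₂ z ∈ S'.basicOpen a
    rw [haU _ (hW2 hz), hsq.w]
    rfl
  have hker : LinearMap.ker (appLin π W') = FlatCA.powTorsion Γ(X', W') a' Γ(N, W') := by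
    ext m
    rw [LinearMap.mem_ker, FittX.mem_powTorsion]
    refine (hπ.2 W' m).trans ⟨fun h0 => exists_pow_smul_eq_zero (isQCoh_pullback p₁ hqc) hW' a' m
      (map_eq_zero_of_le inf_le_left hDa.ge m h0), fun ⟨n, hn⟩ => ?_⟩
    refine map_eq_zero_of_le (X'.basicOpen_le a') hDa.le m ?_
    have h1 := (map_smul' (homOfLE (X'.basicOpen_le a')) (a' ^ n) m).symm.trans ((congrArg _ hn).trans (map_zero _))
    have hu : IsUnit (X'.presheaf.map (homOfLE (X'.basicOpen_le a')).op a') := X'.toRingedSpace.isUnit_res_basicOpen a'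
    rw [map_pow] at h1
    exact (IsUnit.smul_eq_zero (hu.pow n)).1 h1
  let eG : (Γ(N, W') ⧸ FlatCA.powTorsion Γ(X', W') a' Γ(N, W')) ≃ₗ[Γ(X', W')] Γ(G, W') :=
    (Submodule.quotEquivOfEq _ _ hker.symm).trans ((appLin π W').quotKerEquivOfSurjective
      (app_surjective_of_epi (isQCoh_pullback p₁ hqc) hG π hW'))
  haveI := hfp
  letI : Module Γ(S', T) Γ(G, W') := Module.compHom _ (p₂.appLE T W' hW2).hom
  haveI : IsScalarTower Γ(S', T) Γ(X', W') Γ(G, W') := .of_algebraMap_smul fun _ _ => rfl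
  haveI : Module.Flat Γ(S', T) Γ(G, W') := by
    haveI := hflat
    exact Module.Flat.of_linearEquiv (eG.symm.restrictScalars Γ(S', T))
  exact ⟨hW', Module.FinitePresentation.of_equiv eG, (flat_appLE_iff p₂ hG hW' hT hW2).1 ‹_›⟩

/-- Flattening by an admissible blow-up. -/
theorem exists_flattening {X S : Scheme.{u}} [CompactSpace S] [QuasiSeparatedSpace S] [CompactSpace X]
    (f : X ⟶ S) [LocallyOfFinitePresentation f] (U : S.Opens) (hU : IsCompact (U : Set S))
    (F : X.Modules) (hqc : Coh.IsQCoh F) (hft : CohB1.IsFT F)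
    (hfpU : CohB1.IsFP ((Scheme.Modules.pullback (f ⁻¹ᵁ U).ι).obj F))
    (hflU : ∀ x : X, f.base x ∈ U → FlatMod.IsFlatOverAt f F x) :
    ∃ (𝓘 : S.IdealSheafData) (S' : Scheme.{u}) (b : S' ⟶ S), BlowUp.IsBlowUp b 𝓘 ∧ BlowUp.IsAdmissibleFor U 𝓘 ∧
      ∀ (X' : Scheme.{u}) (p₁ : X' ⟶ X) (p₂ : X' ⟶ S'), IsPullback p₁ p₂ f b →
      ∀ (G : X'.Modules) (π : (Scheme.Modules.pullback p₁).obj F ⟶ G),
        BlowUp.IsStrictTransform p₁ (𝓘.comap f) F G π → CohB1.IsFP G ∧ FlatMod.IsFlatOver p₂ G := by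
  classical
  obtain ⟨K₀, hK₀, hK₀s⟩ := BlowSep.exists_ft_support_eq (U : Set S)ᶜ U.2.isClosed_compl (by rwa [compl_compl])
  choose V hV hxV _ using fun x : X => exists_isAffineOpen_mem_and_subset (x := f x) (U := ⊤) trivial
  choose W hW hxW hle using fun x : X => exists_isAffineOpen_mem_and_subset (x := x) (U := f ⁻¹ᵁ V x) (hxV x)
  choose I hI hIrad hIfl using fun x : X =>
    exists_chartFlattens f U F hqc hft hfpU hflU hK₀ hK₀s ⟨V x, hV x⟩ (W x) (hW x) (hle x)
  obtain ⟨σ, hσ⟩ := isCompact_univ.elim_finite_subcover (fun x : X => (W x : Set X))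
    (fun x => (W x).2) (fun x _ => Set.mem_iUnion.2 ⟨x, hxW x⟩)
  let pt : Fin σ.card → X := fun i => (σ.equivFin.symm i).1
  haveI : ∀ x, IsAffine (V x).toScheme := hV
  haveI : ∀ x, QuasiCompact (V x).ι := fun x => by
    haveI : CompactSpace (V x).toScheme := isCompact_iff_compactSpace.mp (hV x).isCompact
    exact quasiCompact_of_compactSpace _
  let φ := fun x => (V x).ι.appLE (V x) ⊤ (by simp)
  let 𝓘 : ∀ x, (V x).toScheme.IdealSheafData := fun x => IdealSheafData.ofIdealTop ((I x).map (φ x).hom)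
  have htop : ∀ x, (𝓘 x).ideal ⟨⊤, isAffineOpen_top _⟩ = (I x).map (φ x).hom := fun x => by
    simp only [𝓘, IdealSheafData.ofIdealTop_ideal]
    erw [(V x).toScheme.presheaf.map_id, Ideal.map_id]
  have hK₀U : ∀ x (z : S) (hz : z ∈ V x), ((K₀.ideal ⟨V x, hV x⟩) ≤ ((hV x).primeIdealOf ⟨z, hz⟩).asIdeal ↔ z ∉ U) :=
    fun x z hz => (BlowSep.mem_support_iff_le_prime K₀ (U := ⟨V x, hV x⟩) hz).symm.trans (by rw [hK₀s]; rfl)
  have hadm : ∀ x, BlowUp.IsAdmissibleFor ((V x).ι ⁻¹ᵁ U) (𝓘 x) := fun x => by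
    refine ⟨fun O => ?_, Set.disjoint_left.2 fun z hz hzU => ?_⟩
    · simp only [𝓘, IdealSheafData.ofIdealTop_ideal]
      exact ((hI x).map _).map _
    · have h1 := (BlowSep.mem_support_iff_le_prime (𝓘 x) (U := ⟨⊤, isAffineOpen_top _⟩) (x := z) trivial).1 hz
      rw [htop, Ideal.map_le_iff_le_comap] at h1
      replace h1 := h1.trans (le_of_eq (congrArg PrimeSpectrum.asIdeal
        (IsAffineOpen.comap_primeIdealOf_appLE (f := (V x).ι) (V x) (hV x) ⊤ (isAffineOpen_top (V x).toScheme) (by simp) (x := z) trivial)))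
      have h2 := ((hV x).primeIdealOf ⟨(V x).ι z, z.2⟩).isPrime
      rw [← h2.radical_le_iff, hIrad x, h2.radical_le_iff] at h1
      exact (hK₀U x _ z.2).1 h1 hzU
  obtain ⟨𝓙, S', b, hb, hadm', hint, hcart⟩ := exists_common_blowUp U hU (fun i => (V (pt i)).toScheme)
    (fun i => (V (pt i)).ι) (fun i => 𝓘 (pt i)) fun i => hadm _
  refine ⟨𝓙, S', b, hb, hadm', fun X' p₁ p₂ hsq G π hπ => ?_⟩
  obtain ⟨hcut, hG, -⟩ := cut_of_strictTransform hb hsq hqc hπ
  rw [← ModPairLib.preimage_interior, ← ModPairLib.preimage_interior, hint, ← Scheme.Hom.comp_preimage] at hcut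
  have hloc : ∀ x' : X', ∃ O : X'.Opens, x' ∈ O ∧ IsAffineOpen O ∧ Module.FinitePresentation Γ(X', O) Γ(G, O) ∧
      ∀ x ∈ O, FlatMod.IsFlatOverAt p₂ G x := fun x' => by
    obtain ⟨y, hy, hyW⟩ := Set.mem_iUnion₂.1 (hσ (Set.mem_univ (p₁ x')))
    let i := σ.equivFin ⟨y, hy⟩
    have hi : pt i = y := by simp only [pt, i, Equiv.symm_apply_apply]
    have hcy : BlowUp.IsEffCartierIdeal ((𝓘 y).comap (pullback.fst (V y).ι b)) := by
      have := hcart i
      rwa [hi] at this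
    have hbs : b (p₂ x') ∈ V y := by
      rw [← Scheme.Hom.comp_apply, ← hsq.w, Scheme.Hom.comp_apply]
      exact hle y hyW
    obtain ⟨T₀, hT₀, hsT₀, hT₀V⟩ := exists_isAffineOpen_mem_and_subset (x := p₂ x') (U := b ⁻¹ᵁ V y) hbs
    let r := b.resLE (V y) T₀ hT₀V
    let g : T₀.toScheme ⟶ pullback (V y).ι b := pullback.lift r T₀.ι (Scheme.Hom.resLE_comp_ι _ _)
    haveI : IsOpenImmersion g := by
      haveI : IsOpenImmersion (g ≫ pullback.snd (V y).ι b) := by rw [pullback.lift_snd]; infer_instance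
      exact IsOpenImmersion.of_comp g (pullback.snd (V y).ι b)
    have hc := BlowUpLib.isEffCartier_comap_flat g hcy
    rw [← IdealSheafData.comap_comp, pullback.lift_fst] at hc
    obtain ⟨T', hsT', f₀, hf₀, hf₀e⟩ := hc ⟨p₂ x', hsT₀⟩
    rw [ModPairLib.ideal_comap (𝓘 y) r ⟨⊤, isAffineOpen_top _⟩ T' le_top, htop] at hf₀e
    let T := T₀.ι ''ᵁ T'.1
    have hTT₀ : T ≤ T₀ := by
      rintro _ ⟨z, -, rfl⟩
      exact z.2
    have hTV : T ≤ b ⁻¹ᵁ V y := hTT₀.trans hT₀V
    have hT : IsAffineOpen T := T'.2.image_of_isOpenImmersion T₀.ι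
    let e := T₀.ι.appIso T'.1
    have hcomp : φ y ≫ r.appLE ⊤ T'.1 le_top = b.appLE (V y) T hTV ≫ e.hom := by
      rw [Scheme.Hom.appIso_hom', Scheme.Hom.appLE_comp_appLE, Scheme.Hom.appLE_comp_appLE]
      simp only [r, Scheme.Hom.resLE_comp_ι]
    rw [Ideal.map_map, ← CommRingCat.hom_comp, hcomp, CommRingCat.hom_comp, ← Ideal.map_map] at hf₀e
    let er := e.commRingCatIsoToRingEquiv
    have hIa : (I y).map (b.appLE (V y) T hTV).hom = Ideal.span {er.symm f₀} := by
      have h1 := congrArg (Ideal.map er.symm.toRingHom) hf₀e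
      rw [Ideal.map_map, Ideal.map_span, Set.image_singleton] at h1
      convert h1 using 1
      · rw [Ideal.map_map]
        congr 1
        ext z
        exact (er.symm_apply_apply _).symm
      · rfl
    have ha : er.symm f₀ ∈ nonZeroDivisors Γ(S', T) :=
      mem_nonZeroDivisors_iff_right.2 fun z hz => er.injective ((mem_nonZeroDivisors_iff_right.1 hf₀ _ (by
        rw [← er.apply_symm_apply f₀, ← map_mul, hz, map_zero])).trans (map_zero er).symm)
    have haU : ∀ z ∈ T, z ∈ S'.basicOpen (er.symm f₀) ↔ b z ∈ U := fun z hz => by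
      have hcp : (hT.primeIdealOf ⟨z, hz⟩).asIdeal.comap (b.appLE (V y) T hTV).hom =
          ((hV y).primeIdealOf ⟨b z, hTV hz⟩).asIdeal :=
        congrArg PrimeSpectrum.asIdeal (IsAffineOpen.comap_primeIdealOf_appLE (f := b) (V y) (hV y) T hT hTV hz)
      rw [← not_iff_not, ← BlowSep.prime_iff hT hz, ← hK₀U y (b z) (hTV hz), ← Ideal.span_singleton_le_iff_mem,
        ← hIa, Ideal.map_le_iff_le_comap, hcp]
      have h2 := ((hV y).primeIdealOf ⟨b z, hTV hz⟩).isPrime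
      rw [← h2.radical_le_iff, hIrad y, h2.radical_le_iff]
    obtain ⟨hO, hfp, hfl⟩ := good_chart hsq U F hqc (hV y) (hW y) (hle y) hT hTV (I y) (hIfl y) _ ha hIa haU G π hG hcut
    exact ⟨p₁ ⁻¹ᵁ W y ⊓ p₂ ⁻¹ᵁ T, ⟨hyW, ⟨⟨p₂ x', hsT₀⟩, hsT', rfl⟩⟩, hO, hfp, hfl⟩
  choose O hxO hO hfpO hflO using hloc
  exact ⟨isFP_of_finitePresentation hG O (IsOpenCover.mk (eq_top_iff.2 fun x _ => Opens.mem_iSup.2 ⟨x, hxO x⟩)) hO hfpO,
    fun x => hflO x x (hxO x)⟩

end Groth.Agent.StrictAlg
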