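import Groth.Agent.StrictAlg.Charts
import Groth.Agent.QCoh.VanIdeal

/-!
# Flattening schemes by an admissible blow-up
-/

set_option autoImplicit false
set_option linter.style.haveILetI false
set_option backward.isDefEq.respectTransparency false
set_option backward.isDefEq.respectTransparency.types false
attribute [-instance] CategoryTheory.catToReflQuiver

universe u

open CategoryTheory CategoryTheory.Limits AlgebraicGeometry TopologicalSpace Opposite TensorProduct
open Scheme (IdealSheafData)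

namespace Groth.Agent.StrictAlg

open Groth.Agent.QCoh Groth.Agent.StrictFun

/-- Off the centre, for a quotient of a polynomial algebra. -/
theorem stGood_quotient_away {R P B B' : Type u} [CommRing R] [CommRing P] [CommRing B] [Algebra R P] [Algebra R B]
    [Algebra P B] [IsScalarTower R P B] [Algebra.FiniteType R P] (hsurj : Function.Surjective (algebraMap P B))
    (t : R) [CommRing B'] [Algebra R B'] [Algebra B B'] [IsScalarTower R B B']
    [IsLocalization.Away (algebraMap R B t) B'] [Module.Flat R B'] [Algebra.FinitePresentation R B'] :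
    StGood R P B (Localization.Away t) 1 := by
  let tP := algebraMap R P t
  let P' := Localization.Away tP
  letI : Algebra P B' := ((algebraMap B B').comp (algebraMap P B)).toAlgebra
  haveI : IsScalarTower P B B' := .of_algebraMap_eq fun _ => rfl
  haveI : IsScalarTower R P B' := .of_algebraMap_eq fun r => by
    rw [IsScalarTower.algebraMap_apply R B B', IsScalarTower.algebraMap_apply R P B]
    rfl
  have hu : ∀ y : Submonoid.powers tP, IsUnit (algebraMap P B' y) := fun y => by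
    obtain ⟨_, n, rfl⟩ := y
    rw [map_pow]
    refine IsUnit.pow n ?_
    show IsUnit (algebraMap B B' (algebraMap P B (algebraMap R P t)))
    rw [← IsScalarTower.algebraMap_apply R P B]
    exact IsLocalization.Away.algebraMap_isUnit (algebraMap R B t)
  letI : Algebra P' B' := (IsLocalization.lift hu).toAlgebra
  haveI : IsScalarTower P P' B' := .of_algebraMap_eq fun x => (IsLocalization.lift_eq hu x).symm
  haveI : IsScalarTower R P' B' := .of_algebraMap_eq fun r => by
    rw [IsScalarTower.algebraMap_apply R P P', ← IsScalarTower.algebraMap_apply P P' B',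
      ← IsScalarTower.algebraMap_apply R P B']
  haveI hl : IsLocalization (Algebra.algebraMapSubmonoid B (Submonoid.powers tP)) B' := by
    rw [Algebra.algebraMapSubmonoid, Submonoid.map_powers, ← IsScalarTower.algebraMap_apply R P B]
    infer_instance
  have hsurj' : Function.Surjective (algebraMap P' B') := fun y => by
    obtain ⟨⟨x, ⟨_, n, rfl⟩⟩, hx⟩ := IsLocalization.surj (Submonoid.powers (algebraMap R B t)) y
    obtain ⟨z, rfl⟩ := hsurj x
    refine ⟨IsLocalization.mk' P' z (⟨tP ^ n, n, rfl⟩ : Submonoid.powers tP), ?_⟩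
    refine (hu ⟨tP ^ n, n, rfl⟩).mul_left_injective ?_
    show algebraMap P' B' _ * algebraMap P B' (tP ^ n) = y * algebraMap P B' (tP ^ n)
    rw [IsScalarTower.algebraMap_apply P P' B', ← map_mul,
      IsLocalization.mk'_spec P' z (⟨tP ^ n, n, rfl⟩ : Submonoid.powers tP), ← IsScalarTower.algebraMap_apply P P' B']
    refine hx.symm.trans ?_
    simp only [map_pow, tP, ← IsScalarTower.algebraMap_apply]
  haveI : Module.Finite P' B' := Module.Finite.of_surjective (Algebra.linearMap P' B') hsurj'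
  haveI : Algebra.FiniteType P P' := IsLocalization.finiteType_of_monoid_fg (Submonoid.powers tP) P'
  haveI : Algebra.FiniteType R P' := Algebra.FiniteType.trans (S := P) inferInstance inferInstance
  haveI : Algebra.FinitePresentation P' B' := Algebra.FinitePresentation.of_restrict_scalars_finitePresentation R P' B'
  haveI : Module.FinitePresentation P' B' := Module.FinitePresentation.of_finite_of_finitePresentation P' B'
  let l : B →ₗ[P] B' := (IsScalarTower.toAlgHom P B B').toLinearMap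
  haveI : IsLocalizedModule (Submonoid.powers tP) l := isLocalizedModule_iff_isLocalization.2 hl
  exact stGood_away (B' := P') t l

/-- The strict transform of a quotient of a polynomial algebra. -/
theorem flat_fp_quotient {R A P B BA : Type u} [CommRing R] [CommRing A] [CommRing P] [CommRing B] [CommRing BA]
    [Algebra R A] [Algebra R P] [Algebra R B] [Algebra P B] [IsScalarTower R P B] [Algebra.FinitePresentation R P]
    (hsurj : Function.Surjective (algebraMap P B)) [Algebra A BA] [Algebra B BA] [Algebra R BA]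
    [IsScalarTower R A BA] [IsScalarTower R B BA] [Algebra.IsPushout R A B BA] (a : A) (J : Ideal BA)
    (hJ : ∀ x, x ∈ J ↔ ∃ n : ℕ, algebraMap A BA a ^ n * x = 0) (h : StGood R P B A a) :
    Module.Flat A (BA ⧸ J) ∧ Algebra.FinitePresentation A (BA ⧸ J) := by
  letI : Algebra P BA := ((algebraMap B BA).comp (algebraMap P B)).toAlgebra
  haveI : IsScalarTower P B BA := .of_algebraMap_eq fun _ => rfl
  haveI : IsScalarTower R P BA := .of_algebraMap_eq fun r => by
    rw [IsScalarTower.algebraMap_apply R B BA, IsScalarTower.algebraMap_apply R P B]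
    rfl
  letI : Algebra P (A ⊗[R] P) := Algebra.TensorProduct.rightAlgebra
  let ψ₀ : A ⊗[R] P →ₐ[A] BA :=
    Algebra.TensorProduct.lift (Algebra.ofId A BA) (IsScalarTower.toAlgHom R P BA) fun _ _ => Commute.all _ _
  letI : Algebra (A ⊗[R] P) BA := ψ₀.toRingHom.toAlgebra
  haveI : IsScalarTower A (A ⊗[R] P) BA := .of_algebraMap_eq fun x => (ψ₀.commutes x).symm
  haveI : IsScalarTower P (A ⊗[R] P) BA := .of_algebraMap_eq fun x => by
    show _ = ψ₀ ((1 : A) ⊗ₜ[R] x)
    rw [Algebra.TensorProduct.lift_tmul, map_one, one_mul]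
    rfl
  haveI : Algebra.IsPushout R A P (A ⊗[R] P) := inferInstance
  let l : B →ₗ[P] BA := (IsScalarTower.toAlgHom P B BA).toLinearMap
  have hl : IsBaseChange (A ⊗[R] P) l := by
    rw [isBaseChange_iff_pushout (A := R) (A' := A)]
    exact ((Algebra.isPushout_iff R A B BA).1 ‹_› : IsBaseChange A (IsScalarTower.toAlgHom R B BA).toLinearMap)
  obtain ⟨hfl, hfp⟩ := goodQ_of_model (R := R) (A := A) (BA := A ⊗[R] P) l hl h
  let T := FlatCA.powTorsion (A ⊗[R] P) (algebraMap A (A ⊗[R] P) a) BA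
  have hTJ : J.restrictScalars (A ⊗[R] P) = T := Submodule.ext fun x => by
    simp only [T, Submodule.restrictScalars_mem, FittX.mem_powTorsion, hJ]
    refine exists_congr fun n => ?_
    rw [Algebra.smul_def, map_pow, ← IsScalarTower.algebraMap_apply A (A ⊗[R] P) BA]
  let e : (BA ⧸ T) ≃ₗ[A ⊗[R] P] (BA ⧸ J) :=
    (Submodule.quotEquivOfEq _ _ hTJ.symm).trans (Submodule.Quotient.restrictScalarsEquiv (A ⊗[R] P) J)
  haveI : IsScalarTower A (A ⊗[R] P) (BA ⧸ T) := .of_algebraMap_smul fun x m => by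
    obtain ⟨m, rfl⟩ := T.mkQ_surjective m
    exact congrArg T.mkQ (algebraMap_smul (A ⊗[R] P) x m)
  haveI : IsScalarTower A (A ⊗[R] P) (BA ⧸ J) := .of_algebraMap_smul fun x m => by
    obtain ⟨m, rfl⟩ := Ideal.Quotient.mk_surjective m
    exact congrArg (Ideal.Quotient.mk J) (algebraMap_smul (A ⊗[R] P) x m)
  haveI := hfl
  haveI := hfp
  refine ⟨Module.Flat.of_linearEquiv (e.symm.restrictScalars A), ?_⟩
  haveI : Module.FinitePresentation (A ⊗[R] P) (BA ⧸ J) := Module.FinitePresentation.of_equiv e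
  have hsurj' : Function.Surjective (algebraMap (A ⊗[R] P) (BA ⧸ J)) := fun x => by
    obtain ⟨x, rfl⟩ := Ideal.Quotient.mk_surjective x
    suffices ∃ y, ψ₀ y = x from this.imp fun y hy => congrArg (Ideal.Quotient.mk J) hy
    obtain ⟨z, rfl⟩ := (Algebra.IsPushout.equiv R A B BA).surjective x
    induction z using TensorProduct.induction_on with
    | zero => exact ⟨0, by simp only [map_zero]⟩
    | add u v hu hv =>
      obtain ⟨y₁, h₁⟩ := hu
      obtain ⟨y₂, h₂⟩ := hv
      exact ⟨y₁ + y₂, by simp only [map_add, h₁, h₂]⟩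
    | tmul c b =>
      obtain ⟨q, rfl⟩ := hsurj b
      exact ⟨c ⊗ₜ q, by rw [Algebra.TensorProduct.lift_tmul, Algebra.IsPushout.equiv_tmul]; rfl⟩
  let ψ : A ⊗[R] P →ₐ[A] BA ⧸ J := (Ideal.Quotient.mkₐ A J).comp ψ₀
  refine Algebra.FinitePresentation.of_surjective (f := ψ) hsurj' ?_
  exact Module.FinitePresentation.fg_ker (Algebra.linearMap (A ⊗[R] P) (BA ⧸ J)) hsurj'

/-- A pair of affine opens with an ideal flattening the ring of functions. -/
theorem exists_scheme_chart {X S : Scheme.{u}} (f : X ⟶ S) [LocallyOfFiniteType f] (U : S.Opens)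
    [Flat (f ∣_ U)] [LocallyOfFinitePresentation (f ∣_ U)]
    {K₀ : S.IdealSheafData} (hK₀ : BlowUp.IsFiniteTypeIdeal K₀) (hK₀s : (K₀.support : Set S) = (U : Set S)ᶜ)
    (V : S.affineOpens) (W : X.Opens) (hW : IsAffineOpen W) (hle : W ≤ f ⁻¹ᵁ V.1) :
    ∃ I : Ideal Γ(S, V.1), I.FG ∧ I.radical = (K₀.ideal V).radical ∧
      letI : Algebra Γ(S, V.1) Γ(X, W) := (f.appLE V.1 W hle).hom.toAlgebra
      ∀ (A : Type u) [CommRing A] [Algebra Γ(S, V.1) A] (a : A), I.map (algebraMap Γ(S, V.1) A) = Ideal.span {a} →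
        a ∈ nonZeroDivisors A → ∀ (BA : Type u) [CommRing BA] [Algebra A BA] [Algebra Γ(X, W) BA]
          [Algebra Γ(S, V.1) BA] [IsScalarTower Γ(S, V.1) A BA] [IsScalarTower Γ(S, V.1) Γ(X, W) BA]
          [Algebra.IsPushout Γ(S, V.1) A Γ(X, W) BA] (J : Ideal BA),
          (∀ x, x ∈ J ↔ ∃ n : ℕ, algebraMap A BA a ^ n * x = 0) →
            Module.Flat A (BA ⧸ J) ∧ Algebra.FinitePresentation A (BA ⧸ J) := by
  classical
  letI : Algebra Γ(S, V.1) Γ(X, W) := (f.appLE V.1 W hle).hom.toAlgebra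
  haveI : Algebra.FiniteType Γ(S, V.1) Γ(X, W) := f.finiteType_appLE V.2 hW hle
  obtain ⟨n, θ, hθ⟩ := Algebra.FiniteType.iff_quotient_mvPolynomial''.1
    (inferInstance : Algebra.FiniteType Γ(S, V.1) Γ(X, W))
  let P := MvPolynomial (Fin n) Γ(S, V.1)
  letI : Algebra P Γ(X, W) := θ.toRingHom.toAlgebra
  haveI : IsScalarTower Γ(S, V.1) P Γ(X, W) := .of_algebraMap_eq fun r => (θ.commutes r).symm
  haveI : Module.Finite P Γ(X, W) := Module.Finite.of_surjective (Algebra.linearMap P Γ(X, W)) hθ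
  obtain ⟨s, hs⟩ := hK₀ V
  suffices hgood : ∀ t ∈ s, StGood Γ(S, V.1) P Γ(X, W) (Localization.Away t) 1 by
    obtain ⟨I, hI, hIrad, hfl⟩ := flattenable_of_offGood (R := Γ(S, V.1)) (B := P) (N := Γ(X, W)) (hK₀ V)
      (offGood_of_away s hs hgood)
    exact ⟨I, hI, hIrad, fun A _ _ a hIa ha BA _ _ _ _ _ _ _ J hJ => flat_fp_quotient hθ a J hJ (hfl A a hIa ha)⟩
  intro t ht
  let tX : Γ(X, W) := algebraMap Γ(S, V.1) Γ(X, W) t
  have hD : IsAffineOpen (X.basicOpen tX) := hW.basicOpen tX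
  have hSt : IsAffineOpen (S.basicOpen t) := V.2.basicOpen t
  have htU : S.basicOpen t ≤ U := fun z hz => by
    by_contra hne
    exact (BlowSep.mem_support_iff_notMem K₀ (S.basicOpen_le t hz)).1
      (hK₀s.ge hne) t (hs ▸ Ideal.subset_span ht) hz
  have hDt : X.basicOpen tX ≤ f ⁻¹ᵁ S.basicOpen t := fun x hx => by
    show x ∈ f ⁻¹ᵁ S.basicOpen t
    rw [Scheme.preimage_basicOpen]
    have hx' : x ∈ X.basicOpen ((f.appLE V.1 W hle).hom t) := hx
    rw [Scheme.Hom.appLE, CommRingCat.comp_apply, Scheme.basicOpen_res] at hx'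
    exact hx'.2
  have hDU : X.basicOpen tX ≤ f ⁻¹ᵁ U := hDt.trans (f.preimage_mono htU)
  letI : Algebra Γ(S, V.1) Γ(X, X.basicOpen tX) :=
    (f.appLE V.1 (X.basicOpen tX) ((X.basicOpen_le tX).trans hle)).hom.toAlgebra
  haveI : IsScalarTower Γ(S, V.1) Γ(X, W) Γ(X, X.basicOpen tX) := .of_algebraMap_eq fun r => by
    show _ = (X.presheaf.map (homOfLE (X.basicOpen_le tX)).op) (f.appLE V.1 W hle r)
    rw [← CommRingCat.comp_apply, Scheme.Hom.appLE_map]
    rfl
  haveI := hW.isLocalization_basicOpen tX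
  letI : Algebra Γ(S, V.1) Γ(S, S.basicOpen t) := (S.presheaf.map (homOfLE (S.basicOpen_le t)).op).hom.toAlgebra
  haveI : IsLocalization.Away t Γ(S, S.basicOpen t) := V.2.isLocalization_basicOpen t
  letI : Algebra Γ(S, S.basicOpen t) Γ(X, X.basicOpen tX) := (f.appLE _ _ hDt).hom.toAlgebra
  haveI : IsScalarTower Γ(S, V.1) Γ(S, S.basicOpen t) Γ(X, X.basicOpen tX) := .of_algebraMap_eq fun r => by
    show _ = f.appLE _ _ hDt (S.presheaf.map (homOfLE (S.basicOpen_le t)).op r)
    rw [← CommRingCat.comp_apply, Scheme.Hom.map_appLE]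
    rfl
  let VU : U.toScheme.Opens := U.ι ⁻¹ᵁ S.basicOpen t
  let WU : (f ⁻¹ᵁ U).toScheme.Opens := (f ⁻¹ᵁ U).ι ⁻¹ᵁ X.basicOpen tX
  have eV : U.ι ''ᵁ VU = S.basicOpen t := by
    rw [Scheme.Hom.image_preimage_eq_opensRange_inf, Scheme.Opens.opensRange_ι, inf_eq_right.2 htU]
  have eW : (f ⁻¹ᵁ U).ι ''ᵁ WU = X.basicOpen tX := by
    rw [Scheme.Hom.image_preimage_eq_opensRange_inf, Scheme.Opens.opensRange_ι, inf_eq_right.2 hDU]
  have hVU : IsAffineOpen VU := by
    rw [← U.ι.isAffineOpen_iff_of_isOpenImmersion, eV]; exact hSt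
  have hWU : IsAffineOpen WU := by
    rw [← (f ⁻¹ᵁ U).ι.isAffineOpen_iff_of_isOpenImmersion, eW]; exact hD
  have eVW : WU ≤ (f ∣_ U) ⁻¹ᵁ VU := by
    intro z hz
    show ((f ∣_ U) ≫ U.ι) z ∈ S.basicOpen t
    rw [morphismRestrict_ι]
    exact hDt hz
  have hfl' : (f.appLE (S.basicOpen t) (X.basicOpen tX) hDt).hom.Flat := by
    have h1 := (f ∣_ U).flat_appLE hVU hWU eVW
    rw [morphismRestrict_appLE] at h1
    exact (f.appLE_congr _ eV eW (fun g => g.hom.Flat)).1 h1
  have hfp' : (f.appLE (S.basicOpen t) (X.basicOpen tX) hDt).hom.FinitePresentation := by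
    have h1 := (f ∣_ U).finitePresentation_appLE hVU hWU eVW
    rw [morphismRestrict_appLE] at h1
    exact (f.appLE_congr _ eV eW (fun g => g.hom.FinitePresentation)).1 h1
  haveI : Module.Flat Γ(S, S.basicOpen t) Γ(X, X.basicOpen tX) := hfl'
  haveI : Algebra.FinitePresentation Γ(S, S.basicOpen t) Γ(X, X.basicOpen tX) := hfp'
  haveI : Module.Flat Γ(S, V.1) Γ(S, S.basicOpen t) := IsLocalization.flat _ (Submonoid.powers t)
  haveI : Algebra.FinitePresentation Γ(S, V.1) Γ(S, S.basicOpen t) := IsLocalization.Away.finitePresentation t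
  haveI : Module.Flat Γ(S, V.1) Γ(X, X.basicOpen tX) := Module.Flat.trans _ Γ(S, S.basicOpen t) _
  haveI : Algebra.FinitePresentation Γ(S, V.1) Γ(X, X.basicOpen tX) :=
    Algebra.FinitePresentation.trans _ Γ(S, S.basicOpen t) _
  exact stGood_quotient_away (B' := Γ(X, X.basicOpen tX)) hθ t

/-- Flattening a scheme by an admissible blow-up. -/
theorem exists_flattening_scheme {X S : Scheme.{u}} [CompactSpace S] [QuasiSeparatedSpace S]
    (f : X ⟶ S) [LocallyOfFiniteType f] [QuasiCompact f] [QuasiSeparated f] (U : S.Opens) (hU : IsCompact (U : Set S))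
    [Flat (f ∣_ U)] [LocallyOfFinitePresentation (f ∣_ U)] :
    ∃ (𝓘 : S.IdealSheafData) (S' : Scheme.{u}) (b : S' ⟶ S), BlowUp.IsBlowUp b 𝓘 ∧ BlowUp.IsAdmissibleFor U 𝓘 ∧
      ModPair.interior 𝓘 = U ∧
      ∀ (X' : Scheme.{u}) (p₁ : X' ⟶ X) (p₂ : X' ⟶ S'), IsPullback p₁ p₂ f b →
      ∀ (𝒥 : X'.IdealSheafData),
        (∀ (V : X'.affineOpens) (a : Γ(X', V.1)), a ∈ 𝒥.ideal V ↔
          BlowUp.KilledByPowerNear ((𝓘.comap f).comap p₁) (Coh.structureModule X') V a) →
        Flat (𝒥.subschemeι ≫ p₂) ∧ LocallyOfFinitePresentation (𝒥.subschemeι ≫ p₂) ∧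
          QuasiCompact (𝒥.subschemeι ≫ p₂) ∧ QuasiSeparated (𝒥.subschemeι ≫ p₂) := by
  classical
  haveI : CompactSpace X := QuasiCompact.compactSpace_of_compactSpace f
  obtain ⟨K₀, hK₀, hK₀s⟩ := BlowSep.exists_ft_support_eq (U : Set S)ᶜ U.2.isClosed_compl (by rwa [compl_compl])
  choose V hV hxV _ using fun x : X => exists_isAffineOpen_mem_and_subset (x := f x) (U := ⊤) trivial
  choose W hW hxW hle using fun x : X => exists_isAffineOpen_mem_and_subset (x := x) (U := f ⁻¹ᵁ V x) (hxV x)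
  obtain ⟨σ, hσ⟩ := isCompact_univ.elim_finite_subcover (fun x : X => (W x : Set X))
    (fun x => (W x).2) (fun x _ => Set.mem_iUnion.2 ⟨x, hxW x⟩)
  let pt : Fin σ.card → X := fun i => (σ.equivFin.symm i).1
  choose I hI hIrad hIfl using fun i : Fin σ.card =>
    exists_scheme_chart f U hK₀ hK₀s ⟨V (pt i), hV _⟩ (W (pt i)) (hW _) (hle _)
  obtain ⟨𝓙, S', b, hb, hadm, hint, hch⟩ := exists_blowUp_charts U hU hK₀s (fun i => ⟨V (pt i), hV _⟩) I hI hIrad
  refine ⟨𝓙, S', b, hb, hadm, hint, fun X' p₁ p₂ hsq 𝒥 h𝒥 => ?_⟩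
  haveI : QuasiCompact p₂ := MorphismProperty.of_isPullback hsq inferInstance
  haveI : QuasiSeparated p₂ := MorphismProperty.of_isPullback hsq inferInstance
  have hEfg := isFG_of_isLocPrincipal (isLocPrincipal_exc hb hsq)
  have hloc : ∀ z : 𝒥.subscheme, ∃ (T : S'.affineOpens) (O : 𝒥.subscheme.affineOpens) (_ : z ∈ O.1)
      (e : O.1 ≤ (𝒥.subschemeι ≫ p₂) ⁻¹ᵁ T.1),
      ((𝒥.subschemeι ≫ p₂).appLE T.1 O.1 e).hom.Flat ∧ ((𝒥.subschemeι ≫ p₂).appLE T.1 O.1 e).hom.FinitePresentation := by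
    intro z
    let x' := 𝒥.subschemeι z
    obtain ⟨y, hy, hyW⟩ := Set.mem_iUnion₂.1 (hσ (Set.mem_univ (p₁ x')))
    let i := σ.equivFin ⟨y, hy⟩
    have hiW : p₁ x' ∈ W (pt i) := by
      simp only [pt, i, Equiv.symm_apply_apply]
      exact hyW
    have hbs : b (p₂ x') ∈ V (pt i) := by
      rw [← Scheme.Hom.comp_apply, ← hsq.w, Scheme.Hom.comp_apply]
      exact hle (pt i) hiW
    obtain ⟨T, hsT, hT, hTV, a, ha, hIa, haU⟩ := hch i (p₂ x') hbs
    let W' := p₁ ⁻¹ᵁ W (pt i) ⊓ p₂ ⁻¹ᵁ T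
    haveI : IsAffine (V (pt i)).toScheme := hV _
    haveI : IsAffine (W (pt i)).toScheme := hW _
    haveI : IsAffine T.toScheme := hT
    have hW' : IsAffineOpen W' :=
      .of_isIso (Scheme.Hom.isPullback_resLE hsq hTV (hle _) (rfl : W' = p₁ ⁻¹ᵁ W (pt i) ⊓ p₂ ⁻¹ᵁ T)).isoPullback.hom
    have hW1 : W' ≤ p₁ ⁻¹ᵁ W (pt i) := inf_le_left
    have hW2 : W' ≤ p₂ ⁻¹ᵁ T := inf_le_right
    have hpo := (isIso_pushoutSection_iff hsq (US := V (pt i)) (UX := W (pt i)) (UT := T) hTV (hle _) (UY := W') rfl).mp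
      (isIso_pushoutSection_of_isAffineOpen hsq (US := V (pt i)) (UX := W (pt i)) (UT := T) hTV (hle _) rfl (hV _) hT (hW _))
    letI : Algebra Γ(S, V (pt i)) Γ(X, W (pt i)) := (f.appLE _ _ (hle _)).hom.toAlgebra
    letI : Algebra Γ(S, V (pt i)) Γ(S', T) := (b.appLE _ T hTV).hom.toAlgebra
    letI : Algebra Γ(X, W (pt i)) Γ(X', W') := (p₁.appLE _ W' hW1).hom.toAlgebra
    letI : Algebra Γ(S', T) Γ(X', W') := (p₂.appLE T W' hW2).hom.toAlgebra
    letI : Algebra Γ(S, V (pt i)) Γ(X', W') := (f.appLE _ _ (hle _) ≫ p₁.appLE _ W' hW1).hom.toAlgebra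
    haveI : IsScalarTower Γ(S, V (pt i)) Γ(X, W (pt i)) Γ(X', W') := .of_algebraMap_eq fun _ => rfl
    haveI : IsScalarTower Γ(S, V (pt i)) Γ(S', T) Γ(X', W') := .of_algebraMap_eq fun x => congr($(hpo.w).hom x)
    haveI : Algebra.IsPushout Γ(S, V (pt i)) Γ(X, W (pt i)) Γ(S', T) Γ(X', W') :=
      CommRingCat.isPushout_iff_isPushout.mp hpo
    haveI : Algebra.IsPushout Γ(S, V (pt i)) Γ(S', T) Γ(X, W (pt i)) Γ(X', W') := Algebra.IsPushout.symm inferInstance
    let a' : Γ(X', W') := p₂.appLE T W' hW2 a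
    have hE : ModPair.interior ((𝓙.comap f).comap p₁) = (p₁ ≫ f) ⁻¹ᵁ U := by
      rw [← ModPairLib.preimage_interior, ← ModPairLib.preimage_interior, hint, Scheme.Hom.comp_preimage]
    have hDa : W' ⊓ (p₁ ≫ f) ⁻¹ᵁ U = X'.basicOpen a' := by
      simp only [a', Scheme.Hom.appLE]
      rw [CommRingCat.comp_apply, Scheme.basicOpen_res, ← Scheme.preimage_basicOpen]
      ext w
      refine and_congr_right fun hw => ?_
      show (p₁ ≫ f) w ∈ U ↔ p₂ w ∈ S'.basicOpen a
      rw [haU _ (hW2 hw), hsq.w]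
      rfl
    have hJ : ∀ x : Γ(X', W'), x ∈ 𝒥.ideal ⟨W', hW'⟩ ↔ ∃ n : ℕ, algebraMap Γ(S', T) Γ(X', W') a ^ n * x = 0 :=
      fun x => by
        refine ((h𝒥 ⟨W', hW'⟩ x).trans (killed_iff_cutRes hEfg isQCoh_structureModule _ _)).trans ?_
        rw [hE]
        refine ⟨fun h0 => ?_, fun ⟨n, hn⟩ => ?_⟩
        · exact exists_pow_smul_eq_zero isQCoh_structureModule hW' a' x
            (map_eq_zero_of_le (M := Coh.structureModule X') inf_le_left hDa.ge x h0)
        · refine map_eq_zero_of_le (M := Coh.structureModule X') (X'.basicOpen_le a') hDa.le x ?_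
          have h1 := (map_smul' (M := Coh.structureModule X') (homOfLE (X'.basicOpen_le a')) (a' ^ n) x).symm.trans
            ((congrArg _ (show a' ^ n • (x : Γ(Coh.structureModule X', W')) = 0 from hn)).trans (map_zero _))
          have hu : IsUnit (X'.presheaf.map (homOfLE (X'.basicOpen_le a')).op a') :=
            X'.toRingedSpace.isUnit_res_basicOpen a'
          rw [map_pow] at h1
          exact (IsUnit.smul_eq_zero (hu.pow n)).1 h1
    obtain ⟨hflat, hfp⟩ := hIfl i Γ(S', T) a hIa ha Γ(X', W') (𝒥.ideal ⟨W', hW'⟩) hJ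
    let O : 𝒥.subscheme.affineOpens := ⟨𝒥.subschemeι ⁻¹ᵁ W', hW'.preimage 𝒥.subschemeι⟩
    have eO : O.1 ≤ (𝒥.subschemeι ≫ p₂) ⁻¹ᵁ T := fun w hw => hW2 hw
    refine ⟨⟨T, hT⟩, O, ⟨hiW, hsT⟩, eO, ?_⟩
    let α := CommRingCat.ofHom (algebraMap Γ(S', T) (Γ(X', W') ⧸ 𝒥.ideal ⟨W', hW'⟩))
    have hα : (𝒥.subschemeι ≫ p₂).appLE T O.1 eO = α ≫ (𝒥.subschemeObjIso ⟨W', hW'⟩).inv := by
      rw [← Scheme.Hom.appLE_comp_appLE _ _ T W' O.1 hW2 le_rfl]
      show _ ≫ _ = _
      rw [← Scheme.Hom.app_eq_appLE]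
      erw [𝒥.subschemeι_app ⟨W', hW'⟩]
      rfl
    rw [hα]
    constructor
    · rw [CommRingCat.hom_comp]
      exact RingHom.Flat.respectsIso.1 _ (𝒥.subschemeObjIso ⟨W', hW'⟩).symm.commRingCatIsoToRingEquiv
        (RingHom.flat_algebraMap_iff.2 hflat)
    · rw [CommRingCat.hom_comp]
      exact RingHom.finitePresentation_respectsIso.1 _ (𝒥.subschemeObjIso ⟨W', hW'⟩).symm.commRingCatIsoToRingEquiv
        (RingHom.finitePresentation_algebraMap.2 hfp)
  refine ⟨(HasRingHomProperty.iff_exists_appLE (P := @Flat) ?_).2 fun z => ?_,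
    (HasRingHomProperty.iff_exists_appLE (P := @LocallyOfFinitePresentation) ?_).2 fun z => ?_, inferInstance, inferInstance⟩
  · exact RingHom.Flat.stableUnderComposition.stableUnderCompositionWithLocalizationAway
      RingHom.Flat.holdsForLocalizationAway |>.1
  · obtain ⟨T, O, hz, e, h, -⟩ := hloc z
    exact ⟨T, O, hz, e, h⟩
  · exact RingHom.finitePresentation_stableUnderComposition.stableUnderCompositionWithLocalizationAway
      RingHom.finitePresentation_holdsForLocalizationAway |>.1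
  · obtain ⟨T, O, hz, e, -, h⟩ := hloc z
    exact ⟨T, O, hz, e, h⟩

end Groth.Agent.StrictAlg
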