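import Groth.Agent.StrictAlg.SchemeCase
import Groth.Agent.AlgSpDec.FibreDimEtale
import Groth.Agent.S1240
import Groth.Prelude.Def_Mor2
import Mathlib.AlgebraicGeometry.ZariskisMainTheorem

/-!
# Strict transforms of proper morphisms that are finite locally free over an open
-/

set_option autoImplicit false
set_option linter.style.haveILetI false
set_option backward.isDefEq.respectTransparency false
set_option backward.isDefEq.respectTransparency.types false
attribute [-instance] CategoryTheory.catToReflQuiver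

universe u

open CategoryTheory CategoryTheory.Limits AlgebraicGeometry TopologicalSpace

namespace Groth.Agent.StrictAlg

theorem exists_finLocFree_strict {X S : Scheme.{u}} [CompactSpace S] [QuasiSeparatedSpace S]
    (φ : X ⟶ S) [IsProper φ] (U : S.Opens) (hU : IsCompact (U : Set S)) (hfl : Mor2.IsFinLocFree (φ ∣_ U)) :
    ∃ (𝓘 : S.IdealSheafData) (S' : Scheme.{u}) (b : S' ⟶ S), BlowUp.IsBlowUp b 𝓘 ∧ BlowUp.IsAdmissibleFor U 𝓘 ∧
      ∀ (X' : Scheme.{u}) (p₁ : X' ⟶ X) (p₂ : X' ⟶ S'), IsPullback p₁ p₂ φ b →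
      ∀ (𝒥 : X'.IdealSheafData),
        (∀ (W : X'.affineOpens) (a : Γ(X', W.1)), a ∈ 𝒥.ideal W ↔
          BlowUp.KilledByPowerNear ((𝓘.comap φ).comap p₁) (Coh.structureModule X') W a) →
        Mor2.IsFinLocFree (𝒥.subschemeι ≫ p₂) := by
  obtain ⟨hfin, hflat, hlfp⟩ := hfl
  obtain ⟨𝓙, S', b, hb, hadm, hint, h⟩ := exists_flattening_scheme φ U hU
  refine ⟨𝓙, S', b, hb, hadm, fun X' p₁ p₂ hsq 𝒥 h𝒥 => ?_⟩
  obtain ⟨hF, hP, -, -⟩ := h X' p₁ p₂ hsq 𝒥 h𝒥
  haveI := hF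
  haveI := hP
  let q := 𝒥.subschemeι ≫ p₂
  let U' := b ⁻¹ᵁ U
  haveI : IsProper p₂ := MorphismProperty.of_isPullback hsq inferInstance
  haveI : IsFinite (p₂ ∣_ U') := by
    have h1 : IsPullback (p₂ ∣_ U') ((p₂ ⁻¹ᵁ U').ι ≫ p₁) (U'.ι ≫ b) φ :=
      (isPullback_morphismRestrict p₂ U').paste_vert hsq.flip
    have hle : p₂ ⁻¹ᵁ U' ≤ p₁ ⁻¹ᵁ (φ ⁻¹ᵁ U) := by
      rw [← Scheme.Hom.comp_preimage, ← Scheme.Hom.comp_preimage, hsq.w]
    let u := p₁.resLE (φ ⁻¹ᵁ U) (p₂ ⁻¹ᵁ U') hle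
    let v := b.resLE U U' le_rfl
    rw [← Scheme.Hom.resLE_comp_ι b (U := U) (V := U') le_rfl, ← Scheme.Hom.resLE_comp_ι p₁ (U := φ ⁻¹ᵁ U) (V := p₂ ⁻¹ᵁ U') hle] at h1
    have h2 : IsPullback (p₂ ∣_ U') u v (φ ∣_ U) := by
      refine IsPullback.of_bot h1 ?_ (isPullback_morphismRestrict φ U)
      rw [← cancel_mono U.ι, Category.assoc, Category.assoc, Scheme.Hom.resLE_comp_ι, morphismRestrict_ι,
        morphismRestrict_ι_assoc, Scheme.Hom.resLE_comp_ι_assoc, hsq.w]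
    exact MorphismProperty.of_isPullback h2.flip hfin
  haveI : IsFinite (q ∣_ U') := by
    rw [morphismRestrict_comp]
    infer_instance
  haveI : LocallyQuasiFinite q := by
    rw [AlgSpDec.lqf_iff_fibreDimAt]
    intro x
    refine le_antisymm (Groth.Agent.S1240.result q U' ?_ 0 (fun y hy => ?_) (.inl hP) x) ?_
    · haveI := ModPairLib.isSchemeTheoreticallyDominant_interior hb.1
      haveI := ModPairLib.isAffineHom_interior (ModPairLib.isLocPrincipal_of_isEffCartier hb.1)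
      have h1 := (ModPair.interior (𝓙.comap b)).ι.denseRange
      rw [DenseRange, Scheme.Opens.range_ι, ← ModPairLib.preimage_interior, hint] at h1
      exact h1
    · have h1 := AlgSpDec.fibreDimAt_eq_zero_of_lqf (q ∣_ U') ⟨y, hy⟩
      rw [FibDim.fibreDimAt_baseChange (isPullback_morphismRestrict q U').flip] at h1
      exact h1.le
    · rw [← AlgSpDec.fibreDimAt_eq_zero_of_lqf (𝟙 X') (𝒥.subschemeι x)]
      refine le_iInf fun V => ?_
      rw [AlgSpDec.fibreDimAt_eq_zero_of_lqf (𝟙 X') (𝒥.subschemeι x)]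
      haveI : Nonempty (TopologicalSpace.IrreducibleCloseds ↥(V.1 : Set (q.fiber (q x)))) :=
        ⟨⟨closure ({⟨_, V.2⟩} : Set ↥(V.1 : Set (q.fiber (q x)))), isIrreducible_singleton.closure, isClosed_closure⟩⟩
      exact Order.krullDim_nonneg
  exact ⟨IsFinite.of_isProper_of_locallyQuasiFinite q, hF, hP⟩

end Groth.Agent.StrictAlg
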