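import Groth.Agent.StrictAlg.SchemeCase
import Groth.Agent.S14790
import Groth.Agent.FDescent.QuasiFlat
import Groth.Agent.EtDescX.OpenDesc
import Groth.Agent.EtDescX.SubtrLimit
import Groth.Agent.MorLib.OpenGeneralizing
import Groth.Agent.S14786
import Groth.Agent.LimSm.Model
import Groth.Agent.H23.RedSub

/-!
# Flattening universally open morphisms up to nilpotents
-/

set_option autoImplicit false
set_option linter.style.haveILetI false
set_option backward.isDefEq.respectTransparency false
set_option backward.isDefEq.respectTransparency.types false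
attribute [-instance] CategoryTheory.catToReflQuiver

universe u

open CategoryTheory CategoryTheory.Limits AlgebraicGeometry TopologicalSpace

namespace Groth.Agent.StrictAlg

/-- The functions killed by powers of a locally principal ideal form an ideal sheaf. -/
theorem exists_killed_ideal {Z : Scheme.{u}} (E : Z.IdealSheafData) (hEl : ModPairLib.IsLocPrincipal E) :
    ∃ 𝒥 : Z.IdealSheafData, ∀ (W : Z.affineOpens) (a : Γ(Z, W.1)),
      a ∈ 𝒥.ideal W ↔ BlowUp.KilledByPowerNear E (Coh.structureModule Z) W a := by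
  haveI := ModPairLib.isAffineHom_interior hEl
  refine ⟨(ModPair.interior E).ι.ker, fun W a => ?_⟩
  rw [StrictFun.killed_iff_cutRes (StrictFun.isFG_of_isLocPrincipal hEl) QCoh.isQCoh_structureModule,
    Scheme.Hom.ker_apply, RingHom.mem_ker]
  have e1 : (ModPair.interior E).ι ''ᵁ ((ModPair.interior E).ι ⁻¹ᵁ W.1) = W.1 ⊓ ModPair.interior E := by
    rw [Scheme.Hom.image_preimage_eq_opensRange_inf, Scheme.Opens.opensRange_ι, inf_comm]
  have key : ∀ {A B C : Z.Opens} (h₁ : B ≤ A) (h₂ : C ≤ B) (x : Γ(Z, A)),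
      Z.presheaf.map (homOfLE h₂).op (Z.presheaf.map (homOfLE h₁).op x) = Z.presheaf.map (homOfLE (h₂.trans h₁)).op x :=
    fun h₁ h₂ x => by
      rw [← CommRingCat.comp_apply, ← Functor.map_comp]
      rfl
  have hI : (ModPair.interior E).ι ''ᵁ ((ModPair.interior E).ι ⁻¹ᵁ W.1) ≤ W.1 := e1.le.trans inf_le_left
  rw [Scheme.Opens.ι_app]
  show Z.presheaf.map (homOfLE hI).op a = 0 ↔ _
  constructor <;> intro h0
  · show Z.presheaf.map (homOfLE (inf_le_left : W.1 ⊓ ModPair.interior E ≤ W.1)).op a = 0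
    refine (key hI e1.ge a).symm.trans ?_
    rw [h0, map_zero]
  · refine (key (inf_le_left : W.1 ⊓ ModPair.interior E ≤ W.1) e1.le a).symm.trans ?_
    rw [show Z.presheaf.map (homOfLE (inf_le_left : W.1 ⊓ ModPair.interior E ≤ W.1)).op a = 0 from h0, map_zero]

/-- The reduced Noetherian case. -/
theorem exists_nilImmersion_flat_of_reduced {X Y : Scheme.{u}} [IsNoetherian Y] [AlgebraicGeometry.IsReduced Y] (f : X ⟶ Y)
    [LocallyOfFiniteType f] [QuasiCompact f] [QuasiSeparated f] [UniversallyOpen f] [Surjective f] :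
    ∃ (Y' : Scheme.{u}) (q : Y' ⟶ Y) (X' : Scheme.{u}) (r : X' ⟶ pullback f q),
      IsProper q ∧ Surjective q ∧ IsClosedImmersion r ∧ Surjective r ∧
      Flat (r ≫ pullback.snd f q) ∧ LocallyOfFinitePresentation (r ≫ pullback.snd f q) := by
  classical
  haveI : LocallyOfFinitePresentation f := inferInstance
  have hgen : IsCompact {y : Y | ∀ y' : Y, y' ⤳ y → y' = y} := by
    have h1 : {y : Y | ∀ y' : Y, y' ⤳ y → y' = y} ⊆
        (fun y => closure {y}) ⁻¹' irreducibleComponents Y := fun y hy => by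
      show closure {y} ∈ irreducibleComponents Y
      refine ⟨isIrreducible_singleton.closure, fun Z hZ hle => ?_⟩
      obtain ⟨z, hz⟩ := QuasiSober.sober hZ.closure isClosed_closure
      have hzy : z ⤳ y := specializes_iff_mem_closure.2
        (hz.def.ge (subset_closure (hle (subset_closure (Set.mem_singleton y)))))
      rw [← hy z hzy, hz.def]
      exact subset_closure
    refine Set.Finite.isCompact (Set.Finite.subset (Set.Finite.preimage (fun a _ b _ h => ?_)
      (TopologicalSpace.NoetherianSpace.finite_irreducibleComponents (α := Y))) h1)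
    exact Inseparable.eq (inseparable_iff_closure_eq.2 h)
  obtain ⟨U, hUd, hUc, hUflat⟩ := Groth.Agent.S14790.result hgen f
  haveI := hUflat
  haveI : LocallyOfFinitePresentation (f ∣_ U) :=
    MorphismProperty.of_isPullback (P := @LocallyOfFinitePresentation) (isPullback_morphismRestrict f U).flip ‹_›
  obtain ⟨𝓙, Y', b, hb, hadm, hint, h⟩ := exists_flattening_scheme f U hUc
  haveI := BlowUpLib.isProper_of_isBlowUp 𝓙 hb hadm.1
  haveI := ModPairLib.isAffineHom_interior (ModPairLib.isLocPrincipal_of_isEffCartier hb.1)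
  haveI := ModPairLib.isSchemeTheoreticallyDominant_interior hb.1
  haveI : IsIso (b ∣_ U) := BlowUpLib.isIso_restrict hb U hint.ge
  have hbs : Surjective b := ⟨fun y => by
    have h1 : (U : Set Y) ⊆ Set.range b := fun u hu => by
      obtain ⟨v, hv⟩ := (asIso (b ∣_ U)).hom.surjective ⟨u, hu⟩
      refine ⟨(b ⁻¹ᵁ U).ι v, ?_⟩
      show ((b ⁻¹ᵁ U).ι ≫ b) v = u
      rw [← morphismRestrict_ι, Scheme.Hom.comp_apply]
      exact congrArg U.ι hv
    exact closure_minimal h1 b.isClosedMap.isClosed_range (hUd y)⟩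
  let p₁ := pullback.fst f b
  let p₂ := pullback.snd f b
  have hsq : IsPullback p₁ p₂ f b := IsPullback.of_hasPullback f b
  haveI : UniversallyOpen p₂ := MorphismProperty.of_isPullback hsq ‹_›
  obtain ⟨𝒥, h𝒥⟩ : ∃ 𝒥 : (pullback f b).IdealSheafData, ∀ (W : (pullback f b).affineOpens) (a : Γ(pullback f b, W.1)),
      a ∈ 𝒥.ideal W ↔ BlowUp.KilledByPowerNear ((𝓙.comap f).comap p₁) (Coh.structureModule (pullback f b)) W a :=
    exists_killed_ideal _ (StrictFun.isLocPrincipal_exc hb hsq)
  obtain ⟨hF, hP, -, -⟩ := h _ p₁ p₂ hsq 𝒥 h𝒥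
  refine ⟨Y', b, 𝒥.subscheme, 𝒥.subschemeι, inferInstance, hbs, inferInstance, ⟨fun x => ?_⟩, hF, hP⟩
  suffices x ∈ (𝒥.support : Set ↥(pullback f b)) by
    rw [← Scheme.IdealSheafData.range_subschemeι] at this
    exact this
  obtain ⟨u, hu⟩ := FDescent.exists_specializes_of_mem_closure_range
    (ModPair.interior (𝓙.comap b)).ι ((ModPair.interior (𝓙.comap b)).ι.denseRange (p₂ x))
  have huU : b ((ModPair.interior (𝓙.comap b)).ι u) ∈ U := by
    have h2 : (ModPair.interior (𝓙.comap b)).ι u ∈ b ⁻¹ᵁ U := by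
      rw [← hint, ModPairLib.preimage_interior]
      exact u.2
    exact h2
  obtain ⟨x', hxx', hx'u⟩ := MorLib.generalizingMap_of_isOpenMap p₂ p₂.isOpenMap hu
  refine hxx'.mem_closed 𝒥.support.isClosed ?_
  obtain ⟨_, ⟨W, hW, rfl⟩, hxW, -⟩ :=
    (pullback f b).isBasis_affineOpens.exists_subset_of_mem_open (Set.mem_univ x') isOpen_univ
  refine (BlowSep.mem_support_iff_notMem 𝒥 (U := ⟨W, hW⟩) hxW).2 fun a ha hxa => ?_
  have hE := StrictFun.isFG_of_isLocPrincipal (StrictFun.isLocPrincipal_exc hb hsq)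
  have h0 := (StrictFun.killed_iff_cutRes hE QCoh.isQCoh_structureModule ⟨W, hW⟩ a).1
    ((h𝒥 ⟨W, hW⟩ a).1 ha)
  have hxI : x' ∈ ModPair.interior ((𝓙.comap f).comap p₁) := by
    rw [← ModPairLib.preimage_interior, ← ModPairLib.preimage_interior, hint]
    show f (p₁ x') ∈ U
    rw [← Scheme.Hom.comp_apply, hsq.w, Scheme.Hom.comp_apply, hx'u]
    exact huU
  have h1 : x' ∈ (pullback f b).basicOpen ((pullback f b).presheaf.map (homOfLE (inf_le_left :
      W ⊓ ModPair.interior ((𝓙.comap f).comap p₁) ≤ W)).op a) := by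
    rw [Scheme.basicOpen_res]
    exact ⟨⟨hxW, hxI⟩, hxa⟩
  rw [show (pullback f b).presheaf.map (homOfLE (inf_le_left :
      W ⊓ ModPair.interior ((𝓙.comap f).comap p₁) ≤ W)).op a = 0 from h0, Scheme.basicOpen_zero] at h1
  exact h1

/-- The Noetherian case. -/
theorem exists_nilImmersion_flat_of_noetherian {X Y : Scheme.{u}} [IsNoetherian Y] (f : X ⟶ Y)
    [LocallyOfFiniteType f] [QuasiCompact f] [QuasiSeparated f] [UniversallyOpen f] [Surjective f] :
    ∃ (Y' : Scheme.{u}) (q : Y' ⟶ Y) (X' : Scheme.{u}) (r : X' ⟶ pullback f q),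
      IsProper q ∧ Surjective q ∧ LocallyOfFinitePresentation q ∧ IsClosedImmersion r ∧ Surjective r ∧
      Flat (r ≫ pullback.snd f q) ∧ LocallyOfFinitePresentation (r ≫ pullback.snd f q) := by
  let ι := Y.nilradical.subschemeι
  haveI : AlgebraicGeometry.IsReduced Y.nilradical.subscheme := H23.RedSub.isReduced_nilradical Y
  haveI : IsLocallyNoetherian Y.nilradical.subscheme := LocallyOfFiniteType.isLocallyNoetherian ι
  haveI : CompactSpace Y.nilradical.subscheme := QuasiCompact.compactSpace_of_compactSpace ι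
  haveI : IsNoetherian Y.nilradical.subscheme := {}
  haveI hιs : Surjective ι := ⟨fun y => by
    have : y ∈ Set.range ι := by
      rw [Scheme.IdealSheafData.range_subschemeι, Scheme.support_nilradical]
      trivial
    exact this⟩
  haveI : UniversallyOpen (pullback.snd f ι) := MorphismProperty.pullback_snd _ _ ‹_›
  obtain ⟨Y', q, X', r, hq, hqs, hr, hrs, hfl, hfp⟩ := exists_nilImmersion_flat_of_reduced (pullback.snd f ι)
  let e := pullbackLeftPullbackSndIso f ι q
  have he : e.hom ≫ pullback.snd f (q ≫ ι) = pullback.snd _ q := pullbackLeftPullbackSndIso_hom_snd f ι q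
  refine ⟨Y', q ≫ ι, X', r ≫ e.hom, inferInstance, inferInstance, inferInstance, inferInstance, inferInstance, ?_, ?_⟩
  · rwa [Category.assoc, he]
  · rwa [Category.assoc, he]

/-- Refinement of a universally open morphism by a proper one and a flat one, up to nilpotents. -/
theorem exists_nilImmersion_flat {X Y : Scheme.{u}}
    (f : X ⟶ Y) (hY : IsAffine Y ∨ IsNoetherian Y) [LocallyOfFinitePresentation f] [QuasiCompact f] [QuasiSeparated f]
    [UniversallyOpen f] [Surjective f] :
    ∃ (Y' : Scheme.{u}) (q : Y' ⟶ Y) (X' : Scheme.{u}) (r : X' ⟶ pullback f q),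
      IsProper q ∧ Surjective q ∧ LocallyOfFinitePresentation q ∧
      IsClosedImmersion r ∧ Surjective r ∧
      Flat (r ≫ pullback.snd f q) ∧ Surjective (r ≫ pullback.snd f q) ∧
      LocallyOfFinitePresentation (r ≫ pullback.snd f q) ∧ QuasiCompact (r ≫ pullback.snd f q) ∧
      QuasiSeparated (r ≫ pullback.snd f q) := by
  suffices ∃ (Y' : Scheme.{u}) (q : Y' ⟶ Y) (X' : Scheme.{u}) (r : X' ⟶ pullback f q),
      IsProper q ∧ Surjective q ∧ LocallyOfFinitePresentation q ∧ IsClosedImmersion r ∧ Surjective r ∧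
      Flat (r ≫ pullback.snd f q) ∧ LocallyOfFinitePresentation (r ≫ pullback.snd f q) by
    obtain ⟨Y', q, X', r, hq, hqs, hqp, hr, hrs, hfl, hfp⟩ := this
    exact ⟨Y', q, X', r, hq, hqs, hqp, hr, hrs, hfl, inferInstance, hfp, inferInstance, inferInstance⟩
  rcases hY with hY | hY
  swap
  · exact exists_nilImmersion_flat_of_noetherian f
  obtain ⟨A, e, he⟩ : ∃ (A : CommRingCat.{u}) (e : Y ⟶ Spec A), IsIso e := ⟨Γ(Y, ⊤), Y.isoSpec.hom, inferInstance⟩
  obtain ⟨A₀, hA₀, X₀, f₀, g, h1, h2, h3, h4, h5, sq⟩ := LimSm.exists_model_over_fg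
    (P := @UniversallyOpen) (P' := Subtr.UnivSSubtrusive) UOpenFP.core EtDescX.core_univSSubtrusive
    (fun _ h => h) (fun _ h => h) A (f ≫ e) inferInstance (EtDescX.univSSubtrusive_of_universallyOpen _)
  haveI := h1
  haveI := h3
  haveI := h4
  haveI := h5
  haveI : Algebra.FiniteType ℤ A₀ := A₀.fg_iff_finiteType.1 hA₀
  haveI : IsNoetherianRing A₀ := Algebra.FiniteType.isNoetherianRing ℤ A₀
  haveI : IsNoetherianRing (CommRingCat.of A₀) := ‹IsNoetherianRing A₀›
  haveI : Surjective f₀ := ⟨fun y => by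
    obtain ⟨x, -, -, hx, -⟩ := h2 (𝟙 _) (𝟙 _) f₀ IsPullback.of_id_snd (specializes_refl y)
    exact ⟨x, hx⟩⟩
  obtain ⟨Y', q, X', r, hq, hqs, hqp, hr, hrs, hfl, hfp⟩ := exists_nilImmersion_flat_of_noetherian f₀
  let t : Y ⟶ Spec (CommRingCat.of A₀) := e ≫ Spec.map (CommRingCat.ofHom (algebraMap A₀ A))
  have sq' : IsPullback g f f₀ t := sq.of_iso (Iso.refl _) (Iso.refl _) (asIso e).symm (Iso.refl _)
    (by simp) (by simp) (by simp) (by simp [t])
  let Q : pullback t q ⟶ Y := pullback.fst t q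
  haveI : IsProper Q := MorphismProperty.pullback_fst _ _ hq
  haveI : Surjective Q := MorphismProperty.pullback_fst _ _ hqs
  haveI : LocallyOfFinitePresentation Q := MorphismProperty.pullback_fst _ _ hqp
  let m : pullback f Q ⟶ pullback f₀ q := pullback.lift (pullback.fst f Q ≫ g) (pullback.snd f Q ≫ pullback.snd t q) (by
    rw [Category.assoc, sq'.w, pullback.condition_assoc, Category.assoc, pullback.condition])
  have hm : IsPullback m (pullback.snd f Q) (pullback.snd f₀ q) (pullback.snd t q) := by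
    refine IsPullback.of_right ?_ (pullback.lift_snd _ _ _) (IsPullback.of_hasPullback f₀ q)
    have h6 := (IsPullback.of_hasPullback f Q).paste_horiz sq'
    rw [pullback.lift_fst]
    rwa [show Q ≫ t = pullback.snd t q ≫ q from pullback.condition] at h6
  have hr' := (IsPullback.of_hasPullback r m).paste_vert hm.flip.flip
  refine ⟨_, Q, _, pullback.snd r m, inferInstance, inferInstance, inferInstance, inferInstance, inferInstance,
    MorphismProperty.of_isPullback hr' hfl, MorphismProperty.of_isPullback hr' hfp⟩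

end Groth.Agent.StrictAlg
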