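import Groth.Agent.StrictAlg.Sheaf

/-!
# A common blow-up for ideals on affine opens
-/

set_option autoImplicit false
set_option linter.style.haveILetI false
set_option backward.isDefEq.respectTransparency false
set_option backward.isDefEq.respectTransparency.types false
attribute [-instance] CategoryTheory.catToReflQuiver

universe u

open CategoryTheory CategoryTheory.Limits AlgebraicGeometry TopologicalSpace Opposite
open Scheme (IdealSheafData)

namespace Groth.Agent.StrictAlg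

open Groth.Agent.QCoh Groth.Agent.StrictFun

/-- One admissible blow-up making finitely many given ideals on affine opens principal. -/
theorem exists_blowUp_charts {S : Scheme.{u}} [CompactSpace S] [QuasiSeparatedSpace S] (U : S.Opens)
    (hU : IsCompact (U : Set S)) {K₀ : S.IdealSheafData} (hK₀s : (K₀.support : Set S) = (U : Set S)ᶜ) {k : ℕ}
    (V : Fin k → S.affineOpens) (I : ∀ i, Ideal Γ(S, (V i).1)) (hI : ∀ i, (I i).FG)
    (hIrad : ∀ i, (I i).radical = (K₀.ideal (V i)).radical) :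
    ∃ (𝓙 : S.IdealSheafData) (S' : Scheme.{u}) (b : S' ⟶ S), BlowUp.IsBlowUp b 𝓙 ∧
      BlowUp.IsAdmissibleFor U 𝓙 ∧ ModPair.interior 𝓙 = U ∧
      ∀ i (s : S'), b s ∈ (V i).1 → ∃ (T : S'.Opens) (_ : s ∈ T) (_ : IsAffineOpen T) (hTV : T ≤ b ⁻¹ᵁ (V i).1)
        (a : Γ(S', T)), a ∈ nonZeroDivisors Γ(S', T) ∧
          (I i).map (b.appLE (V i).1 T hTV).hom = Ideal.span {a} ∧ ∀ z ∈ T, z ∈ S'.basicOpen a ↔ b z ∈ U := by
  haveI : ∀ i, IsAffine (V i).1.toScheme := fun i => (V i).2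
  haveI : ∀ i, QuasiCompact (V i).1.ι := fun i => by
    haveI : CompactSpace (V i).1.toScheme := isCompact_iff_compactSpace.mp (V i).2.isCompact
    exact quasiCompact_of_compactSpace _
  let φ := fun i => (V i).1.ι.appLE (V i).1 ⊤ (by simp)
  let 𝓘 : ∀ i, (V i).1.toScheme.IdealSheafData := fun i => IdealSheafData.ofIdealTop ((I i).map (φ i).hom)
  have htop : ∀ i, (𝓘 i).ideal ⟨⊤, isAffineOpen_top _⟩ = (I i).map (φ i).hom := fun i => by
    simp only [𝓘, IdealSheafData.ofIdealTop_ideal]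
    erw [(V i).1.toScheme.presheaf.map_id, Ideal.map_id]
  have hK₀U : ∀ i (z : S) (hz : z ∈ (V i).1),
      (K₀.ideal (V i) ≤ ((V i).2.primeIdealOf ⟨z, hz⟩).asIdeal ↔ z ∉ U) :=
    fun i z hz => (BlowSep.mem_support_iff_le_prime K₀ (U := V i) hz).symm.trans (by rw [hK₀s]; rfl)
  have hadm : ∀ i, BlowUp.IsAdmissibleFor ((V i).1.ι ⁻¹ᵁ U) (𝓘 i) := fun i => by
    refine ⟨fun O => ?_, Set.disjoint_left.2 fun z hz hzU => ?_⟩
    · simp only [𝓘, IdealSheafData.ofIdealTop_ideal]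
      exact ((hI i).map _).map _
    · have h1 := (BlowSep.mem_support_iff_le_prime (𝓘 i) (U := ⟨⊤, isAffineOpen_top _⟩) (x := z) trivial).1 hz
      rw [htop, Ideal.map_le_iff_le_comap] at h1
      replace h1 := h1.trans (le_of_eq (congrArg PrimeSpectrum.asIdeal
        (IsAffineOpen.comap_primeIdealOf_appLE (f := (V i).1.ι) (V i).1 (V i).2 ⊤
          (isAffineOpen_top (V i).1.toScheme) (by simp) (x := z) trivial)))
      have h2 := ((V i).2.primeIdealOf ⟨(V i).1.ι z, z.2⟩).isPrime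
      rw [← h2.radical_le_iff, hIrad i, h2.radical_le_iff] at h1
      exact (hK₀U i _ z.2).1 h1 hzU
  obtain ⟨𝓙, S', b, hb, hadm', hint, hcart⟩ := exists_common_blowUp U hU (fun i => (V i).1.toScheme)
    (fun i => (V i).1.ι) 𝓘 hadm
  refine ⟨𝓙, S', b, hb, hadm', hint, fun i s hs => ?_⟩
  obtain ⟨T₀, hT₀, hsT₀, hT₀V⟩ := exists_isAffineOpen_mem_and_subset (x := s) (U := b ⁻¹ᵁ (V i).1) hs
  let r := b.resLE (V i).1 T₀ hT₀V
  let g : T₀.toScheme ⟶ pullback (V i).1.ι b := pullback.lift r T₀.ι (Scheme.Hom.resLE_comp_ι _ _)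
  haveI : IsOpenImmersion g := by
    haveI : IsOpenImmersion (g ≫ pullback.snd (V i).1.ι b) := by rw [pullback.lift_snd]; infer_instance
    exact IsOpenImmersion.of_comp g (pullback.snd (V i).1.ι b)
  have hc := BlowUpLib.isEffCartier_comap_flat g (hcart i)
  rw [← IdealSheafData.comap_comp, pullback.lift_fst] at hc
  obtain ⟨T', hsT', f₀, hf₀, hf₀e⟩ := hc ⟨s, hsT₀⟩
  rw [ModPairLib.ideal_comap (𝓘 i) r ⟨⊤, isAffineOpen_top _⟩ T' le_top, htop] at hf₀e
  let T := T₀.ι ''ᵁ T'.1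
  have hTT₀ : T ≤ T₀ := by
    rintro _ ⟨z, -, rfl⟩
    exact z.2
  have hTV : T ≤ b ⁻¹ᵁ (V i).1 := hTT₀.trans hT₀V
  have hT : IsAffineOpen T := T'.2.image_of_isOpenImmersion T₀.ι
  let e := T₀.ι.appIso T'.1
  have hcomp : φ i ≫ r.appLE ⊤ T'.1 le_top = b.appLE (V i).1 T hTV ≫ e.hom := by
    rw [Scheme.Hom.appIso_hom', Scheme.Hom.appLE_comp_appLE, Scheme.Hom.appLE_comp_appLE]
    simp only [r, Scheme.Hom.resLE_comp_ι]
  rw [Ideal.map_map, ← CommRingCat.hom_comp, hcomp, CommRingCat.hom_comp, ← Ideal.map_map] at hf₀e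
  let er := e.commRingCatIsoToRingEquiv
  have hIa : (I i).map (b.appLE (V i).1 T hTV).hom = Ideal.span {er.symm f₀} := by
    have h1 := congrArg (Ideal.map er.symm.toRingHom) hf₀e
    rw [Ideal.map_map, Ideal.map_span, Set.image_singleton] at h1
    convert h1 using 1
    · rw [Ideal.map_map]
      congr 1
      ext z
      exact (er.symm_apply_apply _).symm
    · rfl
  refine ⟨T, ⟨⟨s, hsT₀⟩, hsT', rfl⟩, hT, hTV, er.symm f₀,
    mem_nonZeroDivisors_iff_right.2 fun z hz => er.injective ((mem_nonZeroDivisors_iff_right.1 hf₀ _ (by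
      rw [← er.apply_symm_apply f₀, ← map_mul, hz, map_zero])).trans (map_zero er).symm), hIa, fun z hz => ?_⟩
  have hcp : (hT.primeIdealOf ⟨z, hz⟩).asIdeal.comap (b.appLE (V i).1 T hTV).hom =
      ((V i).2.primeIdealOf ⟨b z, hTV hz⟩).asIdeal :=
    congrArg PrimeSpectrum.asIdeal (IsAffineOpen.comap_primeIdealOf_appLE (f := b) (V i).1 (V i).2 T hT hTV hz)
  rw [← not_iff_not, ← BlowSep.prime_iff hT hz, ← hK₀U i (b z) (hTV hz), ← Ideal.span_singleton_le_iff_mem,
    ← hIa, Ideal.map_le_iff_le_comap, hcp]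
  have h2 := ((V i).2.primeIdealOf ⟨b z, hTV hz⟩).isPrime
  rw [← h2.radical_le_iff, hIrad i, h2.radical_le_iff]

end Groth.Agent.StrictAlg
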