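import Groth.Prelude.Def_FlatCA
import Groth.Agent.FittX.Strict
import Groth.Agent.S4655
import Mathlib.RingTheory.Finiteness.Descent
import Mathlib.RingTheory.Flat.FaithfullyFlat.Algebra
import Mathlib.RingTheory.TensorProduct.Pi

/-!
# Flatness and finite presentation of quotients by torsion: base change and descent
-/

set_option autoImplicit false
set_option linter.style.haveILetI false
set_option backward.isDefEq.respectTransparency false
set_option backward.isDefEq.respectTransparency.types false

universe u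

open TensorProduct

namespace Groth.Agent.StrictAlg

theorem isBaseChange_iff_pushout {A A' BA BA' M M' : Type u} [CommRing A] [CommRing A'] [CommRing BA] [CommRing BA']
    [Algebra A A'] [Algebra A BA] [Algebra A' BA'] [Algebra BA BA'] [Algebra A BA']
    [IsScalarTower A A' BA'] [IsScalarTower A BA BA'] [Algebra.IsPushout A A' BA BA']
    [AddCommGroup M] [Module A M] [Module BA M] [IsScalarTower A BA M]
    [AddCommGroup M'] [Module A M'] [Module A' M'] [Module BA M'] [Module BA' M'] [IsScalarTower A BA M']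
    [IsScalarTower BA BA' M'] [IsScalarTower A A' M'] [IsScalarTower A' BA' M']
    (f : M →ₗ[BA] M') : IsBaseChange BA' f ↔ IsBaseChange A' (f.restrictScalars A) := by
  let c := Algebra.IsPushout.cancelBaseChange A A' BA BA' M
  let L₁ := f.liftBaseChange BA'
  let L₂ := (f.restrictScalars A).liftBaseChange A'
  have hL : ⇑L₂ = ⇑L₁ ∘ ⇑c.symm := funext fun z => by
    induction z using TensorProduct.induction_on with
    | zero => simp only [map_zero, Function.comp_apply]
    | add x y hx hy => simp only [Function.comp_apply, map_add] at hx hy ⊢; rw [hx, hy]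
    | tmul s m =>
      show (f.restrictScalars A).liftBaseChange A' (s ⊗ₜ m) = f.liftBaseChange BA' (c.symm (s ⊗ₜ m))
      rw [Algebra.IsPushout.cancelBaseChange_symm_tmul, LinearMap.liftBaseChange_tmul, LinearMap.liftBaseChange_tmul]
      exact (algebraMap_smul BA' s (f m)).symm
  constructor
  · intro h
    have hb : Function.Bijective L₁ := by
      have : L₁ = h.equiv.toLinearMap := TensorProduct.AlgebraTensorModule.ext fun s m => by
        show f.liftBaseChange BA' (s ⊗ₜ m) = h.equiv (s ⊗ₜ m)
        rw [LinearMap.liftBaseChange_tmul, IsBaseChange.equiv_tmul]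
      rw [this]
      exact h.equiv.bijective
    refine IsBaseChange.of_equiv (LinearEquiv.ofBijective L₂ (hL ▸ hb.comp c.symm.bijective)) fun x => ?_
    show (f.restrictScalars A).liftBaseChange A' (1 ⊗ₜ x) = _
    rw [LinearMap.liftBaseChange_tmul, one_smul]
  · intro h
    have hb : Function.Bijective L₂ := by
      have : L₂ = h.equiv.toLinearMap := TensorProduct.AlgebraTensorModule.ext fun s m => by
        show (f.restrictScalars A).liftBaseChange A' (s ⊗ₜ m) = h.equiv (s ⊗ₜ m)
        rw [LinearMap.liftBaseChange_tmul, IsBaseChange.equiv_tmul]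
      rw [this]
      exact h.equiv.bijective
    rw [hL] at hb
    refine IsBaseChange.of_equiv (LinearEquiv.ofBijective L₁
      ((Function.Bijective.of_comp_iff _ c.symm.bijective).1 hb)) fun x => ?_
    show f.liftBaseChange BA' (1 ⊗ₜ x) = _
    rw [LinearMap.liftBaseChange_tmul, one_smul]

/-- Finite presentation and flatness descend along a jointly faithfully flat finite family. -/
theorem flat_fp_of_family {A BA M : Type u} [CommRing A] [CommRing BA] [Algebra A BA] [AddCommGroup M]
    [Module BA M] [Module A M] [IsScalarTower A BA M] {ι : Type} [Finite ι] (C N : ι → Type u)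
    [∀ i, CommRing (C i)] [∀ i, Algebra BA (C i)] [∀ i, Module.Flat BA (C i)]
    [∀ i, AddCommGroup (N i)] [∀ i, Module (C i) (N i)] [∀ i, Module BA (N i)] [∀ i, IsScalarTower BA (C i) (N i)]
    [∀ i, Module A (N i)] [∀ i, IsScalarTower A BA (N i)]
    (hcov : ∀ (Q : Ideal BA) [Q.IsPrime], ∃ (i : ι) (Q' : Ideal (C i)), Q'.IsPrime ∧ Q'.comap (algebraMap BA (C i)) = Q)
    (g : ∀ i, M →ₗ[BA] N i) (hg : ∀ i, IsBaseChange (C i) (g i))
    (hflat : ∀ i, Module.Flat A (N i)) (hfp : ∀ i, Module.FinitePresentation (C i) (N i)) :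
    Module.Flat A M ∧ Module.FinitePresentation BA M := by
  classical
  haveI : Fintype ι := Fintype.ofFinite ι
  let P := ∀ i, C i
  haveI : Module.Flat BA P := by
    haveI : Module.Flat BA (Π₀ i, C i) := inferInstance
    exact Module.Flat.of_linearEquiv DFinsupp.linearEquivFunOnFintype.symm
  haveI : Module.FaithfullyFlat BA P := Module.FaithfullyFlat.of_comap_surjective fun Q => by
    obtain ⟨i, Q', hQ', he⟩ := hcov Q.asIdeal
    refine ⟨⟨Q'.comap (Pi.evalRingHom C i), Ideal.IsPrime.comap _⟩, PrimeSpectrum.ext ?_⟩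
    exact he
  -- the product of the base changes
  let eN : P ⊗[BA] M ≃ₗ[BA] ∀ i, N i :=
    (TensorProduct.piLeft (R := BA) (N := M) (M := C)).trans
      (LinearEquiv.piCongrRight fun i => ((hg i).equiv.restrictScalars BA))
  haveI : Module.Flat A (∀ i, N i) := by
    haveI : Module.Flat A (Π₀ i, N i) := inferInstance
    exact Module.Flat.of_linearEquiv DFinsupp.linearEquivFunOnFintype.symm
  letI : Algebra A P := ((algebraMap BA P).comp (algebraMap A BA)).toAlgebra
  haveI : IsScalarTower A BA P := .of_algebraMap_eq fun _ => rfl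
  haveI : Module.Flat A (P ⊗[BA] M) := Module.Flat.of_linearEquiv (eN.restrictScalars A)
  refine ⟨S4655.flat_of_tensor A BA P M, ?_⟩
  -- finite presentation over the product
  letI : ∀ i, Algebra P (C i) := fun i => (Pi.evalRingHom C i).toAlgebra
  letI : ∀ i, Module P (N i) := fun i => Module.compHom (N i) (Pi.evalRingHom C i)
  haveI : ∀ i, IsScalarTower P (C i) (N i) := fun i => .of_algebraMap_smul fun _ _ => rfl
  haveI : ∀ i, Module.FinitePresentation P (C i) := fun i => by
    refine Module.finitePresentation_of_surjective (Algebra.linearMap P (C i))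
      (fun x => ⟨Pi.single i x, Pi.single_eq_same i x⟩) ?_
    refine ⟨{1 - Pi.single i (1 : C i)}, ?_⟩
    rw [Finset.coe_singleton]
    refine le_antisymm ((Submodule.span_singleton_le_iff_mem _ _).2 ?_) fun x hx => ?_
    · show 1 - (Pi.single i (1 : C i) : P) i = 0
      rw [Pi.single_eq_same, sub_self]
    · refine Submodule.mem_span_singleton.2 ⟨x, funext fun j => ?_⟩
      by_cases h : j = i
      · subst h
        show x j * (1 - (Pi.single j (1 : C j) : P) j) = x j
        rw [Pi.single_eq_same, sub_self, mul_zero, show x j = 0 from hx]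
      · show x j * (1 - (Pi.single i (1 : C i) : P) j) = x j
        rw [Pi.single_eq_of_ne h, sub_zero, mul_one]
  haveI : ∀ i, Module.FinitePresentation P (N i) := fun i => by
    haveI := hfp i
    exact Module.FinitePresentation.trans P (N i) (C i)
  have heP : ∀ (x : P) z i, eN (x • z) i = x i • eN z i := fun x z i => by
    induction z using TensorProduct.induction_on with
    | zero => simp
    | add a b ha hb =>
      rw [smul_add, map_add, map_add, Pi.add_apply, Pi.add_apply, ha, hb, smul_add]
    | tmul p m =>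
      rw [smul_tmul']
      show (hg i).equiv ((x i * p i) ⊗ₜ m) = x i • (hg i).equiv (p i ⊗ₜ m)
      rw [← map_smul, smul_tmul', smul_eq_mul]
  let eP : (∀ i, N i) ≃ₗ[P] P ⊗[BA] M :=
    { eN.symm with
      map_smul' := fun x v => eN.injective (funext fun i => by
        show eN (eN.symm (x • v)) i = eN (x • eN.symm v) i
        rw [heP, LinearEquiv.apply_symm_apply, LinearEquiv.apply_symm_apply]
        rfl) }
  haveI : Module.FinitePresentation P (P ⊗[BA] M) := Module.FinitePresentation.of_equiv eP
  haveI : Module.Finite BA M := Module.Finite.of_finite_tensorProduct_of_faithfullyFlat P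
  obtain ⟨n, π, hπ⟩ := Module.Finite.exists_fin' BA M
  rw [← Module.FinitePresentation.fg_ker_iff π hπ, ← Module.Finite.iff_fg]
  haveI : Module.Finite P (P ⊗[BA] LinearMap.ker π) := by
    let lk := (LinearMap.ker π).subtype.baseChange P
    have hinj : Function.Injective lk := by
      show Function.Injective ((LinearMap.ker π).subtype.lTensor P)
      exact Module.Flat.lTensor_preserves_injective_linearMap _ Subtype.val_injective
    have hker : LinearMap.range lk = LinearMap.ker (π.baseChange P) := by
      have := lTensor_exact P (LinearMap.exact_subtype_ker_map π) hπ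
      exact (Submodule.ext fun z => (this z).symm)
    haveI : Module.Finite P (LinearMap.range lk) := by
      rw [hker]
      exact Module.Finite.iff_fg.2 (Module.FinitePresentation.fg_ker _ (by
        show Function.Surjective (π.lTensor P)
        exact LinearMap.lTensor_surjective _ hπ))
    exact Module.Finite.equiv (LinearEquiv.ofInjective lk hinj).symm
  exact Module.Finite.of_finite_tensorProduct_of_faithfullyFlat P

/-- The quotient by torsion is flat over `A` and finitely presented over `BA`. -/
def GoodQ (A BA M : Type u) [CommRing A] [CommRing BA] [Algebra A BA] [AddCommGroup M] [Module BA M] [Module A M]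
    [IsScalarTower A BA M] (a : A) : Prop :=
  Module.Flat A (M ⧸ FlatCA.powTorsion BA (algebraMap A BA a) M) ∧
    Module.FinitePresentation BA (M ⧸ FlatCA.powTorsion BA (algebraMap A BA a) M)

theorem smul_quot_eq_zero {BA M : Type u} [CommRing BA] [AddCommGroup M] [Module BA M] (α : BA)
    (x : M ⧸ FlatCA.powTorsion BA α M) (hx : α • x = 0) : x = 0 := by
  obtain ⟨m, rfl⟩ := Submodule.Quotient.mk_surjective _ x
  rw [← Submodule.Quotient.mk_smul, Submodule.Quotient.mk_eq_zero, FittX.mem_powTorsion] at hx
  obtain ⟨n, hn⟩ := hx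
  rw [Submodule.Quotient.mk_eq_zero, FittX.mem_powTorsion]
  exact ⟨n + 1, by rw [pow_succ, mul_smul, hn]⟩

/-- Base change of the quotient by torsion. -/
theorem isBaseChange_quot {BA BA' M M' : Type u} [CommRing BA] [CommRing BA'] [Algebra BA BA']
    [AddCommGroup M] [Module BA M] [AddCommGroup M'] [Module BA M'] [Module BA' M'] [IsScalarTower BA BA' M']
    (α : BA) {g : M →ₗ[BA] M'} (hg : IsBaseChange BA' g)
    (h : ∀ z : BA' ⊗[BA] (M ⧸ FlatCA.powTorsion BA α M), α • z = 0 → z = 0) :
    ∃ g' : (M ⧸ FlatCA.powTorsion BA α M) →ₗ[BA] (M' ⧸ FlatCA.powTorsion BA' (algebraMap BA BA' α) M'),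
      IsBaseChange BA' g' := by
  let T' := FlatCA.powTorsion BA' (algebraMap BA BA' α) M'
  let T := FlatCA.powTorsion BA α M
  let q' : M' →ₗ[BA] M' ⧸ T' := T'.mkQ.restrictScalars BA
  let g' : (M ⧸ T) →ₗ[BA] M' ⧸ T' := T.liftQ (q'.comp g) fun m hm => by
    obtain ⟨n, hn⟩ := FittX.mem_powTorsion.1 hm
    refine LinearMap.mem_ker.2 ((Submodule.Quotient.mk_eq_zero _).2 (FittX.mem_powTorsion.2 ⟨n, ?_⟩))
    rw [← map_pow, algebraMap_smul, ← map_smul, hn, map_zero]
  refine ⟨g', ?_⟩
  let L := g'.liftBaseChange BA'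
  have hL : ∀ w, L (T.mkQ.lTensor BA' w) = T'.mkQ (hg.equiv w) := fun w => by
    induction w using TensorProduct.induction_on with
    | zero => simp only [map_zero]
    | add x y hx hy => simp only [map_add, hx, hy]
    | tmul s m =>
      rw [LinearMap.lTensor_tmul, LinearMap.liftBaseChange_tmul, IsBaseChange.equiv_tmul, map_smul]
      rfl
  have hmk : Function.Surjective (T.mkQ.lTensor BA') := LinearMap.lTensor_surjective _ T.mkQ_surjective
  refine IsBaseChange.of_equiv (LinearEquiv.ofBijective L ⟨(injective_iff_map_eq_zero _).2 fun z hz => ?_,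
    fun y => ?_⟩) fun x => ?_
  · obtain ⟨w, rfl⟩ := hmk z
    rw [hL, Submodule.mkQ_apply, Submodule.Quotient.mk_eq_zero] at hz
    obtain ⟨n, hn⟩ := FittX.mem_powTorsion.1 hz
    rw [← map_pow, algebraMap_smul] at hn
    have h1 : α ^ n • w = 0 := hg.equiv.injective (((hg.equiv.restrictScalars BA).map_smul _ w).trans (hn.trans (map_zero _).symm))
    have h2 : α ^ n • T.mkQ.lTensor BA' w = 0 := by rw [← map_smul, h1, map_zero]
    clear hn h1 hz
    induction n with
    | zero => rwa [pow_zero, one_smul] at h2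
    | succ k ih => exact ih (h _ (by rwa [pow_succ', mul_smul] at h2))
  · obtain ⟨m', rfl⟩ := T'.mkQ_surjective y
    exact ⟨T.mkQ.lTensor BA' (hg.equiv.symm m'), by rw [hL, LinearEquiv.apply_symm_apply]⟩
  · show g'.liftBaseChange BA' (1 ⊗ₜ x) = g' x
    rw [LinearMap.liftBaseChange_tmul, one_smul]

theorem GoodQ.of_radical {A BA M : Type u} [CommRing A] [CommRing BA] [Algebra A BA] [AddCommGroup M]
    [Module BA M] [Module A M] [IsScalarTower A BA M] {a c : A}
    (hca : c ∈ (Ideal.span {a}).radical) (hac : a ∈ (Ideal.span {c}).radical) (h : GoodQ A BA M a) :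
    GoodQ A BA M c := by
  have hle : ∀ {a c : A}, c ∈ (Ideal.span {a}).radical →
      FlatCA.powTorsion BA (algebraMap A BA a) M ≤ FlatCA.powTorsion BA (algebraMap A BA c) M := by
    intro a c ⟨k, hk⟩ m hm
    obtain ⟨n, hn⟩ := FittX.mem_powTorsion.1 hm
    obtain ⟨t, ht⟩ := Ideal.mem_span_singleton'.1 hk
    refine FittX.mem_powTorsion.2 ⟨k * n, ?_⟩
    rw [pow_mul, ← map_pow, ← ht, map_mul, mul_pow, mul_smul, hn, smul_zero]
  have e := le_antisymm (hle hca) (hle hac)
  unfold GoodQ
  rw [← e]
  exact h

/-- Transport along compatible isomorphisms. -/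
theorem GoodQ.of_semilinear {A BA BA' M M' : Type u} [CommRing A] [CommRing BA] [CommRing BA'] [Algebra A BA]
    [Algebra A BA'] [AddCommGroup M] [Module BA M] [Module A M] [IsScalarTower A BA M]
    [AddCommGroup M'] [Module BA' M'] [Module A M'] [IsScalarTower A BA' M'] {a : A}
    (i : BA ≃ₐ[A] BA') (j : M ≃+ M') (hij : ∀ r m, j (r • m) = i r • j m) (h : GoodQ A BA' M' a) :
    GoodQ A BA M a := by
  let T := FlatCA.powTorsion BA (algebraMap A BA a) M
  let T' := FlatCA.powTorsion BA' (algebraMap A BA' a) M'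
  have hT : ∀ m, m ∈ T ↔ j m ∈ T' := fun m => by
    simp only [T, T', FittX.mem_powTorsion]
    refine exists_congr fun n => ?_
    rw [← map_eq_zero_iff j j.injective, hij, map_pow, AlgEquiv.commutes]
  let je : (M ⧸ T) ≃+ (M' ⧸ T') := QuotientAddGroup.congr T.toAddSubgroup T'.toAddSubgroup j (by
    ext x
    exact ⟨fun ⟨m, hm, hx⟩ => hx ▸ (hT m).1 hm, fun hx => ⟨j.symm x, (hT _).2 (by rwa [AddEquiv.apply_symm_apply]), j.apply_symm_apply x⟩⟩)
  have hje : ∀ r x, je (r • x) = i r • je x := fun r x => by
    obtain ⟨m, rfl⟩ := T.mkQ_surjective x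
    exact congrArg T'.mkQ (hij r m)
  obtain ⟨hfl, hfp⟩ := h
  letI : Module BA (M' ⧸ T') := Module.compHom _ (i : BA →+* BA')
  let l : (M ⧸ T) ≃ₗ[A] (M' ⧸ T') :=
    { je with
      map_smul' := fun r x => by
        show je (r • x) = r • je x
        rw [← algebraMap_smul BA r x, hje, AlgEquiv.commutes, algebraMap_smul] }
  refine ⟨Module.Flat.of_linearEquiv l, ?_⟩
  letI : Algebra BA BA' := (i : BA →+* BA').toAlgebra
  haveI : IsScalarTower BA BA' (M' ⧸ T') := .of_algebraMap_smul fun _ _ => rfl
  haveI : Module.FinitePresentation BA BA' :=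
    Module.FinitePresentation.of_equiv (LinearEquiv.ofBijective (Algebra.linearMap BA BA') i.bijective)
  haveI : Module.FinitePresentation BA (M' ⧸ T') := Module.FinitePresentation.trans BA (M' ⧸ T') BA'
  let l' : (M' ⧸ T') ≃ₗ[BA] (M ⧸ T) :=
    { je.symm with
      map_smul' := fun r x => je.injective (by
        show je (je.symm (r • x)) = je (r • je.symm x)
        rw [hje, AddEquiv.apply_symm_apply, AddEquiv.apply_symm_apply]
        rfl) }
  exact Module.FinitePresentation.of_equiv l'

/-- A surjection with torsion kernel does not change the quotient by torsion. -/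
theorem GoodQ.of_surjective {A BA M M' : Type u} [CommRing A] [CommRing BA] [Algebra A BA]
    [AddCommGroup M] [Module BA M] [Module A M] [IsScalarTower A BA M]
    [AddCommGroup M'] [Module BA M'] [Module A M'] [IsScalarTower A BA M'] {a : A} (φ : M →ₗ[BA] M')
    (hφ : Function.Surjective φ) (hk : LinearMap.ker φ ≤ FlatCA.powTorsion BA (algebraMap A BA a) M)
    (h : GoodQ A BA M' a) : GoodQ A BA M a := by
  let T := FlatCA.powTorsion BA (algebraMap A BA a) M
  let T' := FlatCA.powTorsion BA (algebraMap A BA a) M'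
  have hmap : T ≤ LinearMap.ker (T'.mkQ.comp φ) := fun m hm => by
    obtain ⟨n, hn⟩ := FittX.mem_powTorsion.1 hm
    refine LinearMap.mem_ker.2 ((Submodule.Quotient.mk_eq_zero _).2 (FittX.mem_powTorsion.2 ⟨n, ?_⟩))
    rw [← map_smul, hn, map_zero]
  let l : (M ⧸ T) ≃ₗ[BA] (M' ⧸ T') := LinearEquiv.ofBijective (T.liftQ (T'.mkQ.comp φ) hmap)
    ⟨(injective_iff_map_eq_zero _).2 fun x hx => by
      obtain ⟨m, rfl⟩ := T.mkQ_surjective x
      change T'.mkQ (φ m) = 0 at hx
      rw [Submodule.mkQ_apply, Submodule.Quotient.mk_eq_zero, FittX.mem_powTorsion] at hx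
      obtain ⟨n, hn⟩ := hx
      rw [← map_smul] at hn
      obtain ⟨k, hk'⟩ := FittX.mem_powTorsion.1 (hk hn)
      rw [Submodule.mkQ_apply, Submodule.Quotient.mk_eq_zero, FittX.mem_powTorsion]
      exact ⟨k + n, by rw [pow_add, mul_smul]; exact hk'⟩,
    fun y => by
      obtain ⟨m', rfl⟩ := T'.mkQ_surjective y
      obtain ⟨m, rfl⟩ := hφ m'
      exact ⟨T.mkQ m, rfl⟩⟩
  obtain ⟨hfl, hfp⟩ := h
  exact ⟨Module.Flat.of_linearEquiv (l.restrictScalars A), Module.FinitePresentation.of_equiv l.symm⟩

end Groth.Agent.StrictAlg
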