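import Groth.Agent.StrictAlg.Off
import Groth.Agent.RGLib.GeomBasis
import Groth.Agent.FlatBlow.Main

/-!
# Freeness at the generic points of the fibres off the centre
-/

set_option autoImplicit false
set_option linter.style.haveILetI false
set_option backward.isDefEq.respectTransparency false
set_option backward.isDefEq.respectTransparency.types false

universe u

open TensorProduct

namespace Groth.Agent.StrictAlg

variable {R D G : Type u} [CommRing R] [CommRing D] [Algebra R D] [AddCommGroup G] [Module D G] [Module R G]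
  [IsScalarTower R D G]

/-- Off the centre, in terms of localisations. -/
theorem flat_fp_away (f : R) (h : StGood R D G (Localization.Away f) 1) :
    Module.Flat R (LocalizedModule (Submonoid.powers (algebraMap R D f)) G) ∧
      Module.FinitePresentation (Localization.Away (algebraMap R D f))
        (LocalizedModule (Submonoid.powers (algebraMap R D f)) G) := by
  obtain ⟨hfl, hfp⟩ := (goodQ_iff_of_isUnit isUnit_one).1 h
  let A := Localization.Away f
  let U := Submonoid.powers (algebraMap R D f)
  letI : Algebra D (A ⊗[R] D) := Algebra.TensorProduct.rightAlgebra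
  letI : Module D (A ⊗[R] G) := Module.compHom _ (algebraMap D (A ⊗[R] D))
  haveI : IsScalarTower D (A ⊗[R] D) (A ⊗[R] G) := .of_algebraMap_smul fun _ _ => rfl
  haveI : IsScalarTower R (A ⊗[R] D) (A ⊗[R] G) := IsScalarTower.of_algebraMap_smul fun x (m : A ⊗[R] G) => by
    rw [IsScalarTower.algebraMap_apply R A (A ⊗[R] D)]
    exact Eq.trans (algebraMap_smul (M := A ⊗[R] G) (A ⊗[R] D) (algebraMap R A x) m)
      (algebraMap_smul (M := A ⊗[R] G) A x m)
  haveI : IsScalarTower R D (A ⊗[R] G) := .of_algebraMap_smul fun x m => by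
    rw [← algebraMap_smul (A ⊗[R] D) (algebraMap R D x) m, ← IsScalarTower.algebraMap_apply R D]
    exact algebraMap_smul (A ⊗[R] D) x m
  haveI : IsLocalization.Away (algebraMap R D f) (A ⊗[R] D) := by
    have : IsLocalization (Algebra.algebraMapSubmonoid D (Submonoid.powers f)) (A ⊗[R] D) :=
      (Algebra.isLocalization_iff_isPushout (Submonoid.powers f) A).2 (Algebra.IsPushout.symm inferInstance)
    rwa [Algebra.algebraMapSubmonoid, Submonoid.map_powers] at this
  let fN : G →ₗ[D] A ⊗[R] G :=
    { toFun := fun n => 1 ⊗ₜ n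
      map_add' := fun x y => tmul_add _ _ _
      map_smul' := fun b n => by
        show _ = ((1 : A) ⊗ₜ[R] b) • ((1 : A) ⊗ₜ[R] n)
        rw [tmul_smul_tmul, mul_one] }
  have hfN : IsBaseChange (A ⊗[R] D) fN := isBaseChange_act R A D G fN fun _ => rfl
  haveI : IsLocalizedModule U fN := (isLocalizedModule_iff_isBaseChange U (A ⊗[R] D) fN).2 hfN
  let e := IsLocalizedModule.iso U fN
  refine ⟨?_, ?_⟩
  · haveI : Module.Flat R A := IsLocalization.flat _ (Submonoid.powers f)
    haveI := hfl
    haveI : Module.Flat R (A ⊗[R] G) := Module.Flat.trans R A _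
    exact Module.Flat.of_linearEquiv (e.restrictScalars R)
  · let L := Localization.Away (algebraMap R D f)
    let θ : A ⊗[R] D ≃ₐ[D] L := IsLocalization.algEquiv U (A ⊗[R] D) L
    letI : Algebra (A ⊗[R] D) L := θ.toAlgHom.toRingHom.toAlgebra
    haveI : IsScalarTower D (A ⊗[R] D) L := .of_algebraMap_eq fun x => (θ.commutes x).symm
    letI : Module (A ⊗[R] D) (LocalizedModule U G) := Module.compHom _ (algebraMap (A ⊗[R] D) L)
    haveI : IsScalarTower (A ⊗[R] D) L (LocalizedModule U G) := .of_algebraMap_smul fun _ _ => rfl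
    haveI : IsScalarTower D (A ⊗[R] D) (LocalizedModule U G) := .of_algebraMap_smul fun x m => by
      show θ (algebraMap D (A ⊗[R] D) x) • m = x • m
      rw [θ.commutes]
      exact algebraMap_smul L x m
    let g : A ⊗[R] G →ₗ[A ⊗[R] D] LocalizedModule U G :=
      LinearMap.extendScalarsOfIsLocalization U (A ⊗[R] D) e.symm.toLinearMap
    have hg : IsBaseChange L g := by
      refine IsBaseChange.of_comp hfN ?_
      have : (g.restrictScalars D) ∘ₗ fN = LocalizedModule.mkLinearMap U G := LinearMap.ext fun n => by
        show e.symm (fN n) = _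
        exact LinearMap.congr_fun (IsLocalizedModule.iso_symm_comp U fN) n
      rw [this]
      exact (isLocalizedModule_iff_isBaseChange U L _).1 inferInstance
    haveI := hfp
    exact FinitePresentation.of_isBaseChange g hg

/-- Spreading out of a bijection at a point. -/
theorem exists_bijective_nhd [Module.Finite D G] {c : D}
    (hfp : Module.FinitePresentation (Localization.Away c) (LocalizedModule (Submonoid.powers c) G))
    (P : Ideal D) [P.IsPrime] (hc : c ∉ P) {r : ℕ} (α : (Fin r → D) →ₗ[D] G)
    (hα : Function.Bijective (LocalizedModule.map P.primeCompl α)) :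
    ∃ g ∉ P, Function.Bijective (LocalizedModule.map (Submonoid.powers g) α) := by
  obtain ⟨N, _, _, _, π, hπ, hker⟩ := FlatBlow.exists_fp_approx_away c hfp
  obtain ⟨α', hα'⟩ := Module.projective_lifting_property π α hπ
  have hπP : Function.Injective (LocalizedModule.map P.primeCompl π) :=
    RGLib.map_injective_of_kill _ _ fun x hx => by
      obtain ⟨i, hi⟩ := hker x hx
      exact ⟨c ^ i, pow_mem (show c ∈ P.primeCompl from hc) i, hi⟩
  have hcomp : ∀ x, LocalizedModule.map P.primeCompl π (LocalizedModule.map P.primeCompl α' x) =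
      LocalizedModule.map P.primeCompl α x := fun x => by
    induction x using LocalizedModule.induction_on with
    | _ m s => rw [LocalizedModule.map_mk, LocalizedModule.map_mk, LocalizedModule.map_mk, ← hα']; rfl
  have hα'P : Function.Bijective (LocalizedModule.map P.primeCompl α') :=
    ⟨fun x y h => hα.1 (by rw [← hcomp, ← hcomp, h]), fun y => by
      obtain ⟨x, hx⟩ := hα.2 (LocalizedModule.map P.primeCompl π y)
      exact ⟨x, hπP ((hcomp x).trans hx)⟩⟩
  obtain ⟨g, hg, hbij⟩ := Module.FinitePresentation.exists_notMem_bijective α' P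
    (LocalizedModule.mkLinearMap P.primeCompl _) (LocalizedModule.mkLinearMap P.primeCompl _) (by
      convert hα'P using 2
      ext x
      induction x using LocalizedModule.induction_on with
      | _ m s => rw [LocalizedModule.map_mk, IsLocalizedModule.mk_eq_mk', IsLocalizedModule.mk_eq_mk', IsLocalizedModule.map_mk'])
  refine ⟨g * c, fun h => (Ideal.IsPrime.mem_or_mem ‹_› h).elim hg hc, ?_, fun y => ?_⟩
  · refine RGLib.map_injective_of_kill _ _ fun x hx => ?_
    obtain ⟨i, hi⟩ := hker (α' x) (by rw [← hx, ← hα']; rfl)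
    rw [← map_smul] at hi
    have h0 : LocalizedModule.mkLinearMap (Submonoid.powers g) (Fin r → D) (c ^ i • x) = 0 := hbij.1 (by
      rw [LocalizedModule.mkLinearMap_apply, LocalizedModule.map_mk, hi, map_zero, LocalizedModule.zero_mk])
    obtain ⟨⟨_, k, rfl⟩, hk⟩ := (IsLocalizedModule.eq_zero_iff (Submonoid.powers g)
      (LocalizedModule.mkLinearMap (Submonoid.powers g) (Fin r → D))).1 h0
    change g ^ k • c ^ i • x = 0 at hk
    refine ⟨(g * c) ^ (k + i), ⟨_, rfl⟩, ?_⟩
    rw [mul_pow, pow_add, pow_add, show g ^ k * g ^ i * (c ^ k * c ^ i) = (g ^ i * c ^ k) * (g ^ k * c ^ i) by ring,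
      mul_smul, mul_smul (g ^ k), hk, smul_zero]
  · induction y using LocalizedModule.induction_on with
    | _ m s =>
    obtain ⟨n, rfl⟩ := hπ m
    obtain ⟨v, hv⟩ := hbij.2 (LocalizedModule.mk n 1)
    induction v using LocalizedModule.induction_on with
    | _ v t =>
    rw [LocalizedModule.map_mk, LocalizedModule.mk_eq] at hv
    obtain ⟨⟨_, k, rfl⟩, hk⟩ := hv
    obtain ⟨_, l, rfl⟩ := t
    simp only [Submonoid.smul_def, one_smul, smul_smul] at hk
    refine ⟨LocalizedModule.mk ((g ^ k * c ^ (k + l)) • v) (s * ⟨(g * c) ^ (k + l), _, rfl⟩), ?_⟩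
    rw [LocalizedModule.map_mk, LocalizedModule.mk_eq]
    refine ⟨1, ?_⟩
    have hk' := congrArg π hk
    rw [map_smul, map_smul, ← LinearMap.comp_apply, hα'] at hk'
    simp only [Submonoid.smul_def, one_smul, map_smul, Submonoid.coe_mul, smul_smul, Submonoid.coe_one, mul_one, one_mul] at hk' ⊢
    rw [show (s : D) * (g ^ k * c ^ (k + l)) = ((s : D) * c ^ (k + l)) * g ^ k by ring, mul_smul, hk', smul_smul]
    congr 1
    rw [mul_pow, pow_add, pow_add]
    ring

/-- Bijectivity on a localisation from kills. -/
theorem bijective_localized_of_kill {M M' : Type u} [AddCommGroup M] [Module D M] [AddCommGroup M'] [Module D M']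
    (U : Submonoid D) (f : M →ₗ[D] M') (h₁ : ∀ x, f x = 0 → ∃ w ∈ U, w • x = 0)
    (h₂ : ∀ y, ∃ w ∈ U, w • y ∈ LinearMap.range f) : Function.Bijective (LocalizedModule.map U f) := by
  refine ⟨RGLib.map_injective_of_kill _ _ h₁, fun y => ?_⟩
  induction y using LocalizedModule.induction_on with
  | _ n s =>
  obtain ⟨d, hd, v, hv⟩ := h₂ n
  refine ⟨LocalizedModule.mk v (⟨d, hd⟩ * s), ?_⟩
  rw [LocalizedModule.map_mk, hv, LocalizedModule.mk_eq]
  exact ⟨1, by simp [Submonoid.smul_def, smul_smul, mul_comm]⟩

theorem exists_kill_of_bijective {M M' : Type u} [AddCommGroup M] [Module D M] [AddCommGroup M'] [Module D M']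
    (U : Submonoid D) (f : M →ₗ[D] M') (h : Function.Bijective (LocalizedModule.map U f)) :
    (∀ x, f x = 0 → ∃ w ∈ U, w • x = 0) ∧ ∀ y, ∃ w ∈ U, w • y ∈ LinearMap.range f := by
  refine ⟨fun x hx => ?_, fun y => ?_⟩
  · have h0 : LocalizedModule.mkLinearMap U M x = 0 := h.1 (by
      rw [LocalizedModule.mkLinearMap_apply, LocalizedModule.map_mk, hx, map_zero, LocalizedModule.zero_mk])
    obtain ⟨⟨w, hw⟩, hw0⟩ := (IsLocalizedModule.eq_zero_iff U (LocalizedModule.mkLinearMap U M)).1 h0
    exact ⟨w, hw, hw0⟩
  · obtain ⟨x, hx⟩ := h.2 (LocalizedModule.mk y 1)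
    induction x using LocalizedModule.induction_on with
    | _ v t =>
    rw [LocalizedModule.map_mk, LocalizedModule.mk_eq] at hx
    obtain ⟨w, hw⟩ := hx
    refine ⟨w * t, mul_mem w.2 t.2, (w : D) • v, ?_⟩
    simp only [Submonoid.smul_def, one_smul, Submonoid.coe_one] at hw
    rw [map_smul, hw, mul_smul]

/-- Bijectivity passes to points of the open set. -/
theorem bijective_atPrime {M M' : Type u} [AddCommGroup M] [Module D M] [AddCommGroup M'] [Module D M']
    {g : D} (f : M →ₗ[D] M') (h : Function.Bijective (LocalizedModule.map (Submonoid.powers g) f))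
    (P : Ideal D) [P.IsPrime] (hg : g ∉ P) : Function.Bijective (LocalizedModule.map P.primeCompl f) := by
  obtain ⟨h₁, h₂⟩ := exists_kill_of_bijective _ _ h
  have hle : Submonoid.powers g ≤ P.primeCompl := Submonoid.powers_le.2 hg
  exact bijective_localized_of_kill _ _ (fun x hx => (h₁ x hx).imp fun _ => And.imp_left (hle ·))
    fun y => (h₂ y).imp fun _ => And.imp_left (hle ·)

/-- A bijection from a free module gives freeness with that rank. -/
theorem free_rank_of_bijective {M M' : Type u} [AddCommGroup M] [Module D M] [AddCommGroup M'] [Module D M']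
    {r : ℕ} (b : Module.Basis (Fin r) D M) (P : Ideal D) [P.IsPrime] (f : M →ₗ[D] M')
    (h : Function.Bijective (LocalizedModule.map P.primeCompl f)) :
    Module.Free (Localization.AtPrime P) (LocalizedModule P.primeCompl M') ∧
      Module.rank (Localization.AtPrime P) (LocalizedModule P.primeCompl M') = r := by
  let B := b.ofIsLocalizedModule (Localization.AtPrime P) P.primeCompl (LocalizedModule.mkLinearMap P.primeCompl M)
  let B' := B.map (LinearEquiv.ofBijective _ h)
  exact ⟨Module.Free.of_basis B', by rw [rank_eq_card_basis B', Fintype.card_fin]⟩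

/-- A bijection on the open kills kernels after tensoring. -/
theorem exists_kill_of_localized_bijective {g : D} {r : ℕ} (α : (Fin r → D) →ₗ[D] G)
    (hbij : Function.Bijective (LocalizedModule.map (Submonoid.powers g) α))
    (X : Type u) [AddCommGroup X] [Module R X] (z : (Fin r → D) ⊗[R] X)
    (hz : TensorProduct.AlgebraTensorModule.rTensor R X α z = 0) : ∃ k : ℕ, g ^ k • z = 0 := by
  let S := Submonoid.powers g
  let lF := LocalizedModule.mkLinearMap S (Fin r → D)
  let lG := LocalizedModule.mkLinearMap S G
  let L : LocalizedModule S (Fin r → D) ≃ₗ[D] LocalizedModule S G :=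
    LinearEquiv.ofBijective ((LocalizedModule.map S α).restrictScalars D) hbij
  have h0 : TensorProduct.AlgebraTensorModule.rTensor R X L.toLinearMap
      (TensorProduct.AlgebraTensorModule.rTensor R X lF z) = 0 := by
    have e₁ : L.toLinearMap ∘ₗ lF = lG ∘ₗ α := LinearMap.ext fun v => LocalizedModule.map_mk _ _ _ _
    rw [← LinearMap.comp_apply, ← TensorProduct.AlgebraTensorModule.rTensor_comp, e₁,
      TensorProduct.AlgebraTensorModule.rTensor_comp, LinearMap.comp_apply, hz, map_zero]
  have h1 : TensorProduct.AlgebraTensorModule.rTensor R X lF z = 0 := by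
    have hid : TensorProduct.AlgebraTensorModule.rTensor R X L.symm.toLinearMap ∘ₗ
        TensorProduct.AlgebraTensorModule.rTensor R X L.toLinearMap = LinearMap.id := by
      rw [← TensorProduct.AlgebraTensorModule.rTensor_comp, show L.symm.toLinearMap ∘ₗ L.toLinearMap = LinearMap.id
        from LinearMap.ext L.symm_apply_apply, TensorProduct.AlgebraTensorModule.rTensor_id]
    have := LinearMap.congr_fun hid (TensorProduct.AlgebraTensorModule.rTensor R X lF z)
    rw [LinearMap.comp_apply, h0, map_zero] at this
    exact this.symm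
  obtain ⟨⟨_, k, rfl⟩, hdz⟩ := (IsLocalizedModule.eq_zero_iff S (TensorProduct.AlgebraTensorModule.rTensor R X lF)).1 h1
  exact ⟨k, hdz⟩

/-- A free localisation comes from a map of a free module. -/
theorem exists_map_of_free_away [Module.Finite D G] (g : D) (r : ℕ)
    (hfree : Module.Free (Localization.Away g) (LocalizedModule (Submonoid.powers g) G))
    (hr : Module.rank (Localization.Away g) (LocalizedModule (Submonoid.powers g) G) = r) :
    ∃ (s : ℕ) (α : (Fin s → D) →ₗ[D] G), Function.Bijective (LocalizedModule.map (Submonoid.powers g) α) := by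
  let U := Submonoid.powers g
  let L := Localization.Away g
  haveI := hfree
  haveI : Module.Finite L (LocalizedModule U G) :=
    Module.Finite.of_isLocalizedModule U (LocalizedModule.mkLinearMap U G)
  obtain ⟨ι, b⟩ := Module.Free.exists_basis L (LocalizedModule U G)
  rcases subsingleton_or_nontrivial L with hL | hL
  · refine ⟨0, 0, ?_⟩
    haveI := Module.subsingleton L (LocalizedModule U G)
    haveI := Module.subsingleton L (LocalizedModule U (Fin 0 → D))
    exact ⟨fun _ _ _ => Subsingleton.elim _ _, fun y => ⟨0, Subsingleton.elim _ _⟩⟩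
  let b₀ := Module.finBasis L (LocalizedModule U G)
  let s := Module.finrank L (LocalizedModule U G)
  have hnum : ∀ i, ∃ (m : G) (t : U), LocalizedModule.mk m t = b₀ i := fun i => by
    induction b₀ i using LocalizedModule.induction_on with
    | _ m t => exact ⟨m, t, rfl⟩
  choose m t hmt using hnum
  refine ⟨s, (Pi.basisFun D (Fin s)).constr D m, ?_⟩
  let B := (Pi.basisFun D (Fin s)).ofIsLocalizedModule L U (LocalizedModule.mkLinearMap U _)
  let u : Fin s → Lˣ := fun i => (IsLocalization.map_units L (t i)).unit
  have e : LocalizedModule.map U ((Pi.basisFun D (Fin s)).constr D m) =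
      (B.equiv (b₀.unitsSMul u) (Equiv.refl _)).toLinearMap := B.ext fun i => by
    rw [LinearEquiv.coe_coe, Module.Basis.equiv_apply, Equiv.refl_apply, Module.Basis.unitsSMul_apply]
    rw [show B i = LocalizedModule.mk (Pi.basisFun D (Fin s) i) 1 from Module.Basis.ofIsLocalizedModule_apply _ _ _ _ i]
    rw [LocalizedModule.map_mk, Module.Basis.constr_basis, ← hmt i, Units.smul_def, IsUnit.unit_spec,
      algebraMap_smul, LocalizedModule.smul'_mk, LocalizedModule.mk_eq]
    exact ⟨1, by simp [Submonoid.smul_def]⟩
  rw [e]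
  exact (B.equiv _ _).bijective

/-- Where the module is flat over the base it is free at the generic point of the fibre. -/
theorem exists_generic_iso [Algebra.FiniteType R D] [Module.Flat R D] [Module.Finite D G]
    (hgi : FlatCA.GeomIntegralFibres R D) (f : R) (h : StGood R D G (Localization.Away f) 1)
    (p : Ideal R) [p.IsPrime] (hfp : f ∉ p) :
    ∃ g ∉ p.map (algebraMap R D), ∃ (r : ℕ) (α : (Fin r → D) →ₗ[D] G),
      Function.Bijective (LocalizedModule.map (Submonoid.powers g) α) := by
  obtain ⟨hfl, hpres⟩ := flat_fp_away f h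
  obtain ⟨hprime, hover⟩ := RGLib.isPrime_map_and_comap hgi p (S := D)
  haveI := hprime
  have hfP : algebraMap R D f ∉ p.map (algebraMap R D) := fun hm => hfp (hover ▸ hm : f ∈ p)
  haveI := hfl
  haveI : Module.Flat R (LocalizedModule (p.map (algebraMap R D)).primeCompl G) :=
    RGLib.flat_localized_of_le (Submonoid.powers (algebraMap R D f)) _ (Submonoid.powers_le.2 hfP)
  obtain ⟨r, α, hα⟩ := RGLib.exists_basis_lift (p.map (algebraMap R D)) (N := G)
  have hbij := RGLib.bijective_map_of_kill (p.map (algebraMap R D)) r α hα.2 fun x hx => by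
    obtain ⟨d, hd, hdx⟩ := RGLib.exists_kill_of_basis p hover r α hα.1 R (x ⊗ₜ[R] (1 : R)) (by
      rw [TensorProduct.AlgebraTensorModule.rTensor_tmul, hx, zero_tmul])
    refine ⟨d, hd, ?_⟩
    have := congrArg (TensorProduct.rid R (Fin r → D)) hdx
    rwa [smul_tmul', TensorProduct.rid_tmul, one_smul, map_zero] at this
  obtain ⟨g, hg, hg'⟩ := exists_bijective_nhd hpres (p.map (algebraMap R D)) hfP α hbij
  exact ⟨g, hg, r, α, hg'⟩

end Groth.Agent.StrictAlg
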