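import Groth.Agent.StrictAlg.Inv
import Groth.Agent.StrictAlg.Desc
import Mathlib.RingTheory.RingHom.Flat
import Mathlib.RingTheory.Spectrum.Prime.Topology

/-!
# Strict transforms of modules in affine terms
-/

set_option autoImplicit false
set_option linter.style.haveILetI false
set_option backward.isDefEq.respectTransparency false
set_option backward.isDefEq.respectTransparency.types false

universe u

open TensorProduct

namespace Groth.Agent.StrictAlg

section Act

variable (R A B N : Type u) [CommRing R] [CommRing A] [CommRing B] [Algebra R A] [Algebra R B]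
  [AddCommGroup N] [Module B N] [Module R N] [IsScalarTower R B N]

/-- The action of `A ⊗ B` on `A ⊗ N`. -/
noncomputable def actHom : A ⊗[R] B →ₐ[R] Module.End R (A ⊗[R] N) :=
  Algebra.TensorProduct.lift (Algebra.lsmul R R (A ⊗[R] N))
    ((Module.End.lTensorAlgHom R N A).comp (Algebra.lsmul R R N)) fun a b => by
    refine TensorProduct.ext' fun x n => ?_
    show a • (x ⊗ₜ[R] (b • n)) = ((Module.End.lTensorAlgHom R N A) (Algebra.lsmul R R N b)) (a • (x ⊗ₜ[R] n))
    rw [smul_tmul', smul_tmul']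
    rfl

/-- `A ⊗ N` is a module over `A ⊗ B`. -/
noncomputable scoped instance (priority := 100) actModule : Module (A ⊗[R] B) (A ⊗[R] N) :=
  Module.compHom _ (actHom R A B N).toRingHom

theorem tmul_smul_tmul (a : A) (b : B) (x : A) (n : N) :
    (a ⊗ₜ[R] b) • (x ⊗ₜ[R] n) = (a * x) ⊗ₜ[R] (b • n) := by
  show actHom R A B N (a ⊗ₜ b) (x ⊗ₜ n) = _
  rw [actHom, Algebra.TensorProduct.lift_tmul]
  rfl

scoped instance actTower : IsScalarTower A (A ⊗[R] B) (A ⊗[R] N) := .of_algebraMap_smul fun a m => by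
  induction m using TensorProduct.induction_on with
  | zero => rw [smul_zero, smul_zero]
  | add x y hx hy => rw [smul_add, smul_add, hx, hy]
  | tmul x n =>
    rw [Algebra.TensorProduct.algebraMap_apply, Algebra.algebraMap_self, RingHom.id_apply, tmul_smul_tmul, one_smul,
      smul_tmul', smul_eq_mul]

end Act

/-- The strict transform over `A` with respect to `a` is flat over `A` and finitely presented. -/
def StGood (R B N : Type u) [CommRing R] [CommRing B] [Algebra R B] [AddCommGroup N] [Module B N] [Module R N]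
    [IsScalarTower R B N] (A : Type u) [CommRing A] [Algebra R A] (a : A) : Prop :=
  GoodQ A (A ⊗[R] B) (A ⊗[R] N) a

section Pair

variable {R A A' B B' N N' : Type u} [CommRing R] [CommRing A] [CommRing A'] [CommRing B] [CommRing B']
  [Algebra R A] [Algebra R A'] [Algebra A A'] [IsScalarTower R A A'] [Algebra R B] [Algebra R B']
  [Algebra B B'] [IsScalarTower R B B']
  [AddCommGroup N] [Module B N] [Module R N] [IsScalarTower R B N]
  [AddCommGroup N'] [Module B' N'] [Module B N'] [Module R N'] [IsScalarTower R B' N'] [IsScalarTower B B' N']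
  [IsScalarTower R B N']

attribute [local instance] Algebra.TensorProduct.rightAlgebra

/-- The map on rings. -/
noncomputable abbrev pairRingMap (R A A' B B' : Type u) [CommRing R] [CommRing A] [CommRing A'] [CommRing B]
    [CommRing B'] [Algebra R A] [Algebra R A'] [Algebra A A'] [IsScalarTower R A A'] [Algebra R B] [Algebra R B']
    [Algebra B B'] [IsScalarTower R B B'] : A ⊗[R] B →ₐ[A] A' ⊗[R] B' :=
  Algebra.TensorProduct.map (Algebra.ofId A A') (IsScalarTower.toAlgHom R B B')

theorem isBaseChange_act (R A B N : Type u) [CommRing R] [CommRing A] [CommRing B] [Algebra R A] [Algebra R B]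
    [AddCommGroup N] [Module B N] [Module R N] [IsScalarTower R B N]
    [Module B (A ⊗[R] N)] [IsScalarTower B (A ⊗[R] B) (A ⊗[R] N)]
    (φ : N →ₗ[B] A ⊗[R] N) (hφ : ∀ n, φ n = 1 ⊗ₜ n) : IsBaseChange (A ⊗[R] B) φ := by
  haveI : IsScalarTower R B (A ⊗[R] N) := .of_algebraMap_smul fun r m => by
    rw [← algebraMap_smul (A ⊗[R] B) (algebraMap R B r) m, ← IsScalarTower.algebraMap_apply R B (A ⊗[R] B),
      IsScalarTower.algebraMap_apply R A (A ⊗[R] B), algebraMap_smul, algebraMap_smul]
  rw [isBaseChange_iff_pushout (A := R) (A' := A)]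
  have : φ.restrictScalars R = TensorProduct.mk R A N 1 := LinearMap.ext hφ
  rw [this]
  exact TensorProduct.isBaseChange R N A

/-- The comparison map of the two modules is a base change. -/
theorem exists_pair (fN : N →ₗ[B] N') (hfN : IsBaseChange B' fN) :
    letI := (pairRingMap R A A' B B').toAlgebra
    letI : Module (A ⊗[R] B) (A' ⊗[R] N') := Module.compHom _ (pairRingMap R A A' B B').toRingHom
    haveI : IsScalarTower (A ⊗[R] B) (A' ⊗[R] B') (A' ⊗[R] N') := IsScalarTower.of_algebraMap_smul fun _ _ => rfl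
    ∃ ν : A ⊗[R] N →ₗ[A ⊗[R] B] A' ⊗[R] N',
      IsBaseChange (A' ⊗[R] B') ν ∧ ∀ x n, ν (x ⊗ₜ n) = algebraMap A A' x ⊗ₜ fN n := by
  letI := (pairRingMap R A A' B B').toAlgebra
  letI : Module (A ⊗[R] B) (A' ⊗[R] N') := Module.compHom _ (pairRingMap R A A' B B').toRingHom
  haveI : IsScalarTower (A ⊗[R] B) (A' ⊗[R] B') (A' ⊗[R] N') := .of_algebraMap_smul fun _ _ => rfl
  let ν₀ : A ⊗[R] N →ₗ[R] A' ⊗[R] N' :=
    TensorProduct.map (IsScalarTower.toAlgHom R A A').toLinearMap (fN.restrictScalars R)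
  let ν : A ⊗[R] N →ₗ[A ⊗[R] B] A' ⊗[R] N' :=
    { ν₀ with
      map_smul' := fun r m => by
        show ν₀ (r • m) = pairRingMap R A A' B B' r • ν₀ m
        induction r using TensorProduct.induction_on with
        | zero => rw [zero_smul, map_zero, map_zero, zero_smul]
        | add x y hx hy => rw [add_smul, map_add, hx, hy, map_add, add_smul]
        | tmul a b =>
          induction m using TensorProduct.induction_on with
          | zero => rw [smul_zero, map_zero, smul_zero]
          | add x y hx hy => rw [smul_add, map_add, hx, hy, map_add, smul_add]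
          | tmul x n =>
            rw [tmul_smul_tmul, TensorProduct.map_tmul, TensorProduct.map_tmul, Algebra.TensorProduct.map_tmul,
              tmul_smul_tmul]
            simp [IsScalarTower.toAlgHom_apply, map_mul] }
  refine ⟨ν, ?_, fun _ _ => rfl⟩
  letI : Module B (A ⊗[R] N) := Module.compHom _ (algebraMap B (A ⊗[R] B))
  haveI : IsScalarTower B (A ⊗[R] B) (A ⊗[R] N) := .of_algebraMap_smul fun _ _ => rfl
  letI : Module B' (A' ⊗[R] N') := Module.compHom _ (algebraMap B' (A' ⊗[R] B'))
  haveI : IsScalarTower B' (A' ⊗[R] B') (A' ⊗[R] N') := .of_algebraMap_smul fun _ _ => rfl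
  letI : Algebra B (A' ⊗[R] B') := ((algebraMap B' (A' ⊗[R] B')).comp (algebraMap B B')).toAlgebra
  haveI : IsScalarTower B B' (A' ⊗[R] B') := .of_algebraMap_eq fun _ => rfl
  haveI : IsScalarTower B (A ⊗[R] B) (A' ⊗[R] B') := .of_algebraMap_eq fun b => by
    show (1 : A') ⊗ₜ[R] algebraMap B B' b = pairRingMap R A A' B B' (1 ⊗ₜ b)
    rw [Algebra.TensorProduct.map_tmul, map_one]
    rfl
  letI : Module B (A' ⊗[R] N') := Module.compHom _ (algebraMap B (A' ⊗[R] B'))
  haveI : IsScalarTower B (A' ⊗[R] B') (A' ⊗[R] N') := .of_algebraMap_smul fun _ _ => rfl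
  haveI : IsScalarTower B B' (A' ⊗[R] N') := .of_algebraMap_smul fun _ _ => rfl
  haveI : IsScalarTower B (A ⊗[R] B) (A' ⊗[R] N') := .of_algebraMap_smul fun b m => by
    rw [← algebraMap_smul (A' ⊗[R] B') (algebraMap B (A ⊗[R] B) b) m, ← IsScalarTower.algebraMap_apply]
    exact algebraMap_smul _ b m
  let φ : N →ₗ[B] A ⊗[R] N :=
    { toFun := fun n => 1 ⊗ₜ n
      map_add' := fun x y => tmul_add _ _ _
      map_smul' := fun b n => by
        show _ = ((1 : A) ⊗ₜ[R] b) • ((1 : A) ⊗ₜ[R] n)
        rw [tmul_smul_tmul, mul_one] }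
  let φ' : N' →ₗ[B'] A' ⊗[R] N' :=
    { toFun := fun n => 1 ⊗ₜ n
      map_add' := fun x y => tmul_add _ _ _
      map_smul' := fun b n => by
        show _ = ((1 : A') ⊗ₜ[R] b) • ((1 : A') ⊗ₜ[R] n)
        rw [tmul_smul_tmul, mul_one] }
  refine IsBaseChange.of_comp (isBaseChange_act R A B N φ fun _ => rfl) ?_
  have e : ((ν.restrictScalars B) ∘ₗ φ) = (φ'.restrictScalars B) ∘ₗ fN := LinearMap.ext fun n => by
    show ν₀ (1 ⊗ₜ n) = (1 : A') ⊗ₜ[R] fN n
    simp [ν₀, IsScalarTower.toAlgHom_apply]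
  rw [e]
  exact hfN.comp (isBaseChange_act R A' B' N' φ' fun _ => rfl)

theorem flat_pair [Module.Flat A A'] [Module.Flat B B'] :
    letI := (pairRingMap R A A' B B').toAlgebra
    Module.Flat (A ⊗[R] B) (A' ⊗[R] B') := by
  have h1 : (Algebra.ofId A A').toRingHom.Flat := RingHom.flat_algebraMap_iff.2 ‹_›
  have h2 : (IsScalarTower.toAlgHom R B B').toRingHom.Flat := RingHom.flat_algebraMap_iff.2 ‹_›
  exact RingHom.Flat.tensorProductMap h1 h2

end Pair

variable {R B N : Type u} [CommRing R] [CommRing B] [Algebra R B] [AddCommGroup N] [Module B N] [Module R N]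
  [IsScalarTower R B N]

/-- A flat strict transform stays the strict transform after base change. -/
theorem StGood.baseChange {A A' : Type u} [CommRing A] [CommRing A'] [Algebra R A] [Algebra R A'] [Algebra A A']
    [IsScalarTower R A A'] {a : A} (ha : algebraMap A A' a ∈ nonZeroDivisors A') (h : StGood R B N A a) :
    StGood R B N A' (algebraMap A A' a) := by
  letI := (pairRingMap R A A' B B).toAlgebra
  letI : Module (A ⊗[R] B) (A' ⊗[R] N) := Module.compHom _ (pairRingMap R A A' B B).toRingHom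
  haveI : IsScalarTower (A ⊗[R] B) (A' ⊗[R] B) (A' ⊗[R] N) := .of_algebraMap_smul fun _ _ => rfl
  obtain ⟨ν, hν, -⟩ := exists_pair (R := R) (A := A) (A' := A') (LinearMap.id : N →ₗ[B] N) (IsBaseChange.of_equiv
    (TensorProduct.lid B N) fun x => by simp)
  haveI : IsScalarTower A (A ⊗[R] B) (A' ⊗[R] B) := .of_algebraMap_eq fun x => by
    show _ = pairRingMap R A A' B B (algebraMap A (A ⊗[R] B) x)
    rw [AlgHom.commutes]
  haveI : IsScalarTower A (A' ⊗[R] B) (A' ⊗[R] N) := .of_algebraMap_smul fun x m => by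
    rw [IsScalarTower.algebraMap_apply A A' (A' ⊗[R] B), algebraMap_smul, algebraMap_smul]
  haveI : Algebra.IsPushout A A' (A ⊗[R] B) (A' ⊗[R] B) :=
    Algebra.IsPushout.tensorProduct_tensorProduct R B A A' (RingHom.ext fun b => by
      show pairRingMap R A A' B B (1 ⊗ₜ b) = (1 : A') ⊗ₜ[R] b
      rw [Algebra.TensorProduct.map_tmul, map_one]
      rfl)
  let α : A ⊗[R] B := algebraMap A (A ⊗[R] B) a
  let St := (A ⊗[R] N) ⧸ FlatCA.powTorsion (A ⊗[R] B) α (A ⊗[R] N)
  obtain ⟨hfl, hfp⟩ := h
  haveI : Module.Flat A St := hfl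
  haveI : Module.FinitePresentation (A ⊗[R] B) St := hfp
  have hα : algebraMap (A ⊗[R] B) (A' ⊗[R] B) α = algebraMap A' (A' ⊗[R] B) (algebraMap A A' a) := by
    rw [← IsScalarTower.algebraMap_apply A (A ⊗[R] B), ← IsScalarTower.algebraMap_apply A A']
  have hz : ∀ z : (A' ⊗[R] B) ⊗[A ⊗[R] B] St, α • z = 0 → z = 0 := fun z hz => by
    let c := Algebra.IsPushout.cancelBaseChange A A' (A ⊗[R] B) (A' ⊗[R] B) St
    refine c.injective ((Module.Flat.isSMulRegular_of_nonZeroDivisors (M := A' ⊗[A] St) ha).right_eq_zero_of_smul ?_ |>.trans (map_zero c).symm)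
    rw [← map_smul]
    have e : algebraMap A A' a • z = α • z :=
      (algebraMap_smul (A' ⊗[R] B) _ z).symm.trans ((congrArg (· • z) hα.symm).trans (algebraMap_smul (A' ⊗[R] B) α z))
    rw [e, hz, map_zero]
  obtain ⟨g', hg'⟩ := isBaseChange_quot α hν hz
  revert g' hg'
  rw [hα]
  intro g' hg'
  haveI : IsScalarTower A (A ⊗[R] B) ((A' ⊗[R] N) ⧸ FlatCA.powTorsion (A' ⊗[R] B)
      (algebraMap A' (A' ⊗[R] B) (algebraMap A A' a)) (A' ⊗[R] N)) := .of_algebraMap_smul fun x m =>
    (algebraMap_smul (A' ⊗[R] B) _ m).symm.trans ((congrArg (· • m)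
      (IsScalarTower.algebraMap_apply A (A ⊗[R] B) (A' ⊗[R] B) x).symm).trans (algebraMap_smul _ x m))
  exact ⟨Module.Flat.isBaseChange (R := A) (S := A') (h := (isBaseChange_iff_pushout g').1 hg'),
    FinitePresentation.of_isBaseChange g' hg'⟩

/-- Goodness is local for flat maps of `A` and of `B`. -/
theorem StGood.descend {A : Type u} [CommRing A] [Algebra R A] (a : A) {ι : Type} [Finite ι]
    (A' B' N' : ι → Type u) [∀ i, CommRing (A' i)] [∀ i, CommRing (B' i)] [∀ i, Algebra R (A' i)]
    [∀ i, Algebra A (A' i)] [∀ i, IsScalarTower R A (A' i)] [∀ i, Algebra R (B' i)] [∀ i, Algebra B (B' i)]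
    [∀ i, IsScalarTower R B (B' i)] [∀ i, Module.Flat A (A' i)] [∀ i, Module.Flat B (B' i)]
    [∀ i, AddCommGroup (N' i)] [∀ i, Module (B' i) (N' i)] [∀ i, Module B (N' i)] [∀ i, Module R (N' i)]
    [∀ i, IsScalarTower R (B' i) (N' i)] [∀ i, IsScalarTower B (B' i) (N' i)] [∀ i, IsScalarTower R B (N' i)]
    (fN : ∀ i, N →ₗ[B] N' i) (hfN : ∀ i, IsBaseChange (B' i) (fN i))
    (hcov : ∀ (Q : Ideal (A ⊗[R] B)) [Q.IsPrime], ∃ (i : ι) (Q' : Ideal (A' i ⊗[R] B' i)),
      Q'.IsPrime ∧ Q'.comap (pairRingMap R A (A' i) B (B' i)) = Q)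
    (h : ∀ i, StGood R (B' i) (N' i) (A' i) (algebraMap A (A' i) a)) : StGood R B N A a := by
  letI : ∀ i, Algebra (A ⊗[R] B) (A' i ⊗[R] B' i) := fun i => (pairRingMap R A (A' i) B (B' i)).toAlgebra
  letI : ∀ i, Module (A ⊗[R] B) (A' i ⊗[R] N' i) := fun i =>
    Module.compHom _ (pairRingMap R A (A' i) B (B' i)).toRingHom
  haveI : ∀ i, IsScalarTower (A ⊗[R] B) (A' i ⊗[R] B' i) (A' i ⊗[R] N' i) := fun i =>
    .of_algebraMap_smul fun _ _ => rfl
  haveI : ∀ i, IsScalarTower A (A ⊗[R] B) (A' i ⊗[R] B' i) := fun i => .of_algebraMap_eq fun x => by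
    show _ = pairRingMap R A (A' i) B (B' i) (algebraMap A (A ⊗[R] B) x)
    rw [AlgHom.commutes]
  haveI : ∀ i, IsScalarTower A (A' i ⊗[R] B' i) (A' i ⊗[R] N' i) := fun i => .of_algebraMap_smul fun x m => by
    rw [IsScalarTower.algebraMap_apply A (A' i) (A' i ⊗[R] B' i), algebraMap_smul, algebraMap_smul]
  haveI : ∀ i, Module.Flat (A ⊗[R] B) (A' i ⊗[R] B' i) := fun i => flat_pair
  let α : A ⊗[R] B := algebraMap A (A ⊗[R] B) a
  let St := (A ⊗[R] N) ⧸ FlatCA.powTorsion (A ⊗[R] B) α (A ⊗[R] N)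
  let St' := fun i => (A' i ⊗[R] N' i) ⧸ FlatCA.powTorsion (A' i ⊗[R] B' i)
    (algebraMap (A' i) (A' i ⊗[R] B' i) (algebraMap A (A' i) a)) (A' i ⊗[R] N' i)
  have hα : ∀ i, algebraMap (A ⊗[R] B) (A' i ⊗[R] B' i) α = algebraMap (A' i) _ (algebraMap A (A' i) a) := fun i => by
    rw [← IsScalarTower.algebraMap_apply A (A ⊗[R] B), ← IsScalarTower.algebraMap_apply A (A' i)]
  have hg : ∀ i, ∃ g' : St →ₗ[A ⊗[R] B] St' i, IsBaseChange (A' i ⊗[R] B' i) g' := fun i => by
    obtain ⟨ν, hν, -⟩ := exists_pair (R := R) (A := A) (A' := A' i) (fN i) (hfN i)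
    simp only [St']
    rw [← hα i]
    refine isBaseChange_quot α hν fun z hz => ?_
    have hreg : Function.Injective ((α • (LinearMap.id : St →ₗ[A ⊗[R] B] St)).lTensor (A' i ⊗[R] B' i)) :=
      Module.Flat.lTensor_preserves_injective_linearMap _ ((injective_iff_map_eq_zero _).2 fun x hx =>
        smul_quot_eq_zero α x hx)
    refine hreg ((?_ : _ = _).trans (map_zero _).symm)
    rw [LinearMap.lTensor_smul, LinearMap.lTensor_id, LinearMap.smul_apply, LinearMap.id_apply, hz]
  choose g' hg' using hg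
  haveI : ∀ i, IsScalarTower A (A ⊗[R] B) (St' i) := fun i => .of_algebraMap_smul fun x m =>
    (algebraMap_smul (A' i ⊗[R] B' i) _ m).symm.trans ((congrArg (· • m)
      (IsScalarTower.algebraMap_apply A (A ⊗[R] B) (A' i ⊗[R] B' i) x).symm).trans (algebraMap_smul _ x m))
  refine flat_fp_of_family (fun i => A' i ⊗[R] B' i) St' hcov g' hg' (fun i => ?_) fun i => ?_
  · haveI : Module.Flat (A' i) (St' i) := (h i).1
    exact Module.Flat.trans A (A' i) (St' i)
  · exact (h i).2

/-- Changing the base ring. -/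
theorem StGood.of_base {R' B' N' A A' : Type u} [CommRing R'] [Algebra R R'] [CommRing B'] [Algebra R B']
    [Algebra R' B'] [IsScalarTower R R' B'] [AddCommGroup N'] [Module B' N'] [Module R N'] [Module R' N']
    [IsScalarTower R B' N'] [IsScalarTower R' B' N'] [IsScalarTower R R' N']
    [CommRing A] [Algebra R A] [CommRing A'] [Algebra A A'] [Algebra R' A'] [Algebra R A'] [IsScalarTower R A A']
    [IsScalarTower R R' A'] [Algebra.IsPushout R A R' A'] [Module.Flat A A'] {a : A}
    (h : StGood R' B' N' A' (algebraMap A A' a)) : StGood R B' N' A a := by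
  letI : Algebra A (A' ⊗[R'] B') := Algebra.TensorProduct.leftAlgebra
  haveI : IsScalarTower A (A' ⊗[R'] B') (A' ⊗[R'] N') := .of_algebraMap_smul fun x m => by
    rw [IsScalarTower.algebraMap_apply A A' (A' ⊗[R'] B'), algebraMap_smul, algebraMap_smul]
  have h' : GoodQ A (A' ⊗[R'] B') (A' ⊗[R'] N') a := by
    obtain ⟨hfl, hfp⟩ := h
    rw [← IsScalarTower.algebraMap_apply A A' (A' ⊗[R'] B')] at hfl hfp
    haveI := hfl
    exact ⟨Module.Flat.trans A A' _, hfp⟩
  let i := (Algebra.IsPushout.cancelBaseChangeAlg R A R' A' B').symm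
  let j := (Algebra.IsPushout.cancelBaseChange R A R' A' N').symm
  refine GoodQ.of_semilinear i j.toAddEquiv (fun r m => ?_) h'
  show j (r • m) = i r • j m
  induction r using TensorProduct.induction_on with
  | zero => rw [zero_smul, map_zero, map_zero, zero_smul]
  | add x y hx hy => rw [add_smul, map_add, hx, hy, map_add, add_smul]
  | tmul x b =>
    induction m using TensorProduct.induction_on with
    | zero => rw [smul_zero, map_zero, smul_zero]
    | add p q hp hq => rw [smul_add, map_add, hp, hq, map_add, smul_add]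
    | tmul y n =>
      simp only [i, j, tmul_smul_tmul, Algebra.IsPushout.cancelBaseChange_symm_tmul,
        Algebra.IsPushout.cancelBaseChangeAlg_symm_tmul, map_mul]

/-- All strict transforms along maps making `I` principal are good. -/
def Flattens (R B N : Type u) [CommRing R] [CommRing B] [Algebra R B] [AddCommGroup N] [Module B N] [Module R N]
    [IsScalarTower R B N] (I : Ideal R) : Prop :=
  ∀ (A : Type u) [CommRing A] [Algebra R A] (a : A),
    I.map (algebraMap R A) = Ideal.span {a} → a ∈ nonZeroDivisors A → StGood R B N A a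

/-- Some ideal with the given zero locus flattens. -/
def Flattenable (R B N : Type u) [CommRing R] [CommRing B] [Algebra R B] [AddCommGroup N] [Module B N] [Module R N]
    [IsScalarTower R B N] (I₀ : Ideal R) : Prop :=
  ∃ I : Ideal R, I.FG ∧ I.radical = I₀.radical ∧ Flattens R B N I

theorem nzd_map_flat {A A' : Type u} [CommRing A] [CommRing A'] [Algebra A A'] [Module.Flat A A'] {a : A}
    (ha : a ∈ nonZeroDivisors A) : algebraMap A A' a ∈ nonZeroDivisors A' :=
  mem_nonZeroDivisors_iff_right.2 fun y hy =>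
    (Module.Flat.isSMulRegular_of_nonZeroDivisors ha : IsSMulRegular A' a).right_eq_zero_of_smul
      (by rw [Algebra.smul_def, mul_comm]; exact hy)

/-- The principal condition may be relaxed to invertibility. -/
theorem Flattens.apply {I : Ideal R} (h : Flattens R B N I) {A : Type u} [CommRing A] [Algebra R A] {a : A}
    (hI : IsInv (I.map (algebraMap R A))) (ha : a ∈ nonZeroDivisors A)
    (hrad : (Ideal.span {a}).radical = (I.map (algebraMap R A)).radical) : StGood R B N A a := by
  classical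
  obtain ⟨s, hs⟩ := hI.1
  choose c hc g hg he hnz using fun p : PrimeSpectrum A => exists_nhd hI (s := s) hs p.asIdeal
  obtain ⟨t, ht⟩ := isCompact_univ.elim_finite_subcover
    (fun p : PrimeSpectrum A => (PrimeSpectrum.basicOpen (g p) : Set (PrimeSpectrum A)))
    (fun p => (PrimeSpectrum.basicOpen (g p)).isOpen) (fun p _ => Set.mem_iUnion.2 ⟨p, hg p⟩)
  haveI : ∀ i : Fin t.card, Module.Flat A (Localization.Away (g (t.equivFin.symm i).1)) := fun i =>
    IsLocalization.flat _ (Submonoid.powers (g (t.equivFin.symm i).1))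
  refine StGood.descend a (ι := Fin t.card) (fun i => Localization.Away (g (t.equivFin.symm i).1)) (fun _ => B)
    (fun _ => N) (fun _ => LinearMap.id) (fun _ => IsBaseChange.of_equiv (TensorProduct.lid B N) fun x => by simp)
    (fun Q hQ => ?_) fun i => ?_
  · let P : PrimeSpectrum A := ⟨Q.comap (algebraMap A (A ⊗[R] B)), Ideal.IsPrime.comap _⟩
    obtain ⟨p, hp, hgp⟩ := Set.mem_iUnion₂.1 (ht (Set.mem_univ P))
    refine ⟨t.equivFin ⟨p, hp⟩, ?_⟩
    rw [Equiv.symm_apply_apply]
    letI := (pairRingMap R A (Localization.Away (g p)) B B).toAlgebra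
    haveI : IsScalarTower A (A ⊗[R] B) (Localization.Away (g p) ⊗[R] B) := .of_algebraMap_eq fun x => by
      show _ = pairRingMap R A (Localization.Away (g p)) B B (algebraMap A (A ⊗[R] B) x)
      rw [AlgHom.commutes]
    haveI : Algebra.IsPushout A (Localization.Away (g p)) (A ⊗[R] B) (Localization.Away (g p) ⊗[R] B) :=
      Algebra.IsPushout.tensorProduct_tensorProduct R B A _ (RingHom.ext fun b => by
        show pairRingMap R A (Localization.Away (g p)) B B (1 ⊗ₜ b) = (1 : Localization.Away (g p)) ⊗ₜ[R] b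
        rw [Algebra.TensorProduct.map_tmul, map_one]
        rfl)
    haveI : IsLocalization (Algebra.algebraMapSubmonoid (A ⊗[R] B) (Submonoid.powers (g p)))
        (Localization.Away (g p) ⊗[R] B) :=
      (Algebra.isLocalization_iff_isPushout (Submonoid.powers (g p)) (Localization.Away (g p))).2 (Algebra.IsPushout.symm inferInstance)
    have hdis : Disjoint (Algebra.algebraMapSubmonoid (A ⊗[R] B) (Submonoid.powers (g p)) : Set (A ⊗[R] B)) Q := by
      rw [Set.disjoint_left]
      rintro _ ⟨_, ⟨n, rfl⟩, rfl⟩ hn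
      rw [SetLike.mem_coe, map_pow] at hn
      exact hgp (hQ.mem_of_pow_mem n hn)
    refine ⟨Q.map (algebraMap (A ⊗[R] B) (Localization.Away (g p) ⊗[R] B)),
      IsLocalization.isPrime_of_isPrime_disjoint _ _ Q hQ hdis, ?_⟩
    exact IsLocalization.comap_map_of_isPrime_disjoint _ _ hQ hdis
  · let p := (t.equivFin.symm i).1
    let A' := Localization.Away (g p)
    have hI' : I.map (algebraMap R A') = Ideal.span {algebraMap A A' (c p)} := by
      rw [IsScalarTower.algebraMap_eq R A A', ← Ideal.map_map]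
      exact he p
    refine GoodQ.of_radical ?_ ?_ (h A' (algebraMap A A' (c p)) hI' (hnz p))
    · have h1 : a ∈ (I.map (algebraMap R A)).radical := hrad ▸ Ideal.le_radical (Ideal.mem_span_singleton_self a)
      obtain ⟨n, hn⟩ := h1
      exact ⟨n, by rw [← map_pow, ← he p]; exact Ideal.mem_map_of_mem _ hn⟩
    · have h1 : c p ∈ (Ideal.span {a}).radical := hrad ▸ Ideal.le_radical (hs ▸ Ideal.subset_span (hc p))
      obtain ⟨n, hn⟩ := h1
      obtain ⟨d, hd⟩ := Ideal.mem_span_singleton'.1 hn
      exact ⟨n, Ideal.mem_span_singleton'.2 ⟨algebraMap A A' d, by rw [← map_mul, hd, map_pow]⟩⟩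

end Groth.Agent.StrictAlg
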