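import Groth.Agent.StrictAlg.Inv
import Groth.Agent.S1271
import Mathlib.RingTheory.Etale.Basic
import Mathlib.RingTheory.RingHom.Flat
import Mathlib.RingTheory.Spectrum.Prime.Topology

/-!
# Ideals of the base dominating ideals of charts and of etale algebras
-/

set_option autoImplicit false
set_option linter.style.haveILetI false
set_option backward.isDefEq.respectTransparency false
set_option backward.isDefEq.respectTransparency.types false

universe u

open TensorProduct

namespace Groth.Agent.StrictAlg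

variable {R : Type u} [CommRing R]

theorem radical_le_prod {ι : Type*} (s : Finset ι) (L : ι → Ideal R) (I : Ideal R)
    (h : ∀ i ∈ s, I ≤ (L i).radical) : I ≤ (∏ i ∈ s, L i).radical := by
  classical
  induction s using Finset.induction_on with
  | empty => rw [Finset.prod_empty, Ideal.one_eq_top, Ideal.radical_top]; exact le_top
  | insert a s ha ih =>
    rw [Finset.prod_insert ha, Ideal.radical_mul]
    exact le_inf (h a (Finset.mem_insert_self _ _)) (ih fun i hi => h i (Finset.mem_insert_of_mem hi))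

theorem fg_prod {ι : Type*} (s : Finset ι) (L : ι → Ideal R) (h : ∀ i ∈ s, (L i).FG) : (∏ i ∈ s, L i).FG := by
  classical
  induction s using Finset.induction_on with
  | empty => rw [Finset.prod_empty, Ideal.one_eq_top]; exact ⟨{1}, by simp⟩
  | insert a s ha ih =>
    rw [Finset.prod_insert ha]
    exact Submodule.FG.mul (h a (Finset.mem_insert_self _ _)) (ih fun i hi => h i (Finset.mem_insert_of_mem hi))

theorem IsInv.of_prod {T : Type u} [CommRing T] {ι : Type*} {s : Finset ι} {L : ι → Ideal R} [Algebra R T] {i : ι}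
    (hi : i ∈ s) (hfg : (L i).FG) (h : IsInv ((∏ j ∈ s, L j).map (algebraMap R T))) :
    IsInv ((L i).map (algebraMap R T)) := by
  classical
  rw [← Finset.mul_prod_erase s L hi, Ideal.map_mul] at h
  exact h.of_mul (hfg.map _)

/-- Ideals of the charts are dominated by an ideal of the base. -/
theorem exists_ideal_charts {I : Ideal R} (s : Finset R) (hs : Ideal.span (s : Set R) = I)
    (J : ∀ a : R, Ideal (BlowUp.affineAlgebra R I a)) (hJ : ∀ a ∈ s, (J a).FG)
    (hJa : ∀ a ∈ s, algebraMap R _ a ∈ (J a).radical) :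
    ∃ K : Ideal R, K.FG ∧ K.radical = I.radical ∧
      (∀ (T : Type u) [CommRing T] [Algebra R T], IsInv (K.map (algebraMap R T)) →
        IsInv (I.map (algebraMap R T))) ∧
      ∀ a ∈ s, ∀ (T : Type u) [CommRing T] [Algebra R T] (φ : BlowUp.affineAlgebra R I a →ₐ[R] T),
        IsInv (K.map (algebraMap R T)) → IsInv ((J a).map φ.toRingHom) := by
  classical
  have hI : I.FG := ⟨s, hs⟩
  have hmemI : ∀ a ∈ s, a ∈ I := fun a ha => hs ▸ Ideal.subset_span ha
  have hstep : ∀ a ∈ s, ∃ L : Ideal R, L.FG ∧ L ≤ I ∧ I ≤ L.radical ∧ ∃ d : ℕ,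
      L.map (algebraMap R (BlowUp.affineAlgebra R I a)) = Ideal.span {algebraMap R _ a ^ d} * J a := by
    intro a ha
    obtain ⟨G, hG⟩ := hJ a ha
    obtain ⟨m, hm⟩ := hJa a ha
    choose n hn using fun y : BlowUp.affineAlgebra R I a => exists_num y (hmemI a ha)
    obtain ⟨d, hd1, hd⟩ : ∃ d, 1 ≤ d ∧ ∀ y ∈ G, n y ≤ d :=
      ⟨G.sup n + 1, Nat.le_add_left 1 _, fun y hy => (Finset.le_sup hy).trans (Nat.le_succ _)⟩
    choose x hx hxe using fun y : G => hn y.1 d (hd y.1 y.2)
    refine ⟨Ideal.span (Finset.univ.image x : Set R) ⊔ I ^ (d + m), (Submodule.FG.sup ⟨_, rfl⟩ hI.pow),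
      sup_le (Ideal.span_le.2 ?_) (Ideal.pow_le_self (by omega)), fun z hz => ⟨d + m, ?_⟩, d, le_antisymm ?_ ?_⟩
    · intro z hz
      obtain ⟨y, -, rfl⟩ := Finset.mem_image.1 (Finset.mem_coe.1 hz)
      exact Ideal.pow_le_self (by omega) (hx y)
    · exact Ideal.mem_sup_right (Ideal.pow_mem_pow hz _)
    · rw [Ideal.map_sup, sup_le_iff, Ideal.map_span, Ideal.span_le, Ideal.map_pow, map_eq_span (hmemI a ha),
        Ideal.span_singleton_pow, Ideal.span_singleton_le_iff_mem]
      refine ⟨?_, ?_⟩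
      · rintro _ ⟨z, hz, rfl⟩
        obtain ⟨y, -, rfl⟩ := Finset.mem_image.1 (Finset.mem_coe.1 hz)
        rw [SetLike.mem_coe, ← hxe y, mul_comm (y : BlowUp.affineAlgebra R I a)]
        exact Ideal.mul_mem_mul (Ideal.mem_span_singleton_self _) (hG ▸ Ideal.subset_span y.2)
      · rw [pow_add]
        exact Ideal.mul_mem_mul (Ideal.mem_span_singleton_self _) hm
    · conv_lhs => rw [← hG, Ideal.span_mul_span, Set.singleton_mul]
      rw [Ideal.span_le]
      rintro _ ⟨y, hy, rfl⟩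
      show algebraMap R _ a ^ d * y ∈ _
      rw [mul_comm, hxe ⟨y, hy⟩]
      exact Ideal.mem_map_of_mem _ (Ideal.mem_sup_left (Ideal.subset_span
        (Finset.mem_coe.2 (Finset.mem_image.2 ⟨⟨y, hy⟩, Finset.mem_univ _, rfl⟩))))
  choose L hL hLI hIL d hLd using hstep
  let L' : R → Ideal R := fun a => if h : a ∈ s then L a h else ⊤
  have hL' : ∀ a (h : a ∈ s), L' a = L a h := fun a h => dif_pos h
  refine ⟨I * ∏ a ∈ s, L' a, Submodule.FG.mul hI (fg_prod _ _ fun a h => hL' a h ▸ hL a h), ?_,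
    fun T _ _ h => ?_, fun a ha T _ _ φ h => ?_⟩
  · rw [Ideal.radical_mul, inf_eq_left]
    exact Ideal.radical_le_radical_iff.2 (radical_le_prod _ _ _ fun a h => hL' a h ▸ hIL a h)
  · rw [Ideal.map_mul] at h
    exact h.of_mul (hI.map _)
  · rw [Ideal.map_mul, mul_comm] at h
    have h1 := IsInv.of_prod ha (hL' a ha ▸ hL a ha) (h.of_mul ((fg_prod _ _ fun a h => hL' a h ▸ hL a h).map _))
    rw [hL' a ha, ← φ.comp_algebraMap, ← Ideal.map_map] at h1
    change IsInv (((L a ha).map (algebraMap R (BlowUp.affineAlgebra R I a))).map φ.toRingHom) at h1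
    rw [hLd a ha, Ideal.map_mul, mul_comm] at h1
    exact h1.of_mul ((hJ a ha).map _)

/-- One ideal of the base for all the local pieces of S1271. -/
theorem exists_ideal_cover {C W : Type u} [CommRing C] [CommRing W] [Algebra C W] [Algebra.Etale C W] (α : C)
    (hα : α ∈ nonZeroDivisors C) {J : Ideal W} (hJ : J.FG) (hJα : algebraMap C W α ∈ J.radical) :
    ∃ K : Ideal C, K.FG ∧ α ∈ K.radical ∧ ∀ (Q : Ideal W) [Q.IsPrime], ∃ g ∉ Q,
      ∀ (Z : Type u) [CommRing Z] [Algebra W Z], IsUnit (algebraMap W Z g) →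
        IsInv (K.map ((algebraMap W Z).comp (algebraMap C W))) → IsInv (J.map (algebraMap W Z)) := by
  classical
  choose K g J' hK haK hg hJ' he using fun q : PrimeSpectrum W => S1271.result α hα J hJ hJα q.asIdeal
  obtain ⟨t, ht⟩ := isCompact_univ.elim_finite_subcover
    (fun q : PrimeSpectrum W => (PrimeSpectrum.basicOpen (g q) : Set (PrimeSpectrum W)))
    (fun q => (PrimeSpectrum.basicOpen (g q)).isOpen) (fun q _ => Set.mem_iUnion.2 ⟨q, hg q⟩)
  refine ⟨∏ q ∈ t, K q, fg_prod _ _ fun q _ => hK q, ?_, fun Q hQ => ?_⟩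
  · exact radical_le_prod t K (Ideal.span {α})
      (fun q _ => (Ideal.span_singleton_le_iff_mem _).2 (haK q)) (Ideal.mem_span_singleton_self _)
  obtain ⟨q, hq, hQq⟩ := Set.mem_iUnion₂.1 (ht (Set.mem_univ ⟨Q, hQ⟩))
  refine ⟨g q, hQq, fun Z _ _ hu hinv => ?_⟩
  let l : Localization.Away (g q) →+* Z := IsLocalization.Away.lift (g q) hu
  have hl : l.comp (algebraMap W (Localization.Away (g q))) = algebraMap W Z :=
    RingHom.ext fun x => IsLocalization.Away.lift_eq (g q) hu x
  rw [← Finset.mul_prod_erase t K hq, Ideal.map_mul] at hinv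
  have h1 := hinv.of_mul ((hK q).map _)
  rw [← hl, RingHom.comp_assoc, ← IsScalarTower.algebraMap_eq, ← Ideal.map_map, he q, Ideal.map_mul,
    Ideal.map_map, hl] at h1
  exact h1.of_mul (hJ.map _)

/-- The etale algebra over one chart. -/
theorem exists_ideal_cover_map {R' C : Type u} [CommRing R'] [Algebra R R'] [Algebra.Etale R R'] [CommRing C]
    [Algebra R C] (α : C) (hα : α ∈ nonZeroDivisors C) {J : Ideal R'} (hJ : J.FG)
    (hJα : algebraMap C (C ⊗[R] R') α ∈
      (J.map (Algebra.TensorProduct.includeRight : R' →ₐ[R] C ⊗[R] R').toRingHom).radical) :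
    ∃ K : Ideal C, K.FG ∧ α ∈ K.radical ∧ ∀ (T : Type u) [CommRing T] [Algebra R T] (φ : C →ₐ[R] T),
      IsInv (K.map φ.toRingHom) →
        IsInv (J.map (Algebra.TensorProduct.includeRight : R' →ₐ[R] T ⊗[R] R').toRingHom) := by
  obtain ⟨K, hK, hαK, hcov⟩ := exists_ideal_cover α hα (hJ.map _) hJα
  refine ⟨K, hK, hαK, fun T _ _ φ hT => IsInv.of_local (hJ.map _) fun Q hQ => ?_⟩
  let ψ : C ⊗[R] R' →ₐ[R] T ⊗[R] R' := Algebra.TensorProduct.map φ (AlgHom.id R R')
  obtain ⟨g, hg, hZ⟩ := hcov (Q.comap ψ.toRingHom)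
  let Z := Localization.Away (ψ g)
  haveI : Module.Flat (T ⊗[R] R') Z := IsLocalization.flat _ (Submonoid.powers (ψ g))
  refine ⟨Z, inferInstance, inferInstance, Q.map (algebraMap (T ⊗[R] R') Z), inferInstance, ?_, ?_, ?_⟩
  · refine IsLocalization.isPrime_of_isPrime_disjoint (Submonoid.powers (ψ g)) _ Q hQ ?_
    rw [Set.disjoint_left]
    rintro _ ⟨n, rfl⟩ hn
    exact hg (hQ.mem_of_pow_mem n hn)
  · refine IsLocalization.comap_map_of_isPrime_disjoint (Submonoid.powers (ψ g)) _ hQ ?_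
    rw [Set.disjoint_left]
    rintro _ ⟨n, rfl⟩ hn
    exact hg (hQ.mem_of_pow_mem n hn)
  letI : Algebra (C ⊗[R] R') Z := ((algebraMap (T ⊗[R] R') Z).comp ψ.toRingHom).toAlgebra
  have h1 := (hT.map (T' := T ⊗[R] R')).map (T' := Z)
  rw [Ideal.map_map, Ideal.map_map] at h1
  have h2 := hZ Z (IsLocalization.Away.algebraMap_isUnit (ψ g)) (by
    convert h1 using 2
    refine RingHom.ext fun x => ?_
    show algebraMap (T ⊗[R] R') Z (ψ (x ⊗ₜ 1)) = algebraMap (T ⊗[R] R') Z (φ x ⊗ₜ 1)
    rw [Algebra.TensorProduct.map_tmul, map_one])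
  rw [Ideal.map_map] at h2 ⊢
  convert h2 using 2
  refine RingHom.ext fun x => ?_
  show algebraMap (T ⊗[R] R') Z (1 ⊗ₜ x) = algebraMap (T ⊗[R] R') Z (ψ (1 ⊗ₜ x))
  rw [Algebra.TensorProduct.map_tmul, map_one]
  rfl

/-- Invertibility upstairs is local downstairs. -/
theorem isInv_of_piece {R' A T : Type u} [CommRing R'] [Algebra R R'] [CommRing A] [Algebra R A] [CommRing T]
    [Algebra R T] [Algebra A T] [IsScalarTower R A T] [Module.Flat A T] {J : Ideal R'}
    (h : IsInv (J.map (Algebra.TensorProduct.includeRight : R' →ₐ[R] T ⊗[R] R').toRingHom))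
    (Q : Ideal (A ⊗[R] R')) [Q.IsPrime] {g : A} [IsLocalization.Away g T]
    (hg : algebraMap A (A ⊗[R] R') g ∉ Q) :
    ∃ (T' : Type u) (_ : CommRing T') (_ : Algebra (A ⊗[R] R') T') (q : Ideal T'),
      Module.Flat (A ⊗[R] R') T' ∧ q.IsPrime ∧ q.comap (algebraMap (A ⊗[R] R') T') = Q ∧
      IsInv ((J.map (Algebra.TensorProduct.includeRight : R' →ₐ[R] A ⊗[R] R').toRingHom).map
        (algebraMap (A ⊗[R] R') T')) := by
  letI : Algebra (A ⊗[R] R') (T ⊗[R] R') :=
    (Algebra.TensorProduct.map (Algebra.ofId A T) (AlgHom.id R R')).toAlgebra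
  haveI : IsScalarTower A (A ⊗[R] R') (T ⊗[R] R') := .of_algebraMap_eq fun x =>
    ((Algebra.TensorProduct.map (Algebra.ofId A T) (AlgHom.id R R')).commutes x).symm
  have hflat : Module.Flat (A ⊗[R] R') (T ⊗[R] R') := RingHom.Flat.tensorProductMap
    (f := Algebra.ofId A T) (g := AlgHom.id R R') (RingHom.flat_algebraMap_iff.2 ‹_›)
    (RingHom.Flat.of_bijective Function.bijective_id)
  haveI : Algebra.IsPushout A T (A ⊗[R] R') (T ⊗[R] R') :=
    Algebra.IsPushout.tensorProduct_tensorProduct R R' A T (RingHom.ext fun b => by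
      show Algebra.TensorProduct.map (Algebra.ofId A T) (AlgHom.id R R') (1 ⊗ₜ b) = (1 : T) ⊗ₜ[R] b
      rw [Algebra.TensorProduct.map_tmul, map_one]
      rfl)
  haveI : IsLocalization (Algebra.algebraMapSubmonoid (A ⊗[R] R') (Submonoid.powers g)) (T ⊗[R] R') :=
    (Algebra.isLocalization_iff_isPushout (Submonoid.powers g) T).2 (Algebra.IsPushout.symm inferInstance)
  have hdis : Disjoint (Algebra.algebraMapSubmonoid (A ⊗[R] R') (Submonoid.powers g) : Set (A ⊗[R] R')) Q := by
    rw [Set.disjoint_left]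
    rintro _ ⟨_, ⟨n, rfl⟩, rfl⟩ hn
    rw [SetLike.mem_coe, map_pow] at hn
    exact hg (‹Q.IsPrime›.mem_of_pow_mem n hn)
  refine ⟨T ⊗[R] R', inferInstance, inferInstance, Q.map (algebraMap (A ⊗[R] R') (T ⊗[R] R')), hflat,
    IsLocalization.isPrime_of_isPrime_disjoint _ _ Q ‹_› hdis,
    IsLocalization.comap_map_of_isPrime_disjoint _ _ ‹_› hdis, ?_⟩
  rw [Ideal.map_map]
  convert h using 2
  refine RingHom.ext fun x => ?_
  show Algebra.TensorProduct.map (Algebra.ofId A T) (AlgHom.id R R') (1 ⊗ₜ x) = (1 : T) ⊗ₜ[R] x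
  rw [Algebra.TensorProduct.map_tmul, map_one]
  rfl

theorem mem_radical_tensor {R' : Type u} [CommRing R'] [Algebra R R'] {I : Ideal R} {J : Ideal R'}
    (C : Type u) [CommRing C] [Algebra R C]
    (hJI : I.map (algebraMap R R') ≤ J.radical) {a : R} (ha : a ∈ I) :
    algebraMap C (C ⊗[R] R') (algebraMap R C a) ∈
      (J.map (Algebra.TensorProduct.includeRight : R' →ₐ[R] C ⊗[R] R').toRingHom).radical := by
  obtain ⟨n, hn⟩ := hJI (Ideal.mem_map_of_mem _ ha)
  refine ⟨n, ?_⟩
  have := Ideal.mem_map_of_mem (Algebra.TensorProduct.includeRight : R' →ₐ[R] C ⊗[R] R').toRingHom hn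
  rw [map_pow] at this
  rwa [← IsScalarTower.algebraMap_apply R C, ← AlgHom.commutes
    (Algebra.TensorProduct.includeRight : R' →ₐ[R] C ⊗[R] R')]

/-- Ideals of etale algebras are dominated by ideals of the base. -/
theorem exists_ideal_etale {R' : Type u} [CommRing R'] [Algebra R R'] [Algebra.Etale R R'] {I : Ideal R}
    (hI : I.FG) {J : Ideal R'} (hJ : J.FG) (hJI : I.map (algebraMap R R') ≤ J.radical) :
    ∃ K : Ideal R, K.FG ∧ K.radical = I.radical ∧ ∀ (A : Type u) [CommRing A] [Algebra R A],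
      IsInv (K.map (algebraMap R A)) →
        IsInv (I.map (algebraMap R A)) ∧
          IsInv (J.map (Algebra.TensorProduct.includeRight : R' →ₐ[R] A ⊗[R] R').toRingHom) := by
  classical
  obtain ⟨s, hs⟩ := hI
  choose Kc hKc hKca hKcT using fun a (ha : a ∈ s) =>
    exists_ideal_cover_map (R := R) (R' := R') (C := BlowUp.affineAlgebra R I a)
      (algebraMap R (BlowUp.affineAlgebra R I a) a) nzd_affineAlgebra hJ
      (mem_radical_tensor (BlowUp.affineAlgebra R I a) hJI (hs ▸ Ideal.subset_span ha))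
  obtain ⟨K, hK, hKrad, hKI, hKJ⟩ := exists_ideal_charts s hs (fun a => if h : a ∈ s then Kc a h else ⊤)
    (fun a h => by simp only [dif_pos h]; exact hKc a h) (fun a h => by simp only [dif_pos h]; exact hKca a h)
  refine ⟨K, hK, hKrad, fun A _ _ hA => ⟨hKI A hA, IsInv.of_local (hJ.map _) fun Q hQ => ?_⟩⟩
  obtain ⟨c₀, hc₀, g₀, hg₀, he, hnz⟩ := exists_nhd (hKI A hA) (s := s.image (algebraMap R A))
    (by rw [Finset.coe_image, ← Ideal.map_span, hs]) (Q.comap (algebraMap A (A ⊗[R] R')))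
  obtain ⟨a, ha, rfl⟩ := Finset.mem_image.1 hc₀
  haveI : Module.Flat A (Localization.Away g₀) := IsLocalization.flat _ (Submonoid.powers g₀)
  rw [Ideal.map_map, ← IsScalarTower.algebraMap_eq, ← IsScalarTower.algebraMap_apply] at he
  rw [← IsScalarTower.algebraMap_apply] at hnz
  obtain ⟨φ⟩ := exists_algHom (a := a) he hnz
  have hKT : IsInv (K.map (algebraMap R (Localization.Away g₀))) := by
    rw [IsScalarTower.algebraMap_eq R A (Localization.Away g₀), ← Ideal.map_map]
    exact hA.map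
  have hJT := hKJ a ha (Localization.Away g₀) φ hKT
  simp only [dif_pos ha] at hJT
  exact isInv_of_piece (hKcT a ha (Localization.Away g₀) φ hJT) Q hg₀

end Groth.Agent.StrictAlg
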