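import Groth.Agent.StrictAlg.Key
import Groth.Agent.FlatDevLoc.Basic
import Groth.Agent.H23.TopDim
import Groth.Agent.S1249
import Groth.Agent.S1251
import Groth.Agent.FibDim.Alg

/-!
# Flattening by induction on the fibre dimension
-/

set_option autoImplicit false
set_option linter.style.haveILetI false
set_option backward.isDefEq.respectTransparency false
set_option backward.isDefEq.respectTransparency.types false
attribute [-instance] CategoryTheory.catToReflQuiver

universe u

open TensorProduct

namespace Groth.Agent.StrictAlg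

section Congr

variable {R B N N' : Type u} [CommRing R] [CommRing B] [Algebra R B] [AddCommGroup N] [Module B N] [Module R N]
  [IsScalarTower R B N] [AddCommGroup N'] [Module B N'] [Module R N'] [IsScalarTower R B N']

theorem stGood_congr (e : N ≃ₗ[B] N') {A : Type u} [CommRing A] [Algebra R A] {a : A} (h : StGood R B N A a) :
    StGood R B N' A a := by
  let j : A ⊗[R] N' ≃ₗ[A ⊗[R] B] A ⊗[R] N :=
    { tensorMap (R := R) A e.symm.toLinearMap with
      invFun := tensorMap (R := R) A e.toLinearMap
      left_inv := fun x => by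
        show tensorMap (R := R) A e.toLinearMap (tensorMap (R := R) A e.symm.toLinearMap x) = x
        induction x using TensorProduct.induction_on with
        | zero => simp only [map_zero]
        | add u v hu hv => simp only [map_add, hu, hv]
        | tmul a n => simp [tensorMap_apply]
      right_inv := fun x => by
        show tensorMap (R := R) A e.symm.toLinearMap (tensorMap (R := R) A e.toLinearMap x) = x
        induction x using TensorProduct.induction_on with
        | zero => simp only [map_zero]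
        | add u v hu hv => simp only [map_add, hu, hv]
        | tmul a n => simp [tensorMap_apply] }
  exact GoodQ.of_semilinear AlgEquiv.refl j.toAddEquiv (fun r m => j.map_smul r m) h

theorem flattenable_congr (e : N ≃ₗ[B] N') {I₀ : Ideal R} (h : Flattenable R B N I₀) : Flattenable R B N' I₀ :=
  let ⟨I, h₁, h₂, h₃⟩ := h
  ⟨I, h₁, h₂, fun A _ _ a hI ha => stGood_congr e (h₃ A a hI ha)⟩

theorem offGood_congr (e : N ≃ₗ[B] N') {I₀ : Ideal R} (h : OffGood R B N I₀) : OffGood R B N' I₀ :=
  fun A _ _ hA => stGood_congr e (h A hA)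

theorem flattenable_of_subsingleton [Subsingleton N] {I₀ : Ideal R} (hI₀ : I₀.FG) : Flattenable R B N I₀ := by
  refine ⟨I₀, hI₀, rfl, fun A _ _ a _ _ => ?_⟩
  haveI : Subsingleton (A ⊗[R] N) := subsingleton_of_forall_eq 0 fun x => by
    induction x using TensorProduct.induction_on with
    | zero => rfl
    | add u v hu hv => rw [hu, hv, add_zero]
    | tmul a n => rw [Subsingleton.elim n 0, tmul_zero]
  exact ⟨inferInstance, inferInstance⟩

end Congr

section Restrict

variable {R B C N : Type u} [CommRing R] [CommRing B] [CommRing C] [Algebra R B] [Algebra R C] [Algebra B C]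
  [IsScalarTower R B C] [AddCommGroup N] [Module C N] [Module B N] [IsScalarTower B C N] [Module R N]
  [IsScalarTower R B N] [IsScalarTower R C N] [Module.FinitePresentation B C] {I₀ : Ideal R}

theorem offGood_iff_restrict : OffGood R B N I₀ ↔ OffGood R C N I₀ :=
  ⟨fun h A _ _ hA => stGood_iff_restrict.1 (h A hA), fun h A _ _ hA => stGood_iff_restrict.2 (h A hA)⟩

theorem flattenable_iff_restrict : Flattenable R B N I₀ ↔ Flattenable R C N I₀ :=
  exists_congr fun _ => and_congr Iff.rfl (and_congr Iff.rfl flattens_iff_restrict)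

end Restrict

/-- A neighbourhood on which flattening is known. -/
structure Piece (R B N : Type u) [CommRing R] [CommRing B] [Algebra R B] [AddCommGroup N] [Module B N] [Module R N]
    (I₀ : Ideal R) where
  R' : Type u
  B' : Type u
  N' : Type u
  [cR' : CommRing R'] [cB' : CommRing B'] [aR' : Algebra R R'] [et : Algebra.Etale R R']
  [aB' : Algebra R B'] [bB' : Algebra B B'] [rB' : Algebra R' B']
  [t₁ : IsScalarTower R B B'] [t₂ : IsScalarTower R R' B']
  [fl : Module.Flat B B']
  [gN' : AddCommGroup N'] [mB'N' : Module B' N'] [mBN' : Module B N'] [mRN' : Module R N'] [mR'N' : Module R' N']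
  [t₃ : IsScalarTower R B' N'] [t₄ : IsScalarTower B B' N'] [t₅ : IsScalarTower R B N'] [t₆ : IsScalarTower R' B' N']
  [t₇ : IsScalarTower R R' N']
  f : N →ₗ[B] N'
  bc : IsBaseChange B' f
  good : Flattenable R' B' N' (I₀.map (algebraMap R R'))
  U : Set (PrimeSpectrum B)
  isOpen : IsOpen U
  sub : U ⊆ Set.range (PrimeSpectrum.comap (algebraMap B B'))

attribute [instance] Piece.cR' Piece.cB' Piece.aR' Piece.et Piece.aB' Piece.bB' Piece.rB' Piece.t₁ Piece.t₂
  Piece.fl Piece.gN' Piece.mB'N' Piece.mBN' Piece.mRN' Piece.mR'N' Piece.t₃ Piece.t₄ Piece.t₅ Piece.t₆ Piece.t₇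

theorem flattenable_of_pieces {R B N : Type u} [CommRing R] [CommRing B] [Algebra R B] [AddCommGroup N] [Module B N]
    [Module R N] [IsScalarTower R B N] {I₀ : Ideal R} (hI₀ : I₀.FG)
    (h : ∀ q : PrimeSpectrum B, ∃ P : Piece R B N I₀, q ∈ P.U) : Flattenable R B N I₀ := by
  classical
  choose P hP using h
  obtain ⟨t, ht⟩ := isCompact_univ.elim_finite_subcover (fun q => (P q).U) (fun q => (P q).isOpen)
    (fun q _ => Set.mem_iUnion.2 ⟨q, hP q⟩)
  let E : Fin t.card → Piece R B N I₀ := fun i => P (t.equivFin.symm i).1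
  refine flattenable_of_etale hI₀ (fun i => (E i).R') (fun i => (E i).B') (fun i => (E i).N') (fun i => (E i).f)
    (fun i => (E i).bc) (fun q hq => ?_) fun i => (E i).good
  obtain ⟨p, hp, hqp⟩ := Set.mem_iUnion₂.1 (ht (Set.mem_univ (⟨q, hq⟩ : PrimeSpectrum B)))
  obtain ⟨Q, hQ⟩ := (P p).sub hqp
  refine ⟨t.equivFin ⟨p, hp⟩, ?_⟩
  have epi : E (t.equivFin ⟨p, hp⟩) = P p := by simp only [E, Equiv.symm_apply_apply]
  show ∃ Q : Ideal (E (t.equivFin ⟨p, hp⟩)).B', Q.IsPrime ∧ Q.comap (algebraMap B (E (t.equivFin ⟨p, hp⟩)).B') = q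
  rw [epi]
  exact ⟨Q.asIdeal, Q.isPrime, congrArg PrimeSpectrum.asIdeal hQ⟩

theorem exists_piece_zero {R B N : Type u} [CommRing R] [CommRing B] [Algebra R B] [AddCommGroup N] [Module B N]
    [Module R N] [IsScalarTower R B N] [Module.Finite B N] {I₀ : Ideal R} (hI₀ : I₀.FG) (q : PrimeSpectrum B)
    (hq : q ∉ Module.support B N) : ∃ P : Piece R B N I₀, q ∈ P.U := by
  obtain ⟨h, hh, hhq⟩ : ∃ h ∈ Module.annihilator B N, h ∉ q.asIdeal := by
    rw [Module.support_eq_zeroLocus, PrimeSpectrum.mem_zeroLocus, Set.not_subset] at hq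
    exact hq
  let B' := Localization.Away h
  let N' := LocalizedModule (Submonoid.powers h) N
  haveI : Subsingleton N' := LocalizedModule.subsingleton_iff.2 fun m => ⟨h, Submonoid.mem_powers h, Module.mem_annihilator.1 hh m⟩
  haveI : Algebra.Etale R R := inferInstance
  haveI : Module.Flat B B' := IsLocalization.flat _ (Submonoid.powers h)
  haveI : IsScalarTower R B' N' := .of_algebraMap_smul fun _ _ => Subsingleton.elim _ _
  haveI : IsScalarTower R B N' := .of_algebraMap_smul fun _ _ => Subsingleton.elim _ _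
  haveI : IsScalarTower R R N' := IsScalarTower.left R
  exact ⟨{
    R' := R, B' := B', N' := N'
    f := LocalizedModule.mkLinearMap (Submonoid.powers h) N
    bc := (isLocalizedModule_iff_isBaseChange (Submonoid.powers h) B' _).1 inferInstance
    good := flattenable_of_subsingleton (hI₀.map _)
    U := PrimeSpectrum.basicOpen h
    isOpen := (PrimeSpectrum.basicOpen h).isOpen
    sub := (PrimeSpectrum.localization_away_comap_range B' h).ge }, hhq⟩

theorem exists_piece_devissage {R B N : Type u} [CommRing R] [CommRing B] [Algebra R B]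
    [Algebra.FinitePresentation R B] [AddCommGroup N] [Module B N] [Module R N] [IsScalarTower R B N]
    [Module.Finite B N] {I₀ : Ideal R} (hI₀ : I₀.FG) (hoff : OffGood R B N I₀)
    (p : Ideal R) [p.IsPrime] (q : Ideal B) [q.IsPrime] [q.LiesOver p] {m : ℕ} (hm : FlatP.{u} m)
    (E : FlatCA.ElemDevissage R B N p q m) : ∃ P : Piece R B N I₀, (⟨q, ‹_›⟩ : PrimeSpectrum B) ∈ P.U := by
  haveI : Algebra.Etale R E.R' := E.etaleR.1
  haveI : Algebra.Etale B E.S' := E.etaleS.1
  haveI : Module.Flat B E.S' := inferInstance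
  letI : Module R E.N' := Module.compHom _ (algebraMap R E.S')
  letI : Module E.R' E.N' := Module.compHom _ (algebraMap E.R' E.S')
  haveI : IsScalarTower R E.S' E.N' := .of_algebraMap_smul fun _ _ => rfl
  haveI : IsScalarTower E.R' E.S' E.N' := .of_algebraMap_smul fun _ _ => rfl
  haveI : IsScalarTower R B E.N' := .of_algebraMap_smul fun x n => by
    rw [← algebraMap_smul E.S' (algebraMap R B x) n, ← IsScalarTower.algebraMap_apply]
    rfl
  haveI : IsScalarTower R E.R' E.N' := .of_algebraMap_smul fun x n => by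
    show algebraMap E.R' E.S' (algebraMap R E.R' x) • n = algebraMap R E.S' x • n
    rw [← IsScalarTower.algebraMap_apply]
  haveI : IsScalarTower E.R' E.S' E.G := .of_algebraMap_smul fun x n => by
    rw [← algebraMap_smul E.C (algebraMap E.R' E.S' x) n, ← IsScalarTower.algebraMap_apply]
    exact algebraMap_smul E.C x n
  haveI := E.finiteDC
  haveI := E.finiteG
  haveI : Module.Finite E.D E.G := Module.Finite.trans E.C E.G
  obtain ⟨hDC, -⟩ := Groth.Agent.S1251.result N p q m E
  haveI := hDC
  haveI : Module.FinitePresentation E.D E.C := Module.FinitePresentation.of_finite_of_finitePresentation _ _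
  haveI := E.fpC
  haveI : Module.Finite E.S' E.C := Module.Finite.of_surjective (Algebra.linearMap E.S' E.C) E.surjC
  haveI : Module.FinitePresentation E.S' E.C := Module.FinitePresentation.of_finite_of_finitePresentation _ _
  have h1 : OffGood E.R' E.S' E.G (I₀.map (algebraMap R E.R')) :=
    offGood_congr E.iso (hoff.etale E.f E.isBaseChange)
  have h2 : OffGood E.R' E.D E.G (I₀.map (algebraMap R E.R')) :=
    offGood_iff_restrict.2 ((offGood_iff_restrict (B := E.S') (C := E.C)).1 h1)
  have h3 : Flattenable E.R' E.S' E.G (I₀.map (algebraMap R E.R')) :=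
    (flattenable_iff_restrict (B := E.S') (C := E.C)).2 ((flattenable_iff_restrict (B := E.D) (C := E.C)).1
      (flattenable_of_smooth hm E.smooth E.geomInt (hI₀.map _) h2))
  refine ⟨{
    R' := E.R', B' := E.S', N' := E.N'
    f := E.f
    bc := E.isBaseChange
    good := flattenable_congr E.iso.symm h3
    U := Set.range (PrimeSpectrum.comap (algebraMap B E.S'))
    isOpen := (PrimeSpectrum.isOpenMap_comap_of_hasGoingDown_of_finitePresentation).isOpen_range
    sub := subset_rfl }, ⟨⟨E.q', inferInstance⟩, PrimeSpectrum.ext ?_⟩⟩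
  obtain ⟨-, hq, -⟩ := E.etaleS
  exact hq.over.symm

theorem flatP (n : ℕ) : FlatP.{u} n := by
  induction n using Nat.strong_induction_on with
  | _ n ih =>
  intro R B N _ _ _ _ _ _ _ _ _ I₀ hI₀ hoff hdim
  refine flattenable_of_pieces hI₀ fun q => ?_
  by_cases hq : q ∈ Module.support B N
  swap
  · exact exists_piece_zero hI₀ q hq
  let p := q.asIdeal.under R
  haveI : p.IsPrime := Ideal.IsPrime.under R q.asIdeal
  haveI : q.asIdeal.LiesOver p := ⟨rfl⟩
  letI : Algebra B (p.Fiber B) := Algebra.TensorProduct.rightAlgebra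
  haveI : IsScalarTower B (p.Fiber B) (FlatCA.fiberMod p B N) :=
    inferInstanceAs (IsScalarTower B (p.Fiber B) ((p.Fiber B) ⊗[B] N))
  haveI : Module.Finite (p.Fiber B) (FlatCA.fiberMod p B N) :=
    inferInstanceAs (Module.Finite (p.Fiber B) ((p.Fiber B) ⊗[B] N))
  let x := PrimeSpectrum.primesOverOrderIsoFiber R B p ⟨q.asIdeal, q.isPrime, ⟨rfl⟩⟩
  have hx : x ∈ Module.support (p.Fiber B) (FlatCA.fiberMod p B N) := by
    refine (Groth.Agent.QCoh.mem_support_baseChange (l := FlatCA.toFiberMod p B N)
      (TensorProduct.isBaseChange B N (p.Fiber B)) x).2 ?_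
    have : ((PrimeSpectrum.primesOverOrderIsoFiber R B p).symm x).1 = q.asIdeal :=
      congrArg (fun z : p.primesOver B => z.1)
        ((PrimeSpectrum.primesOverOrderIsoFiber R B p).symm_apply_apply ⟨q.asIdeal, q.isPrime, ⟨rfl⟩⟩)
    convert hq using 1
    exact PrimeSpectrum.ext this
  have hle : FlatMor.localDim (Module.support (p.Fiber B) (FlatCA.fiberMod p B N)) ⟨x, hx⟩ < (n : WithBot ℕ∞) :=
    lt_of_le_of_lt ((H23.TopDim.localDim_le_dim _).trans (FlatDevLoc.supportDim_eq_topologicalKrullDim _ _).le) (hdim p)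
  obtain ⟨m, hm, hmn⟩ : ∃ m : ℕ, FlatMor.localDim (Module.support (p.Fiber B) (FlatCA.fiberMod p B N)) ⟨x, hx⟩ = m ∧ m < n := by
    have h0 : (0 : WithBot ℕ∞) ≤ FlatMor.localDim (Module.support (p.Fiber B) (FlatCA.fiberMod p B N)) ⟨x, hx⟩ :=
      le_iInf fun U => by
        obtain ⟨V, hV⟩ := U
        let P0 : ↥(V : Set (Module.support (p.Fiber B) (FlatCA.fiberMod p B N))) := ⟨⟨x, hx⟩, hV⟩
        haveI : Nonempty (TopologicalSpace.IrreducibleCloseds ↥(V : Set (Module.support (p.Fiber B) (FlatCA.fiberMod p B N)))) :=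
          ⟨⟨closure {P0}, isIrreducible_singleton.closure, isClosed_closure⟩⟩
        exact Order.krullDim_nonneg
    revert hle h0
    generalize FlatMor.localDim (Module.support (p.Fiber B) (FlatCA.fiberMod p B N)) ⟨x, hx⟩ = d
    intro hle h0
    cases d with
    | bot => simp at h0
    | coe d =>
      cases d with
      | top => exact absurd hle (not_lt_of_ge le_top)
      | coe d => exact ⟨d, rfl, by exact_mod_cast hle⟩
  obtain ⟨E⟩ := Groth.Agent.S1249.result N p q.asIdeal m x (FlatDevLoc.primesOver_fiberIdeal p q.asIdeal ⟨rfl⟩) hx hm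
  exact exists_piece_devissage hI₀ hoff p q.asIdeal (ih m hmn) E

/-- Flattening by an admissible blow-up, affine form. -/
theorem flattenable_of_offGood {R B N : Type u} [CommRing R] [CommRing B] [Algebra R B]
    [Algebra.FinitePresentation R B] [AddCommGroup N] [Module B N] [Module R N] [IsScalarTower R B N]
    [Module.Finite B N] {I₀ : Ideal R} (hI₀ : I₀.FG) (hoff : OffGood R B N I₀) : Flattenable R B N I₀ := by
  obtain ⟨n, f, hf⟩ := Algebra.FiniteType.iff_quotient_mvPolynomial''.1 (inferInstance : Algebra.FiniteType R B)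
  letI : Algebra (MvPolynomial (Fin n) R) B := f.toRingHom.toAlgebra
  haveI : IsScalarTower R (MvPolynomial (Fin n) R) B := .of_algebraMap_eq fun r => (f.commutes r).symm
  haveI : Module.Finite (MvPolynomial (Fin n) R) B := Module.Finite.of_surjective (Algebra.linearMap _ B) hf
  refine flatP (n + 1) R B N I₀ hI₀ hoff fun p _ => ?_
  refine lt_of_le_of_lt ((Module.supportDim_le_ringKrullDim _ _).trans
    (Groth.Agent.FibDim.ringKrullDim_fiber_le_of_quasiFinite n (B := B) ⟨p, inferInstance⟩)) ?_
  exact_mod_cast Nat.lt_succ_self n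

end Groth.Agent.StrictAlg
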