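import Groth.Prelude.Def_BlowUp2
import Mathlib.RingTheory.Flat.Localization
import Mathlib.RingTheory.Flat.FaithfullyFlat.Algebra
import Mathlib.RingTheory.Localization.AtPrime.Basic
import Mathlib.RingTheory.Finiteness.Ideal
import Mathlib.RingTheory.Flat.TorsionFree

/-!
# Invertible ideals of finite type and maps out of affine blow-up algebras
-/

set_option autoImplicit false
set_option linter.style.haveILetI false

universe u

namespace Groth.Agent.StrictAlg

variable {T : Type u} [CommRing T]

/-- Finitely generated and generated by a regular element at every prime. -/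
def IsInv (J : Ideal T) : Prop :=
  J.FG ∧ ∀ (p : Ideal T) [p.IsPrime], ∃ x ∈ J,
    J.map (algebraMap T (Localization.AtPrime p)) = Ideal.span {algebraMap T (Localization.AtPrime p) x} ∧
      algebraMap T (Localization.AtPrime p) x ∈ nonZeroDivisors (Localization.AtPrime p)

theorem isInv_span_singleton {c : T} (hc : c ∈ nonZeroDivisors T) : IsInv (Ideal.span {c}) := by
  refine ⟨Submodule.fg_span_singleton c, fun p _ => ⟨c, Ideal.mem_span_singleton_self c, ?_, ?_⟩⟩
  · rw [Ideal.map_span, Set.image_singleton]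
  · haveI : Module.Flat T (Localization.AtPrime p) := IsLocalization.flat _ p.primeCompl
    refine mem_nonZeroDivisors_iff_right.2 fun y hy => ?_
    refine (Module.Flat.isSMulRegular_of_nonZeroDivisors hc : IsSMulRegular (Localization.AtPrime p) c).right_eq_zero_of_smul ?_
    rw [Algebra.smul_def, mul_comm]
    exact hy

/-- A principal regular ideal is generated by one of any given generators. -/
theorem exists_gen_of_span {L : Type u} [CommRing L] [IsLocalRing L] {s : Set L} {x : L}
    (h : Ideal.span s = Ideal.span {x}) (hx : x ∈ nonZeroDivisors L) :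
    ∃ a ∈ s, Ideal.span {a} = Ideal.span {x} ∧ a ∈ nonZeroDivisors L := by
  by_contra hne
  push Not at hne
  have hle : s ⊆ (Ideal.span {x} * IsLocalRing.maximalIdeal L : Ideal L) := fun a ha => by
    obtain ⟨t, rfl⟩ := Ideal.mem_span_singleton'.1 (h ▸ Ideal.subset_span ha : a ∈ Ideal.span {x})
    by_contra hmem
    have ht : IsUnit t := by
      by_contra ht
      exact hmem (by rw [mul_comm t x]; exact Ideal.mul_mem_mul (Ideal.mem_span_singleton_self x) ((IsLocalRing.mem_maximalIdeal t).2 ht))
    exact hne (t * x) ha (Ideal.span_singleton_mul_left_unit ht x) (mul_mem ht.mem_nonZeroDivisors hx)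
  obtain ⟨e, he, hex⟩ := Ideal.mem_span_singleton_mul.1
    (Ideal.span_le.2 hle (h.ge (Ideal.mem_span_singleton_self x)))
  have h1 : (1 - e) * x = 0 := by rw [sub_mul, one_mul, mul_comm e x, hex, sub_self]
  exact he (by
    rw [← sub_eq_zero.1 (mem_nonZeroDivisors_iff_right.1 hx _ h1)]
    exact isUnit_one)

/-- A factor of a principal regular ideal of a local ring is principal regular. -/
theorem exists_gen_of_mul {L : Type u} [CommRing L] [IsLocalRing L] {J M : Ideal L} {c : L}
    (h : J * M = Ideal.span {c}) (hc : c ∈ nonZeroDivisors L) :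
    ∃ x, J = Ideal.span {x} ∧ x ∈ nonZeroDivisors L := by
  classical
  have hspan : Ideal.span (Set.image2 (· * ·) (J : Set L) M) = Ideal.span {c} := by
    refine le_antisymm (Ideal.span_le.2 ?_) ?_
    · rintro _ ⟨x, hx, y, hy, rfl⟩
      exact h.le (Ideal.mul_mem_mul hx hy)
    · rw [← h, Ideal.mul_le]
      exact fun x hx y hy => Ideal.subset_span ⟨x, hx, y, hy, rfl⟩
  obtain ⟨_, ⟨x, hx, y, hy, rfl⟩, he, hnz⟩ := exists_gen_of_span hspan hc
  refine ⟨x, le_antisymm (fun z hz => ?_) ((Ideal.span_singleton_le_iff_mem _).2 hx),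
    mem_nonZeroDivisors_iff_right.2 fun z hz => ?_⟩
  · obtain ⟨e, hze⟩ := Ideal.mem_span_singleton'.1 (he.ge (h.le (Ideal.mul_mem_mul hz hy)))
    refine Ideal.mem_span_singleton'.2 ⟨e, ?_⟩
    have h1 : (e * x - z) * (x * y) = 0 := by linear_combination x * hze
    exact sub_eq_zero.1 (mem_nonZeroDivisors_iff_right.1 hnz _ h1)
  · exact mem_nonZeroDivisors_iff_right.1 hnz _ (by rw [← mul_assoc, hz, zero_mul])

/-- The local generator may be taken in a given set of generators. -/
theorem exists_gen_atPrime {J : Ideal T} (hJ : IsInv J) {s : Set T} (hs : Ideal.span s = J) (p : Ideal T)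
    [p.IsPrime] : ∃ a ∈ s,
      J.map (algebraMap T (Localization.AtPrime p)) = Ideal.span {algebraMap T (Localization.AtPrime p) a} ∧
        algebraMap T (Localization.AtPrime p) a ∈ nonZeroDivisors (Localization.AtPrime p) := by
  obtain ⟨x, -, hx, hxnz⟩ := hJ.2 p
  obtain ⟨_, ⟨a, ha, rfl⟩, he, hnz⟩ := exists_gen_of_span
    (s := algebraMap T (Localization.AtPrime p) '' s) (by rw [← Ideal.map_span, hs, hx]) hxnz
  exact ⟨a, ha, hx.trans he.symm, hnz⟩

/-- A local criterion. -/
theorem isInv_of_atPrime {J : Ideal T} (hfg : J.FG)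
    (h : ∀ (p : Ideal T) [p.IsPrime], ∃ x, J.map (algebraMap T (Localization.AtPrime p)) = Ideal.span {x} ∧
      x ∈ nonZeroDivisors (Localization.AtPrime p)) : IsInv J := by
  refine ⟨hfg, fun p _ => ?_⟩
  obtain ⟨x, hx, hxnz⟩ := h p
  obtain ⟨_, ⟨a, ha, rfl⟩, he, hnz⟩ := exists_gen_of_span
    (s := algebraMap T (Localization.AtPrime p) '' (J : Set T)) (by rw [← Ideal.map_span, Ideal.span_eq, hx]) hxnz
  exact ⟨a, ha, hx.trans he.symm, hnz⟩

theorem IsInv.of_mul {J M : Ideal T} (h : IsInv (J * M)) (hJ : J.FG) : IsInv J :=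
  isInv_of_atPrime hJ fun p _ => by
    obtain ⟨c, -, hc, hcnz⟩ := h.2 p
    rw [Ideal.map_mul] at hc
    exact exists_gen_of_mul hc hcnz

theorem IsInv.map {T' : Type u} [CommRing T'] [Algebra T T'] [Module.Flat T T'] {J : Ideal T} (h : IsInv J) :
    IsInv (J.map (algebraMap T T')) := by
  refine isInv_of_atPrime (h.1.map _) fun q _ => ?_
  let p := q.comap (algebraMap T T')
  obtain ⟨x, -, hx, hxnz⟩ := h.2 p
  letI : Algebra (Localization.AtPrime p) (Localization.AtPrime q) :=
    (Localization.localRingHom p q (algebraMap T T') rfl).toAlgebra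
  haveI : IsScalarTower T (Localization.AtPrime p) (Localization.AtPrime q) := .of_algebraMap_eq fun t => by
    rw [IsScalarTower.algebraMap_apply T T' (Localization.AtPrime q)]
    exact (Localization.localRingHom_to_map p q (algebraMap T T') rfl t).symm
  haveI : Module.Flat T' (Localization.AtPrime q) := IsLocalization.flat _ q.primeCompl
  haveI : Module.Flat T (Localization.AtPrime q) := Module.Flat.trans T T' _
  haveI : Module.Flat (Localization.AtPrime p) (Localization.AtPrime q) :=
    (Module.flat_iff_of_isLocalization (Localization.AtPrime p) p.primeCompl _).2 inferInstance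
  refine ⟨algebraMap (Localization.AtPrime p) (Localization.AtPrime q) (algebraMap T _ x), ?_,
    mem_nonZeroDivisors_iff_right.2 fun y hy => ?_⟩
  · rw [Ideal.map_map, ← IsScalarTower.algebraMap_eq T T' (Localization.AtPrime q),
      IsScalarTower.algebraMap_eq T (Localization.AtPrime p) (Localization.AtPrime q), ← Ideal.map_map, hx,
      Ideal.map_span, Set.image_singleton]
  · refine (Module.Flat.isSMulRegular_of_nonZeroDivisors hxnz :
      IsSMulRegular (Localization.AtPrime q) (algebraMap T (Localization.AtPrime p) x)).right_eq_zero_of_smul ?_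
    rw [Algebra.smul_def, mul_comm]
    exact hy

/-- Invertibility can be checked after flat covers. -/
theorem IsInv.of_local {J : Ideal T} (hfg : J.FG)
    (h : ∀ (p : Ideal T) [p.IsPrime], ∃ (T' : Type u) (_ : CommRing T') (_ : Algebra T T') (q : Ideal T'),
      Module.Flat T T' ∧ q.IsPrime ∧ q.comap (algebraMap T T') = p ∧ IsInv (J.map (algebraMap T T'))) : IsInv J := by
  refine isInv_of_atPrime hfg fun p _ => ?_
  obtain ⟨T', _, _, q, _, _, hqp, hinv⟩ := h p
  subst hqp
  let p := q.comap (algebraMap T T')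
  letI : Algebra (Localization.AtPrime p) (Localization.AtPrime q) :=
    (Localization.localRingHom p q (algebraMap T T') rfl).toAlgebra
  haveI : IsScalarTower T (Localization.AtPrime p) (Localization.AtPrime q) := .of_algebraMap_eq fun t => by
    rw [IsScalarTower.algebraMap_apply T T' (Localization.AtPrime q)]
    exact (Localization.localRingHom_to_map p q (algebraMap T T') rfl t).symm
  haveI : Module.Flat T' (Localization.AtPrime q) := IsLocalization.flat _ q.primeCompl
  haveI : Module.Flat T (Localization.AtPrime q) := Module.Flat.trans T T' _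
  haveI : Module.Flat (Localization.AtPrime p) (Localization.AtPrime q) :=
    (Module.flat_iff_of_isLocalization (Localization.AtPrime p) p.primeCompl _).2 inferInstance
  haveI : IsLocalHom (algebraMap (Localization.AtPrime p) (Localization.AtPrime q)) :=
    Localization.isLocalHom_localRingHom p q (algebraMap T T') rfl
  haveI : Module.FaithfullyFlat (Localization.AtPrime p) (Localization.AtPrime q) :=
    Module.FaithfullyFlat.of_flat_of_isLocalHom
  obtain ⟨_, ⟨a, ha, rfl⟩, he, hnz⟩ := exists_gen_atPrime hinv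
    (s := algebraMap T T' '' (J : Set T)) (by rw [← Ideal.map_span, Ideal.span_eq]) q
  rw [Ideal.map_map, ← IsScalarTower.algebraMap_eq T T' (Localization.AtPrime q)] at he
  rw [← IsScalarTower.algebraMap_apply T T' (Localization.AtPrime q),
    IsScalarTower.algebraMap_apply T (Localization.AtPrime p) (Localization.AtPrime q)] at he hnz
  refine ⟨algebraMap T _ a, le_antisymm ?_ ((Ideal.span_singleton_le_iff_mem _).2 (Ideal.mem_map_of_mem _ ha)),
    mem_nonZeroDivisors_iff_right.2 fun y hy => ?_⟩
  · rw [IsScalarTower.algebraMap_eq T (Localization.AtPrime p) (Localization.AtPrime q), ← Ideal.map_map] at he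
    rw [← Ideal.comap_map_eq_self_of_faithfullyFlat (B := Localization.AtPrime q)
      (Ideal.span {algebraMap T (Localization.AtPrime p) a}), Ideal.map_span, Set.image_singleton, ← he]
    exact Ideal.le_comap_map
  · refine FaithfulSMul.algebraMap_injective (Localization.AtPrime p) (Localization.AtPrime q)
      ((mem_nonZeroDivisors_iff_right.1 hnz _ ?_).trans (map_zero _).symm)
    rw [← map_mul, hy, map_zero]

theorem nzd_away {g a : T}
    (h : ∀ (p : Ideal T) [p.IsPrime], g ∉ p →
      algebraMap T (Localization.AtPrime p) a ∈ nonZeroDivisors (Localization.AtPrime p)) :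
    algebraMap T (Localization.Away g) a ∈ nonZeroDivisors (Localization.Away g) := by
  refine mem_nonZeroDivisors_iff_right.2 fun y hy => ?_
  obtain ⟨z, ⟨_, k, rfl⟩, rfl⟩ := IsLocalization.exists_mk'_eq (Submonoid.powers g) y
  rw [mul_comm, IsLocalization.mul_mk'_eq_mk'_of_mul, IsLocalization.mk'_eq_zero_iff] at hy
  obtain ⟨⟨_, m, rfl⟩, hm⟩ := hy
  rw [mul_comm a z] at hm
  rw [IsLocalization.mk'_eq_zero_iff]
  suffices g ∈ (Submodule.span T {z}).annihilator.radical by
    obtain ⟨n, hn⟩ := this
    exact ⟨⟨_, n, rfl⟩, (Submodule.mem_annihilator_span_singleton z _).1 hn⟩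
  rw [Ideal.radical_eq_sInf, Submodule.mem_sInf]
  rintro (p : Ideal T) ⟨hle, hp⟩
  by_contra hgp
  haveI := hp
  have h1 : algebraMap T (Localization.AtPrime p) z = 0 := mem_nonZeroDivisors_iff_right.1 (h p hgp) _ (by
    rw [← map_mul, IsLocalization.map_eq_zero_iff p.primeCompl]
    exact ⟨⟨g ^ m, fun hm' => hgp (hp.mem_of_pow_mem m hm')⟩, hm⟩)
  obtain ⟨⟨c, hc⟩, hcz⟩ := (IsLocalization.map_eq_zero_iff p.primeCompl _ _).1 h1
  exact hc (hle ((Submodule.mem_annihilator_span_singleton z c).2 hcz))

/-- An invertible ideal is principal on a basic open around each prime. -/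
theorem exists_nhd {J : Ideal T} (hJ : IsInv J) {s : Finset T} (hs : Ideal.span (s : Set T) = J) (p : Ideal T)
    [p.IsPrime] : ∃ a ∈ s, ∃ g ∉ p,
      J.map (algebraMap T (Localization.Away g)) = Ideal.span {algebraMap T (Localization.Away g) a} ∧
        algebraMap T (Localization.Away g) a ∈ nonZeroDivisors (Localization.Away g) := by
  classical
  obtain ⟨a, ha, he, -⟩ := exists_gen_atPrime hJ hs p
  have hb : ∀ b ∈ s, ∃ e ∉ p, e * b ∈ Ideal.span {a} := fun b hb => by
    have h1 : algebraMap T (Localization.AtPrime p) b ∈ (Ideal.span {a}).map (algebraMap T (Localization.AtPrime p)) := by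
      rw [Ideal.map_span, Set.image_singleton, ← he]
      exact Ideal.mem_map_of_mem _ (hs ▸ Ideal.subset_span hb)
    obtain ⟨e, he', h⟩ := (IsLocalization.algebraMap_mem_map_algebraMap_iff p.primeCompl _ _ _).1 h1
    exact ⟨e, he', h⟩
  choose e he' hmem using hb
  let g := ∏ b ∈ s.attach, e b.1 b.2
  have hg : g ∉ p := fun h => by
    obtain ⟨b, -, hb⟩ := (Ideal.IsPrime.prod_mem_iff).1 h
    exact he' _ _ hb
  have hgb : ∀ b ∈ s, g * b ∈ Ideal.span {a} := fun b hb => by
    rw [show g = e b hb * ∏ c ∈ s.attach.erase ⟨b, hb⟩, e c.1 c.2 from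
      (Finset.mul_prod_erase s.attach (fun c => e c.1 c.2) (Finset.mem_attach s ⟨b, hb⟩)).symm, mul_right_comm]
    exact Ideal.mul_mem_right _ _ (hmem b hb)
  refine ⟨a, ha, g, hg, le_antisymm ?_ ((Ideal.span_singleton_le_iff_mem _).2
    (Ideal.mem_map_of_mem _ (hs ▸ Ideal.subset_span ha))), nzd_away fun q _ hgq => ?_⟩
  · rw [← hs, Ideal.map_span, Ideal.span_le]
    rintro _ ⟨b, hb, rfl⟩
    obtain ⟨c, hc⟩ := Ideal.mem_span_singleton'.1 (hgb b hb)
    refine ((Ideal.span {algebraMap T (Localization.Away g) a}).unit_mul_mem_iff_mem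
      (IsLocalization.Away.algebraMap_isUnit (S := Localization.Away g) g)).1 ?_
    rw [← map_mul, ← hc, map_mul]
    exact Ideal.mul_mem_left _ _ (Ideal.mem_span_singleton_self _)
  · obtain ⟨x, -, hx, hxnz⟩ := hJ.2 q
    have hle : J.map (algebraMap T (Localization.AtPrime q)) ≤ Ideal.span {algebraMap T (Localization.AtPrime q) a} := by
      rw [← hs, Ideal.map_span, Ideal.span_le]
      rintro _ ⟨b, hb, rfl⟩
      obtain ⟨c, hc⟩ := Ideal.mem_span_singleton'.1 (hgb b hb)
      refine ((Ideal.span {algebraMap T (Localization.AtPrime q) a}).unit_mul_mem_iff_mem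
        (IsLocalization.map_units (Localization.AtPrime q) (⟨g, hgq⟩ : q.primeCompl))).1 ?_
      rw [← map_mul, ← hc, map_mul]
      exact Ideal.mul_mem_left _ _ (Ideal.mem_span_singleton_self _)
    obtain ⟨t, ht⟩ := Ideal.mem_span_singleton'.1 (hle (hx ▸ Ideal.mem_span_singleton_self _))
    refine mem_nonZeroDivisors_iff_right.2 fun y hy => mem_nonZeroDivisors_iff_right.1 hxnz y ?_
    rw [← ht, mul_left_comm, hy, mul_zero]

section Chart

variable {R : Type u} [CommRing R] {I : Ideal R} {a : R}

theorem nzd_affineAlgebra :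
    algebraMap R (BlowUp.affineAlgebra R I a) a ∈ nonZeroDivisors (BlowUp.affineAlgebra R I a) :=
  mem_nonZeroDivisors_iff_right.2 fun y hy => Subtype.ext
    ((IsLocalization.Away.algebraMap_isUnit (S := Localization.Away a) a).mul_left_eq_zero.1 (congrArg Subtype.val hy))

theorem exists_num (y : BlowUp.affineAlgebra R I a) (ha : a ∈ I) :
    ∃ n : ℕ, ∀ m ≥ n, ∃ x ∈ I ^ m, y * algebraMap R _ a ^ m = algebraMap R _ x := by
  obtain ⟨y, hy⟩ := y
  change y ∈ Algebra.adjoin _ _ at hy
  induction hy using Algebra.adjoin_induction with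
  | mem q hq =>
    obtain ⟨x, hx, rfl⟩ := hq
    refine ⟨1, fun m hm => ⟨x * a ^ (m - 1), ?_, Subtype.ext ?_⟩⟩
    · rw [show I ^ m = I * I ^ (m - 1) by rw [← pow_succ', Nat.sub_add_cancel hm]]
      exact Ideal.mul_mem_mul hx (Ideal.pow_mem_pow ha _)
    · obtain ⟨m, rfl⟩ := Nat.exists_eq_add_of_le' hm
      show IsLocalization.mk' (Localization.Away a) x _ * algebraMap R _ a ^ (m + 1) = algebraMap R _ _
      rw [pow_succ', ← mul_assoc, Nat.add_sub_cancel, map_mul, map_pow]
      congr 1
      exact IsLocalization.mk'_spec (Localization.Away a) x _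
  | algebraMap r =>
    refine ⟨0, fun m _ => ⟨r * a ^ m, Ideal.mul_mem_left _ _ (Ideal.pow_mem_pow ha m), ?_⟩⟩
    rw [map_mul, map_pow]
    rfl
  | add p q hp' hq' hp hq =>
    obtain ⟨n, hn⟩ := hp
    obtain ⟨n', hn'⟩ := hq
    refine ⟨max n n', fun m hm => ?_⟩
    obtain ⟨x, hx, hxe⟩ := hn m (le_trans (le_max_left _ _) hm)
    obtain ⟨x', hx', hxe'⟩ := hn' m (le_trans (le_max_right _ _) hm)
    refine ⟨x + x', add_mem hx hx', ?_⟩
    rw [map_add, ← hxe, ← hxe', ← add_mul]
    rfl
  | mul p q hp' hq' hp hq =>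
    obtain ⟨n, hn⟩ := hp
    obtain ⟨n', hn'⟩ := hq
    refine ⟨n + n', fun m hm => ?_⟩
    obtain ⟨x, hx, hxe⟩ := hn n le_rfl
    obtain ⟨x', hx', hxe'⟩ := hn' (m - n) (by omega)
    refine ⟨x * x', ?_, ?_⟩
    · rw [show I ^ m = I ^ n * I ^ (m - n) by rw [← pow_add]; congr 1; omega]
      exact Ideal.mul_mem_mul hx hx'
    · rw [map_mul, ← hxe, ← hxe', mul_mul_mul_comm, ← pow_add, show n + (m - n) = m by omega]
      rfl

theorem map_eq_span (ha : a ∈ I) :
    I.map (algebraMap R (BlowUp.affineAlgebra R I a)) = Ideal.span {algebraMap R _ a} := by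
  refine le_antisymm (Ideal.map_le_iff_le_comap.2 fun x hx => Ideal.mem_span_singleton'.2
    ⟨⟨IsLocalization.mk' (Localization.Away a) x ⟨a, Submonoid.mem_powers a⟩, Algebra.subset_adjoin ⟨x, hx, rfl⟩⟩,
      Subtype.ext ?_⟩) ((Ideal.span_singleton_le_iff_mem _).2 (Ideal.mem_map_of_mem _ ha))
  exact IsLocalization.mk'_spec (Localization.Away a) x _

/-- The universal property of the affine blow-up algebra. -/
theorem exists_algHom {T : Type u} [CommRing T] [Algebra R T]
    (hI : I.map (algebraMap R T) = Ideal.span {algebraMap R T a}) (ha : algebraMap R T a ∈ nonZeroDivisors T) :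
    Nonempty (BlowUp.affineAlgebra R I a →ₐ[R] T) := by
  let Ta := Localization.Away (algebraMap R T a)
  let l : Localization.Away a →ₐ[R] Ta :=
    IsLocalization.liftAlgHom (M := Submonoid.powers a) (f := Algebra.ofId R Ta) fun y => by
      obtain ⟨_, n, rfl⟩ := y
      show IsUnit (algebraMap R Ta (a ^ n))
      rw [map_pow, IsScalarTower.algebraMap_apply R T Ta]
      exact (IsLocalization.Away.algebraMap_isUnit _).pow n
  let ι : T →ₐ[R] Ta := IsScalarTower.toAlgHom R T Ta
  have hι : Function.Injective ι := IsLocalization.injective Ta (Submonoid.powers_le.2 ha)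
  have hle : ∀ y ∈ BlowUp.affineAlgebra R I a, l y ∈ ι.range := by
    intro y hy
    change y ∈ Algebra.adjoin _ _ at hy
    induction hy using Algebra.adjoin_induction with
    | mem q hq =>
      obtain ⟨x, hx, rfl⟩ := hq
      obtain ⟨t, ht⟩ := Ideal.mem_span_singleton'.1 (hI.le (Ideal.mem_map_of_mem _ hx))
      refine ⟨t, ?_⟩
      have h1 := congrArg l (IsLocalization.mk'_spec (Localization.Away a) x ⟨a, Submonoid.mem_powers a⟩)
      rw [map_mul, AlgHom.commutes, AlgHom.commutes, IsScalarTower.algebraMap_apply R T Ta,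
        IsScalarTower.algebraMap_apply R T Ta x, ← ht, map_mul] at h1
      exact ((IsLocalization.Away.algebraMap_isUnit (S := Ta) (algebraMap R T a)).mul_left_inj.1 h1).symm
    | algebraMap r => exact ⟨algebraMap R T r, (ι.commutes r).trans (l.commutes r).symm⟩
    | add p q _ _ hp hq => rw [map_add]; exact add_mem hp hq
    | mul p q _ _ hp hq => rw [map_mul]; exact mul_mem hp hq
  exact ⟨(AlgEquiv.ofInjective ι hι).symm.toAlgHom.comp
    ((l.comp (BlowUp.affineAlgebra R I a).val).codRestrict ι.range fun y => hle y y.2)⟩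

end Chart

end Groth.Agent.StrictAlg
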