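import Groth.Agent.StrictAlg.Wide
import Groth.Agent.StrictAlg.Generic
import Groth.Agent.FlatDevDim.Basic
import Groth.Agent.DevExist.RelDim
import Groth.Agent.S1287

/-!
# One step down in the relative dimension
-/

set_option autoImplicit false
set_option linter.style.haveILetI false
set_option backward.isDefEq.respectTransparency false
set_option backward.isDefEq.respectTransparency.types false
attribute [-instance] CategoryTheory.catToReflQuiver

universe u

open TensorProduct AlgebraicGeometry CategoryTheory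

namespace Groth.Agent.StrictAlg

theorem geomIntegral_baseChange {R R' A : Type u} [CommRing R] [CommRing R'] [CommRing A] [Algebra R R']
    [Algebra R A] (h : FlatCA.GeomIntegralFibres R A) : FlatCA.GeomIntegralFibres R' (R' ⊗[R] A) := by
  letI := Algebra.TensorProduct.rightAlgebra (R := R) (A := R') (B := A)
  have hsq := isPullback_SpecMap_of_isPushout _ _ _ _ (CommRingCat.isPushout_of_isPushout R R' A (R' ⊗[R] A))
  exact MorphismProperty.of_isPullback (P := @GeometricallyIntegral) hsq.flip h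

/-- Flattenability for fibre dimension less than `n`. -/
def FlatP (n : ℕ) : Prop :=
  ∀ (R B N : Type u) [CommRing R] [CommRing B] [Algebra R B] [Algebra.FinitePresentation R B] [AddCommGroup N]
    [Module B N] [Module R N] [IsScalarTower R B N] [Module.Finite B N] (I₀ : Ideal R),
    I₀.FG → OffGood R B N I₀ →
    (∀ (p : Ideal R) [p.IsPrime], Module.supportDim (p.Fiber B) (FlatCA.fiberMod p B N) < n) →
    Flattenable R B N I₀

variable {R D G : Type u} [CommRing R] [CommRing D] [Algebra R D] [AddCommGroup G] [Module D G] [Module R G]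
  [IsScalarTower R D G]

theorem exists_pow_smul_mem_range [Module.Finite D G] {g : D} {r : ℕ} (α : (Fin r → D) →ₗ[D] G)
    (h : Function.Surjective (LocalizedModule.map (Submonoid.powers g) α)) :
    ∃ k : ℕ, ∀ x : G, g ^ k • x ∈ LinearMap.range α := by
  obtain ⟨s, hs⟩ := (Module.Finite.fg_top (R := D) (M := G))
  have h1 : ∀ x : G, ∃ k : ℕ, g ^ k • x ∈ LinearMap.range α := fun x => by
    obtain ⟨y, hy⟩ := h (LocalizedModule.mk x 1)
    induction y using LocalizedModule.induction_on with
    | h v s =>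
      rw [LocalizedModule.map_mk, LocalizedModule.mk_eq] at hy
      obtain ⟨⟨_, k, rfl⟩, hk⟩ := hy
      obtain ⟨_, l, rfl⟩ := s
      refine ⟨k + l, g ^ k • v, ?_⟩
      simp only [Submonoid.smul_def, one_smul, Submonoid.coe_one] at hk
      rw [map_smul, hk, pow_add, mul_smul]
  choose k hk using h1
  refine ⟨s.sup k, fun x => ?_⟩
  have : x ∈ Submodule.span D (s : Set G) := hs ▸ trivial
  induction this using Submodule.span_induction with
  | mem y hy =>
    obtain ⟨d, hd⟩ := Nat.exists_eq_add_of_le (Finset.le_sup (f := k) hy)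
    rw [hd, add_comm, pow_add, mul_smul]
    exact Submodule.smul_mem _ _ (hk y)
  | zero => rw [smul_zero]; exact zero_mem _
  | add a b _ _ ha hb => rw [smul_add]; exact add_mem ha hb
  | smul c a _ ha => rw [smul_comm]; exact Submodule.smul_mem _ _ ha

/-- Near each prime of the base the module is free on a dense open of the fibres. -/
theorem flattenable_of_generic_iso [Module.Finite D G] {n : ℕ} (hP : FlatP.{u} n) (hsm : FlatCA.SmoothRelDim n R D)
    (hgi : FlatCA.GeomIntegralFibres R D) {I₀ : Ideal R} (hI₀ : I₀.FG) (hoff : OffGood R D G I₀)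
    (hα : ∀ (p : Ideal R) [p.IsPrime], ∃ g ∉ p.map (algebraMap R D), ∃ (r : ℕ) (α : (Fin r → D) →ₗ[D] G),
      Function.Bijective (LocalizedModule.map (Submonoid.powers g) α)) :
    Flattenable R D G I₀ := by
  classical
  haveI := DevExist.smooth_of_smoothRelDim n hsm
  haveI : Module.Flat R D := inferInstance
  choose g hg r α hbij using fun p : PrimeSpectrum R => hα p.asIdeal
  have hmeets : ∀ p : PrimeSpectrum R, Meets (g p) p.asIdeal := fun p =>
    ⟨_, (RGLib.isPrime_map_and_comap hgi p.asIdeal).1, (RGLib.isPrime_map_and_comap hgi p.asIdeal).2, hg p⟩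
  choose e he hemeets using fun p : PrimeSpectrum R => exists_nhd_meets p.asIdeal (hmeets p)
  obtain ⟨t, ht⟩ := isCompact_univ.elim_finite_subcover
    (fun p : PrimeSpectrum R => (PrimeSpectrum.basicOpen (e p) : Set (PrimeSpectrum R)))
    (fun p => (PrimeSpectrum.basicOpen (e p)).isOpen) (fun p _ => Set.mem_iUnion.2 ⟨p, he p⟩)
  let pt : Fin t.card → PrimeSpectrum R := fun i => (t.equivFin.symm i).1
  let R' := fun i => Localization.Away (e (pt i))
  haveI : ∀ i, Algebra.Etale R (R' i) := fun i => Algebra.Etale.of_isLocalizationAway (e (pt i))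
  letI : ∀ i, Algebra D (R' i ⊗[R] D) := fun i => Algebra.TensorProduct.rightAlgebra
  letI : ∀ i, Module D (R' i ⊗[R] G) := fun i => Module.compHom _ (algebraMap D (R' i ⊗[R] D))
  haveI : ∀ i, IsScalarTower D (R' i ⊗[R] D) (R' i ⊗[R] G) := fun i => .of_algebraMap_smul fun _ _ => rfl
  haveI : ∀ i, IsScalarTower R (R' i ⊗[R] D) (R' i ⊗[R] G) := fun i =>
    IsScalarTower.of_algebraMap_smul fun x (m : R' i ⊗[R] G) => by
      rw [IsScalarTower.algebraMap_apply R (R' i) (R' i ⊗[R] D)]
      exact Eq.trans (algebraMap_smul (M := R' i ⊗[R] G) (R' i ⊗[R] D) (algebraMap R (R' i) x) m)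
        (algebraMap_smul (M := R' i ⊗[R] G) (R' i) x m)
  haveI : ∀ i, IsScalarTower R D (R' i ⊗[R] G) := fun i => .of_algebraMap_smul fun x m => by
    rw [← algebraMap_smul (R' i ⊗[R] D) (algebraMap R D x) m, ← IsScalarTower.algebraMap_apply R D]
    exact algebraMap_smul (R' i ⊗[R] D) x m
  haveI : ∀ i, Algebra.IsPushout R D (R' i) (R' i ⊗[R] D) := fun i => Algebra.IsPushout.symm inferInstance
  haveI : ∀ i, Module.Flat D (R' i ⊗[R] D) := fun i => by
    haveI : Module.Flat R (R' i) := IsLocalization.flat _ (Submonoid.powers (e (pt i)))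
    exact Module.Flat.isBaseChange (R := R) (S := D) (M := R' i) (h := (Algebra.isPushout_iff R D (R' i) _).1 inferInstance)
  let fN : ∀ i, G →ₗ[D] R' i ⊗[R] G := fun i =>
    { toFun := fun n => 1 ⊗ₜ n
      map_add' := fun x y => tmul_add _ _ _
      map_smul' := fun b n => by
        show _ = ((1 : R' i) ⊗ₜ[R] b) • ((1 : R' i) ⊗ₜ[R] n)
        rw [tmul_smul_tmul, mul_one] }
  have hfN : ∀ i, IsBaseChange (R' i ⊗[R] D) (fN i) := fun i => isBaseChange_act R (R' i) D G (fN i) fun _ => rfl
  refine flattenable_of_etale hI₀ R' (fun i => R' i ⊗[R] D) (fun i => R' i ⊗[R] G) fN hfN (fun q hq => ?_) fun i => ?_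
  · let P : PrimeSpectrum R := ⟨q.comap (algebraMap R D), Ideal.IsPrime.comap _⟩
    obtain ⟨p, hp, hep⟩ := Set.mem_iUnion₂.1 (ht (Set.mem_univ P))
    refine ⟨t.equivFin ⟨p, hp⟩, ?_⟩
    have epi : pt (t.equivFin ⟨p, hp⟩) = p := by simp only [pt, Equiv.symm_apply_apply]
    show ∃ Q : Ideal (Localization.Away (e (pt (t.equivFin ⟨p, hp⟩))) ⊗[R] D), Q.IsPrime ∧
      Q.comap (Algebra.TensorProduct.includeRight : D →ₐ[R] _ ⊗[R] D).toRingHom = q
    rw [epi]
    have hdis : Disjoint (Submonoid.powers (e p) : Set R) P.asIdeal :=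
      (Ideal.disjoint_powers_iff_notMem _ P.isPrime.isRadical).2 hep
    haveI := IsLocalization.isPrime_of_isPrime_disjoint (Submonoid.powers (e p)) (Localization.Away (e p)) P.asIdeal
      P.isPrime hdis
    obtain ⟨Q, hQ, -, hQq⟩ := exists_prime_over_pair (P.asIdeal.map (algebraMap R (Localization.Away (e p)))) q
      (IsLocalization.comap_map_of_isPrime_disjoint (Submonoid.powers (e p)) _ P.isPrime hdis)
    exact ⟨Q, hQ, hQq⟩
  let p := pt i
  let A := R' i
  let α' := tensorMap (R := R) A (α p)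
  haveI : Module.Flat R (Fin (r p) → D) := Module.Flat.trans R D (Fin (r p) → D)
  haveI : Module.FinitePresentation (A ⊗[R] D) (A ⊗[R] (Fin (r p) → D)) := finitePresentation_tensor A
  have huniv : UnivInjMap (R := A) α' := fun X _ _ => by
    letI : Module R X := Module.compHom X (algebraMap R A)
    haveI : IsScalarTower R A X := .of_algebraMap_smul fun _ _ => rfl
    let c := TensorProduct.AlgebraTensorModule.cancelBaseChange R A A X (Fin (r p) → D)
    let c' := TensorProduct.AlgebraTensorModule.cancelBaseChange R A A X G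
    refine (injective_iff_map_eq_zero _).2 fun z hz => c.injective ((?_ : c z = 0).trans (map_zero c).symm)
    have e1 : ∀ z, c' ((α'.restrictScalars A).lTensor X z) = ((α p).restrictScalars R).lTensor X (c z) := fun z => by
      induction z using TensorProduct.induction_on with
      | zero => simp only [map_zero]
      | add u v hu hv => simp only [map_add, hu, hv]
      | tmul x w =>
        induction w using TensorProduct.induction_on with
        | zero => simp only [tmul_zero, map_zero]
        | add u v hu hv => simp only [tmul_add, map_add, hu, hv]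
        | tmul y n => simp [c, c', α', tensorMap_apply, TensorProduct.AlgebraTensorModule.cancelBaseChange_tmul]
    have h0 : ((α p).restrictScalars R).lTensor X (c z) = 0 := by rw [← e1, hz, map_zero]
    have hcomm : ∀ w : X ⊗[R] (Fin (r p) → D), TensorProduct.AlgebraTensorModule.rTensor R X (α p)
        (TensorProduct.comm R X _ w) = TensorProduct.comm R X G (((α p).restrictScalars R).lTensor X w) := fun w => by
      induction w using TensorProduct.induction_on with
      | zero => simp only [map_zero]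
      | add u v hu hv => simp only [map_add, hu, hv]
      | tmul x v => rfl
    have hinjX : Function.Injective fun x : X => e p • x := fun x y hxy => by
      have hu : IsUnit (algebraMap R A (e p)) := IsLocalization.Away.algebraMap_isUnit (e p)
      exact hu.smul_left_cancel.1 hxy
    have h2 := eq_zero_of_localized_bijective hgi (fun t ht he' => hemeets p t he') (α p) (hbij p) X hinjX
      (TensorProduct.comm R X _ (c z)) (by rw [hcomm, h0, map_zero])
    exact (TensorProduct.comm R X _).map_eq_zero_iff.1 h2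
  refine flattenable_of_univInj α' huniv ?_
  haveI : Module.Finite (A ⊗[R] D) (A ⊗[R] G) := Module.Finite.equiv (hfN i).equiv
  refine hP A (A ⊗[R] D) _ _ (hI₀.map _) (offGood_coker α' huniv (hoff.chart A)) fun t ht => ?_
  have hgi' := geomIntegral_baseChange (R' := A) hgi
  haveI := (RGLib.isPrime_map_and_comap hgi' t).1
  haveI : (t.map (algebraMap A (A ⊗[R] D))).LiesOver t := ⟨(RGLib.isPrime_map_and_comap hgi' t).2.symm⟩
  haveI : IsDomain (t.Fiber (A ⊗[R] D)) := RGLib.isDomain_tensor_field hgi' t.ResidueField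
  have hecomap : e p ∉ t.comap (algebraMap R A) := fun hm =>
    ht.ne_top (Ideal.eq_top_of_isUnit_mem _ hm (IsLocalization.Away.algebraMap_isUnit (e p)))
  have hgt := notMem_map_of_meets (meets_baseChange (A := A) t (hemeets p (t.comap (algebraMap R A)) hecomap))
  obtain ⟨k, hk⟩ := exists_pow_smul_mem_range (α p) (hbij p).2
  refine FlatDevDim.supportDim_fiber_lt t n
    (FlatDevDim.ringKrullDim_fiber A (A ⊗[R] D) t n (DevExist.smoothRelDim_baseChange n hsm))
    (fun q _ _ => q) (fun _ h _ => h) (fun _ _ _ => rfl) (fun _ _ _ _ _ _ h => h) fun q hq hann heq => hgt ?_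
  refine heq ▸ hq.mem_of_pow_mem k (hann (Module.mem_annihilator.2 fun m => ?_))
  obtain ⟨m, rfl⟩ := Submodule.mkQ_surjective _ m
  refine (Submodule.Quotient.mk_eq_zero _).2 ?_
  clear hgt
  show ((1 : A) ⊗ₜ[R] g p) ^ k • m ∈ LinearMap.range α'
  induction m using TensorProduct.induction_on with
  | zero => rw [smul_zero]; exact zero_mem _
  | add a b ha hb => rw [smul_add]; exact add_mem ha hb
  | tmul a x =>
    obtain ⟨v, hv⟩ := hk x
    refine ⟨a ⊗ₜ v, ?_⟩
    show a ⊗ₜ[R] α p v = _
    rw [Algebra.TensorProduct.tmul_pow, one_pow, tmul_smul_tmul, one_mul, hv]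

/-- The rank near a prime of a chart off the exceptional divisor. -/
theorem free_rank_stMod {g : D} {r : ℕ} (α : (Fin r → D) →ₗ[D] G)
    (hbij : Function.Bijective (LocalizedModule.map (Submonoid.powers g) α)) (hmod : Module.Finite D G)
    (C : Type u) [CommRing C] [Algebra R C] (a : C) (q : Ideal C) [q.IsPrime] (haq : a ∉ q)
    [(q.map (algebraMap C (C ⊗[R] D))).IsPrime]
    (hover : (q.map (algebraMap C (C ⊗[R] D))).comap (algebraMap C (C ⊗[R] D)) = q)
    (hg : ((1 : C) ⊗ₜ[R] g) ∉ q.map (algebraMap C (C ⊗[R] D))) :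
    Module.Free (Localization.AtPrime (q.map (algebraMap C (C ⊗[R] D))))
        (LocalizedModule (q.map (algebraMap C (C ⊗[R] D))).primeCompl (StMod R D G C a)) ∧
      Module.rank (Localization.AtPrime (q.map (algebraMap C (C ⊗[R] D))))
        (LocalizedModule (q.map (algebraMap C (C ⊗[R] D))).primeCompl (StMod R D G C a)) = r := by
  let P := q.map (algebraMap C (C ⊗[R] D))
  let t := algebraMap C (C ⊗[R] D) a
  have htP : t ∉ P := fun hm => haq (hover ▸ hm : a ∈ q)
  let T := FlatCA.powTorsion (C ⊗[R] D) t (C ⊗[R] G)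
  letI : Algebra D (C ⊗[R] D) := Algebra.TensorProduct.rightAlgebra
  letI : Module D (C ⊗[R] (Fin r → D)) := Module.compHom _ (algebraMap D (C ⊗[R] D))
  haveI : IsScalarTower D (C ⊗[R] D) (C ⊗[R] (Fin r → D)) := .of_algebraMap_smul fun _ _ => rfl
  let φ : (Fin r → D) →ₗ[D] C ⊗[R] (Fin r → D) :=
    { toFun := fun n => 1 ⊗ₜ n
      map_add' := fun x y => tmul_add _ _ _
      map_smul' := fun b n => by
        show _ = ((1 : C) ⊗ₜ[R] b) • ((1 : C) ⊗ₜ[R] n)
        rw [tmul_smul_tmul, mul_one] }
  have hφ : IsBaseChange (C ⊗[R] D) φ := isBaseChange_act R C D (Fin r → D) φ fun _ => rfl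
  let b : Module.Basis (Fin r) (C ⊗[R] D) (C ⊗[R] (Fin r → D)) :=
    ((Pi.basisFun D (Fin r)).baseChange (C ⊗[R] D)).map hφ.equiv
  let α' := tensorMap (R := R) C α
  obtain ⟨k, hk⟩ := exists_pow_smul_mem_range α hbij.2
  have hcomm : ∀ w : C ⊗[R] (Fin r → D), TensorProduct.AlgebraTensorModule.rTensor R C α
      (TensorProduct.comm R C _ w) = TensorProduct.comm R C G (α' w) := fun w => by
    induction w using TensorProduct.induction_on with
    | zero => simp only [map_zero]
    | add u v hu hv => simp only [map_add, hu, hv]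
    | tmul x v => rfl
  have hcommsmul : ∀ (d : D) (w : C ⊗[R] (Fin r → D)),
      TensorProduct.comm R C _ (((1 : C) ⊗ₜ[R] d) • w) = d • TensorProduct.comm R C _ w := fun d w => by
    induction w using TensorProduct.induction_on with
    | zero => simp only [smul_zero, map_zero]
    | add u v hu hv => simp only [smul_add, map_add, hu, hv]
    | tmul x v => rw [tmul_smul_tmul, one_mul]; rfl
  refine free_rank_of_bijective b P (T.mkQ.comp α') (bijective_localized_of_kill _ _ (fun z hz => ?_) fun y => ?_)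
  · obtain ⟨n, hn⟩ := FittX.mem_powTorsion.1 ((Submodule.Quotient.mk_eq_zero T).1 hz)
    rw [← map_smul] at hn
    obtain ⟨l, hl⟩ := exists_kill_of_localized_bijective α hbij C (TensorProduct.comm R C _ (t ^ n • z))
      (by rw [hcomm, hn, map_zero])
    rw [← hcommsmul, LinearEquiv.map_eq_zero_iff, ← mul_smul] at hl
    refine ⟨((1 : C) ⊗ₜ[R] (g ^ l)) * t ^ n, P.primeCompl.mul_mem ?_ (pow_mem (show t ∈ P.primeCompl from htP) n), hl⟩
    have : ((1 : C) ⊗ₜ[R] (g ^ l)) = ((1 : C) ⊗ₜ[R] g) ^ l := by rw [Algebra.TensorProduct.tmul_pow, one_pow]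
    rw [this]
    exact pow_mem (show ((1 : C) ⊗ₜ[R] g) ∈ P.primeCompl from hg) l
  · refine ⟨((1 : C) ⊗ₜ[R] g) ^ k, pow_mem (show ((1 : C) ⊗ₜ[R] g) ∈ P.primeCompl from hg) k, ?_⟩
    obtain ⟨y, rfl⟩ := T.mkQ_surjective y
    rw [← map_smul, LinearMap.range_comp]
    refine Submodule.mem_map_of_mem ?_
    induction y using TensorProduct.induction_on with
    | zero => rw [smul_zero]; exact zero_mem _
    | add a b ha hb => rw [smul_add]; exact add_mem ha hb
    | tmul c x =>
      obtain ⟨v, hv⟩ := hk x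
      refine ⟨c ⊗ₜ v, ?_⟩
      show c ⊗ₜ[R] α v = _
      rw [Algebra.TensorProduct.tmul_pow, one_pow, tmul_smul_tmul, one_mul, hv]

/-- Constant rank off a principal divisor. -/
theorem flattenable_of_rank [Module.Finite D G] {n : ℕ} (hP : FlatP.{u} n) (hsm : FlatCA.SmoothRelDim n R D)
    (hgi : FlatCA.GeomIntegralFibres R D) (a : R) (r : ℕ) (hoff : OffGood R D G (Ideal.span {a}))
    (hfree : ∀ (p : Ideal R) [p.IsPrime] [(p.map (algebraMap R D)).IsPrime], a ∉ p →
      Module.Free (Localization.AtPrime (p.map (algebraMap R D))) (LocalizedModule (p.map (algebraMap R D)).primeCompl G) ∧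
      Module.rank (Localization.AtPrime (p.map (algebraMap R D))) (LocalizedModule (p.map (algebraMap R D)).primeCompl G) = r) :
    Flattenable R D G (Ideal.span {a}) := by
  haveI := DevExist.smooth_of_smoothRelDim n hsm
  have hpres := (flat_fp_away a (hoff _ (Ideal.eq_top_of_isUnit_mem _
      (Ideal.mem_map_of_mem _ (Ideal.mem_span_singleton_self a)) (IsLocalization.Away.algebraMap_isUnit a)))).2
  obtain ⟨I, hI, hIrad, hIfree⟩ := Groth.Agent.S1287.result hgi a r G hpres hfree
  obtain ⟨sI, hsI'⟩ := hI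
  refine flattenable_of_charts hIrad sI hsI' fun b hb => ?_
  have hbI : b ∈ I := hsI' ▸ Ideal.subset_span hb
  let C₂ := BlowUp.affineAlgebra R I b
  letI : Algebra D (C₂ ⊗[R] D) := Algebra.TensorProduct.rightAlgebra
  letI : Module D (C₂ ⊗[R] G) := Module.compHom _ (algebraMap D (C₂ ⊗[R] D))
  haveI : IsScalarTower D (C₂ ⊗[R] D) (C₂ ⊗[R] G) := .of_algebraMap_smul fun _ _ => rfl
  haveI : Algebra.IsPushout R D C₂ (C₂ ⊗[R] D) := Algebra.IsPushout.symm inferInstance
  let fM : G →ₗ[D] C₂ ⊗[R] G :=
    { toFun := fun n => 1 ⊗ₜ n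
      map_add' := fun x y => tmul_add _ _ _
      map_smul' := fun b n => by
        show _ = ((1 : C₂) ⊗ₜ[R] b) • ((1 : C₂) ⊗ₜ[R] n)
        rw [tmul_smul_tmul, mul_one] }
  have hfM : IsBaseChange (C₂ ⊗[R] D) fM := isBaseChange_act R C₂ D G fM fun _ => rfl
  haveI : Module.Finite (C₂ ⊗[R] D) (C₂ ⊗[R] G) := Module.Finite.equiv hfM.equiv
  have hfree' := hIfree b hbI (C₂ ⊗[R] D) (C₂ ⊗[R] G) fM hfM
  rw [IsScalarTower.algebraMap_apply R C₂ (C₂ ⊗[R] D) b] at hfree'
  refine flattenable_of_generic_iso hP (DevExist.smoothRelDim_baseChange n hsm) (geomIntegral_baseChange hgi)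
    (Submodule.fg_span_singleton _) (OffGood.stMod _ ((hoff.chart C₂).mono ?_)) fun q _ => ?_
  · rw [Ideal.span_singleton_le_iff_mem]
    exact Ideal.map_radical_le _ (Ideal.mem_map_of_mem _ (hIrad ▸ Ideal.le_radical hbI))
  · obtain ⟨g₂, hg₂, hF, hr⟩ := hfree' q
    exact ⟨g₂, hg₂, exists_map_of_free_away g₂ r hF hr⟩

/-- Flattening over a smooth algebra with integral fibres. -/
theorem flattenable_of_smooth [Module.Finite D G] {n : ℕ} (hP : FlatP.{u} n) (hsm : FlatCA.SmoothRelDim n R D)
    (hgi : FlatCA.GeomIntegralFibres R D) {I₀ : Ideal R} (hI₀ : I₀.FG) (hoff : OffGood R D G I₀) :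
    Flattenable R D G I₀ := by
  classical
  haveI := DevExist.smooth_of_smoothRelDim n hsm
  haveI : Module.Flat R D := inferInstance
  obtain ⟨s, hs⟩ := hI₀
  have hsI : ∀ f ∈ s, f ∈ I₀ := fun f hf => hs ▸ Ideal.subset_span hf
  -- the open pieces
  have hpiece : ∀ p : {p : PrimeSpectrum R // ¬ I₀ ≤ p.asIdeal}, ∃ (h : R) (g : D) (r : ℕ) (α : (Fin r → D) →ₗ[D] G),
      h ∉ p.1.asIdeal ∧ h ∈ I₀ ∧ Function.Bijective (LocalizedModule.map (Submonoid.powers g) α) ∧
        ∀ (t : Ideal R) [t.IsPrime], h ∉ t → Meets g t := fun ⟨p, hp⟩ => by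
    obtain ⟨f, hf, hfp⟩ : ∃ f ∈ s, f ∉ p.asIdeal := by
      by_contra hne
      push Not at hne
      exact hp (hs ▸ Submodule.span_le.2 hne)
    have hgood : StGood R D G (Localization.Away f) 1 := hoff _ (Ideal.eq_top_of_isUnit_mem _
      (Ideal.mem_map_of_mem _ (hsI f hf)) (IsLocalization.Away.algebraMap_isUnit f))
    obtain ⟨g, hg, r, α, hbij⟩ := exists_generic_iso hgi f hgood p.asIdeal hfp
    obtain ⟨hprime, hover⟩ := RGLib.isPrime_map_and_comap hgi p.asIdeal (S := D)
    obtain ⟨e, he, hmeet⟩ := exists_nhd_meets p.asIdeal (⟨_, hprime, hover, hg⟩ : Meets g p.asIdeal)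
    exact ⟨e * f, g, r, α, fun hm => (p.isPrime.mem_or_mem hm).elim he hfp, Ideal.mul_mem_left _ _ (hsI f hf), hbij,
      fun t ht hn => hmeet t fun h => hn (Ideal.mul_mem_right _ _ h)⟩
  choose hh g r α hnot hmem hbij hmeet using hpiece
  have hcpt : IsCompact {p : PrimeSpectrum R | ¬ I₀ ≤ p.asIdeal} := by
    have he : {p : PrimeSpectrum R | ¬ I₀ ≤ p.asIdeal} =
        ⋃ f ∈ (s : Set R), (PrimeSpectrum.basicOpen f : Set (PrimeSpectrum R)) := by
      ext p
      simp only [Set.mem_setOf_eq, Set.mem_iUnion, SetLike.mem_coe, PrimeSpectrum.mem_basicOpen, ← hs]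
      rw [Submodule.span_le, Set.not_subset]
      simp only [SetLike.mem_coe, exists_prop]
    rw [he]
    exact s.finite_toSet.isCompact_biUnion fun f _ => PrimeSpectrum.isCompact_basicOpen f
  obtain ⟨t, ht⟩ := hcpt.elim_finite_subcover (fun p => (PrimeSpectrum.basicOpen (hh p) : Set (PrimeSpectrum R)))
    (fun p => (PrimeSpectrum.basicOpen (hh p)).isOpen) (fun p hp => Set.mem_iUnion.2 ⟨⟨p, hp⟩, hnot ⟨p, hp⟩⟩)
  let L := Ideal.span ((t.image hh : Finset R) : Set R)
  have hL : L.radical = I₀.radical := by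
    refine le_antisymm (Ideal.radical_mono (Ideal.span_le.2 fun x hx => ?_)) ?_
    · obtain ⟨p, -, rfl⟩ := Finset.mem_image.1 hx
      exact hmem p
    · rw [Ideal.radical_le_radical_iff, Ideal.radical_eq_sInf]
      refine le_sInf fun q ⟨hle, hq⟩ => ?_
      by_contra hne
      obtain ⟨p, hp, hpq⟩ := Set.mem_iUnion₂.1 (ht (show (⟨q, hq⟩ : PrimeSpectrum R) ∈
        {p : PrimeSpectrum R | ¬ I₀ ≤ p.asIdeal} from hne))
      exact hpq (hle (Ideal.subset_span (Finset.mem_image_of_mem hh hp)))
  refine flattenable_of_charts hL (t.image hh) rfl fun a ha => ?_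
  obtain ⟨p, -, rfl⟩ := Finset.mem_image.1 ha
  let C := BlowUp.affineAlgebra R L (hh p)
  let a : C := algebraMap R C (hh p)
  let D₁ := C ⊗[R] D
  let M := StMod R D G C a
  have hgi₁ := geomIntegral_baseChange (R' := C) hgi
  have hsm₁ := DevExist.smoothRelDim_baseChange (R' := C) n hsm
  haveI : Module.Finite D₁ (C ⊗[R] G) := by
    letI : Algebra D D₁ := Algebra.TensorProduct.rightAlgebra
    letI : Module D (C ⊗[R] G) := Module.compHom _ (algebraMap D D₁)
    haveI : IsScalarTower D D₁ (C ⊗[R] G) := .of_algebraMap_smul fun _ _ => rfl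
    let fN : G →ₗ[D] C ⊗[R] G :=
      { toFun := fun n => 1 ⊗ₜ n
        map_add' := fun x y => tmul_add _ _ _
        map_smul' := fun b n => by
          show _ = ((1 : C) ⊗ₜ[R] b) • ((1 : C) ⊗ₜ[R] n)
          rw [tmul_smul_tmul, mul_one] }
    exact Module.Finite.equiv (isBaseChange_act R C D G fN fun _ => rfl).equiv
  have hoff₁ : OffGood C D₁ M (Ideal.span {a}) := by
    refine OffGood.stMod a ((hoff.chart C).mono ?_)
    rw [Ideal.span_singleton_le_iff_mem]
    exact Ideal.le_radical (Ideal.mem_map_of_mem _ (hmem p))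
  refine flattenable_of_rank (D := D₁) (G := M) hP hsm₁ hgi₁ a (r p) hoff₁ fun q hq hqP haq => ?_
  obtain ⟨-, hover⟩ := RGLib.isPrime_map_and_comap hgi₁ q (S := D₁)
  exact free_rank_stMod (α p) (hbij p) ‹_› C a q haq hover
    (notMem_map_of_meets (meets_baseChange (A := C) q (hmeet p (q.comap (algebraMap R C)) haq)))

end Groth.Agent.StrictAlg
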