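import Groth.Agent.StrictAlg.Reduce
import Groth.Agent.DevEtale.FP
import Groth.Agent.RGLib.LocalModel

/-!
# The hypothesis off the centre and its stability
-/

set_option autoImplicit false
set_option linter.style.haveILetI false
set_option backward.isDefEq.respectTransparency false
set_option backward.isDefEq.respectTransparency.types false

universe u

open TensorProduct

namespace Groth.Agent.StrictAlg

theorem goodQ_iff_of_isUnit {A BA M : Type u} [CommRing A] [CommRing BA] [Algebra A BA] [AddCommGroup M]
    [Module BA M] [Module A M] [IsScalarTower A BA M] {a : A} (ha : IsUnit a) :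
    GoodQ A BA M a ↔ Module.Flat A M ∧ Module.FinitePresentation BA M := by
  let T := FlatCA.powTorsion BA (algebraMap A BA a) M
  have hT : T = ⊥ := (Submodule.eq_bot_iff _).2 fun m hm => by
    obtain ⟨n, hn⟩ := FittX.mem_powTorsion.1 hm
    exact ((ha.map (algebraMap A BA)).pow n).smul_eq_zero.1 hn
  let e : (M ⧸ T) ≃ₗ[BA] M := Submodule.quotEquivOfEqBot T hT
  exact ⟨fun ⟨_, _⟩ => ⟨Module.Flat.of_linearEquiv (e.symm.restrictScalars A),
      Module.FinitePresentation.of_equiv e⟩,
    fun ⟨_, _⟩ => ⟨Module.Flat.of_linearEquiv (e.restrictScalars A), Module.FinitePresentation.of_equiv e.symm⟩⟩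

theorem goodQ_iff_restrict {A BA BC M : Type u} [CommRing A] [CommRing BA] [CommRing BC] [Algebra A BA]
    [Algebra A BC] [Algebra BA BC] [IsScalarTower A BA BC] [Module.FinitePresentation BA BC]
    [AddCommGroup M] [Module BC M] [Module BA M] [IsScalarTower BA BC M] [Module A M] [IsScalarTower A BA M]
    [IsScalarTower A BC M] {a : A} : GoodQ A BA M a ↔ GoodQ A BC M a := by
  let T := FlatCA.powTorsion BA (algebraMap A BA a) M
  let T' := FlatCA.powTorsion BC (algebraMap A BC a) M
  have e : T'.restrictScalars BA = T := Submodule.ext fun m => by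
    simp only [T, T', Submodule.restrictScalars_mem, FittX.mem_powTorsion]
    refine exists_congr fun n => ?_
    rw [← map_pow, ← map_pow, algebraMap_smul, algebraMap_smul]
  let l : (M ⧸ T) ≃ₗ[BA] (M ⧸ T') :=
    (Submodule.quotEquivOfEq _ _ e.symm).trans (Submodule.Quotient.restrictScalarsEquiv BA T')
  haveI : IsScalarTower A BA (M ⧸ T') := .of_algebraMap_smul fun x m => by
    obtain ⟨m, rfl⟩ := T'.mkQ_surjective m
    exact congrArg T'.mkQ (algebraMap_smul BA x m)
  constructor <;> rintro ⟨hfl, hfp⟩
  · exact ⟨Module.Flat.of_linearEquiv (l.symm.restrictScalars A),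
      (DevEtale.fp_iff_restrictScalars BA BC (M ⧸ T')).1 (Module.FinitePresentation.of_equiv l)⟩
  · haveI := (DevEtale.fp_iff_restrictScalars BA BC (M ⧸ T')).2 hfp
    exact ⟨Module.Flat.of_linearEquiv (l.restrictScalars A), Module.FinitePresentation.of_equiv l.symm⟩

section Restrict

variable {R B C N A : Type u} [CommRing R] [CommRing B] [CommRing C] [Algebra R B] [Algebra R C] [Algebra B C]
  [IsScalarTower R B C] [AddCommGroup N] [Module C N] [Module B N] [IsScalarTower B C N] [Module R N]
  [IsScalarTower R B N] [IsScalarTower R C N] [CommRing A] [Algebra R A]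

attribute [local instance] Algebra.TensorProduct.rightAlgebra

/-- Goodness does not see a finite finitely presented change of the upper ring. -/
theorem stGood_iff_restrict [Module.FinitePresentation B C] {a : A} : StGood R B N A a ↔ StGood R C N A a := by
  let θ : A ⊗[R] B →ₐ[A] A ⊗[R] C := Algebra.TensorProduct.map (AlgHom.id A A) (IsScalarTower.toAlgHom R B C)
  letI : Algebra (A ⊗[R] B) (A ⊗[R] C) := θ.toAlgebra
  haveI : IsScalarTower A (A ⊗[R] B) (A ⊗[R] C) := .of_algebraMap_eq fun x => (θ.commutes x).symm
  haveI : IsScalarTower (A ⊗[R] B) (A ⊗[R] C) (A ⊗[R] N) := .of_algebraMap_smul fun x m => by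
    show θ x • m = x • m
    induction x using TensorProduct.induction_on with
    | zero => exact (congrArg (· • m) (map_zero θ)).trans ((zero_smul _ m).trans (zero_smul (A ⊗[R] B) m).symm)
    | add u v hu hv => rw [map_add, add_smul, add_smul, hu, hv]
    | tmul u b =>
      induction m using TensorProduct.induction_on with
      | zero => rw [smul_zero, smul_zero]
      | add p q hp hq => rw [smul_add, smul_add, hp, hq]
      | tmul y n =>
        rw [Algebra.TensorProduct.map_tmul, tmul_smul_tmul, tmul_smul_tmul]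
        simp [IsScalarTower.toAlgHom_apply]
  letI : Algebra B (A ⊗[R] C) :=
    ((algebraMap C (A ⊗[R] C)).comp (algebraMap B C)).toAlgebra
  haveI : IsScalarTower B C (A ⊗[R] C) := .of_algebraMap_eq fun _ => rfl
  haveI : IsScalarTower B (A ⊗[R] B) (A ⊗[R] C) := .of_algebraMap_eq fun b => by
    show (1 : A) ⊗ₜ[R] algebraMap B C b = θ (1 ⊗ₜ b)
    rw [Algebra.TensorProduct.map_tmul, map_one]
    rfl
  haveI : IsScalarTower R B (A ⊗[R] C) := .of_algebraMap_eq fun r => by
    show algebraMap R (A ⊗[R] C) r = (1 : A) ⊗ₜ[R] algebraMap B C (algebraMap R B r)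
    rw [← IsScalarTower.algebraMap_apply]
    exact ((Algebra.TensorProduct.includeRight : C →ₐ[R] A ⊗[R] C).commutes r).symm
  let φ : C →ₗ[B] A ⊗[R] C := (IsScalarTower.toAlgHom B C (A ⊗[R] C)).toLinearMap
  have hφ : IsBaseChange (A ⊗[R] B) φ := by
    rw [isBaseChange_iff_pushout (A := R) (A' := A)]
    have : φ.restrictScalars R = TensorProduct.mk R A C 1 := LinearMap.ext fun _ => rfl
    rw [this]
    exact TensorProduct.isBaseChange R C A
  haveI : Module.FinitePresentation (A ⊗[R] B) (A ⊗[R] C) := FinitePresentation.of_isBaseChange φ hφ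
  exact goodQ_iff_restrict

theorem flattens_iff_restrict [Module.FinitePresentation B C] {I : Ideal R} :
    Flattens R B N I ↔ Flattens R C N I :=
  ⟨fun h A _ _ a he ha => stGood_iff_restrict.1 (h A a he ha), fun h A _ _ a he ha => stGood_iff_restrict.2 (h A a he ha)⟩

end Restrict

/-- Off the centre the module is flat and finitely presented. -/
def OffGood (R B N : Type u) [CommRing R] [CommRing B] [Algebra R B] [AddCommGroup N] [Module B N] [Module R N]
    [IsScalarTower R B N] (I₀ : Ideal R) : Prop :=
  ∀ (A : Type u) [CommRing A] [Algebra R A], I₀.map (algebraMap R A) = ⊤ → StGood R B N A 1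

variable {R B N : Type u} [CommRing R] [CommRing B] [Algebra R B] [AddCommGroup N] [Module B N] [Module R N]
  [IsScalarTower R B N] {I₀ : Ideal R}

theorem offGood_of_away (s : Finset R) (hs : Ideal.span (s : Set R) = I₀)
    (h : ∀ f ∈ s, StGood R B N (Localization.Away f) 1) : OffGood R B N I₀ := by
  intro A _ _ hA
  refine StGood.of_zariski 1 fun p hp => ?_
  obtain ⟨f, hf, hfp⟩ : ∃ f ∈ s, algebraMap R A f ∉ p := by
    by_contra hne
    push Not at hne
    refine hp.ne_top (top_le_iff.1 (hA ▸ ?_))
    rw [← hs, Ideal.map_span, Ideal.span_le]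
    rintro _ ⟨f, hf, rfl⟩
    exact hne f hf
  refine ⟨algebraMap R A f, hfp, ?_⟩
  let T := Localization.Away (algebraMap R A f)
  let φ : Localization.Away f →ₐ[R] T :=
    IsLocalization.liftAlgHom (M := Submonoid.powers f) (f := Algebra.ofId R T) fun y => by
      obtain ⟨_, n, rfl⟩ := y
      show IsUnit (algebraMap R T (f ^ n))
      rw [map_pow, IsScalarTower.algebraMap_apply R A T]
      exact (IsLocalization.Away.algebraMap_isUnit _).pow n
  letI : Algebra (Localization.Away f) T := φ.toRingHom.toAlgebra
  haveI : IsScalarTower R (Localization.Away f) T := .of_algebraMap_eq fun r => (φ.commutes r).symm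
  have h1 := (h f hf).baseChange (A' := T) (a := 1) (by rw [map_one]; exact one_mem _)
  rw [map_one] at h1 ⊢
  exact h1

theorem OffGood.mono {I₁ : Ideal R} (h : OffGood R B N I₀) (hle : I₁ ≤ I₀.radical) : OffGood R B N I₁ := by
  intro A _ _ hA
  refine h A (Ideal.radical_eq_top.1 (top_le_iff.1 (hA ▸ ?_)))
  exact (Ideal.map_mono hle).trans (Ideal.map_radical_le _)

theorem OffGood.chart (h : OffGood R B N I₀) (C : Type u) [CommRing C] [Algebra R C] :
    OffGood C (C ⊗[R] B) (C ⊗[R] N) (I₀.map (algebraMap R C)) := by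
  intro A _ _ hA
  letI : Algebra R A := ((algebraMap C A).comp (algebraMap R C)).toAlgebra
  haveI : IsScalarTower R C A := .of_algebraMap_eq fun _ => rfl
  rw [Ideal.map_map] at hA
  let i := Algebra.TensorProduct.cancelBaseChange R C A A B
  let j := TensorProduct.AlgebraTensorModule.cancelBaseChange R C A A N
  refine GoodQ.of_semilinear i j.toAddEquiv (fun r m => ?_) (h A hA)
  show j (r • m) = i r • j m
  obtain ⟨r, rfl⟩ := i.symm.surjective r
  obtain ⟨m, rfl⟩ := j.symm.surjective m
  rw [AlgEquiv.apply_symm_apply, LinearEquiv.apply_symm_apply]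
  apply j.symm.injective
  rw [LinearEquiv.symm_apply_apply]
  induction r using TensorProduct.induction_on with
  | zero => exact (congrArg (· • j.symm m) (map_zero i.symm)).trans ((zero_smul (A ⊗[C] (C ⊗[R] B)) _).trans
      ((congrArg j.symm (zero_smul (A ⊗[R] B) m)).trans (map_zero _)).symm)
  | add x y hx hy => rw [map_add, add_smul, add_smul, map_add, hx, hy]
  | tmul x b =>
    induction m using TensorProduct.induction_on with
    | zero => rw [map_zero, smul_zero, smul_zero, map_zero]
    | add p q hp hq => rw [map_add, smul_add, smul_add, map_add, hp, hq]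
    | tmul y n =>
      simp only [i, j, tmul_smul_tmul, Algebra.TensorProduct.cancelBaseChange_symm_tmul,
        TensorProduct.AlgebraTensorModule.cancelBaseChange_symm_tmul, mul_one]

theorem OffGood.stMod (α : R) (h : OffGood R B N (Ideal.span {α})) :
    OffGood R B (N ⧸ FlatCA.powTorsion B (algebraMap R B α) N) (Ideal.span {α}) := by
  intro A _ _ hA
  let T := FlatCA.powTorsion B (algebraMap R B α) N
  have hα : IsUnit (algebraMap R A α) := by
    rw [Ideal.map_span, Set.image_singleton, Ideal.span_singleton_eq_top] at hA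
    exact hA
  let φ₀ : A ⊗[R] N →ₗ[R] A ⊗[R] (N ⧸ T) := (T.mkQ.restrictScalars R).lTensor A
  let φ : A ⊗[R] N →ₗ[A ⊗[R] B] A ⊗[R] (N ⧸ T) :=
    { φ₀ with
      map_smul' := fun r m => by
        show φ₀ (r • m) = r • φ₀ m
        induction r using TensorProduct.induction_on with
        | zero => exact (congrArg φ₀ (zero_smul (A ⊗[R] B) m)).trans ((map_zero φ₀).trans (zero_smul (A ⊗[R] B) (φ₀ m)).symm)
        | add x y hx hy => rw [add_smul, map_add, hx, hy, add_smul]
        | tmul t b =>
          induction m using TensorProduct.induction_on with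
          | zero => rw [smul_zero, map_zero, smul_zero]
          | add x y hx hy => rw [smul_add, map_add, hx, hy, map_add, smul_add]
          | tmul x n =>
            rw [tmul_smul_tmul, LinearMap.lTensor_tmul, LinearMap.lTensor_tmul, tmul_smul_tmul]
            rfl }
  have hker : LinearMap.ker φ = ⊥ := (Submodule.eq_bot_iff _).2 fun z hz => by
    have hx : Function.Exact (T.restrictScalars R).subtype (T.restrictScalars R).mkQ := LinearMap.exact_subtype_mkQ _
    have hex := lTensor_exact A (M := (T.restrictScalars R : Submodule R N)) hx (T.restrictScalars R).mkQ_surjective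
    obtain ⟨w, rfl⟩ : z ∈ LinearMap.range ((T.restrictScalars R).subtype.lTensor A) := (hex z).1 hz
    clear hz
    induction w using TensorProduct.induction_on with
    | zero => rw [map_zero]
    | add x y hx hy => rw [map_add, hx, hy, add_zero]
    | tmul t m =>
      obtain ⟨n, hn⟩ := FittX.mem_powTorsion.1 (m.2 : (m : N) ∈ T)
      refine (hα.pow n).smul_eq_zero.1 ?_
      rw [← map_pow, LinearMap.lTensor_tmul, smul_tmul', algebraMap_smul, smul_tmul, Submodule.coe_subtype]
      rw [← map_pow, algebraMap_smul] at hn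
      rw [hn, tmul_zero]
  let e : (A ⊗[R] N) ≃ₗ[A ⊗[R] B] (A ⊗[R] (N ⧸ T)) :=
    LinearEquiv.ofBijective φ ⟨LinearMap.ker_eq_bot.1 hker, LinearMap.lTensor_surjective A T.mkQ_surjective⟩
  exact GoodQ.of_semilinear AlgEquiv.refl e.symm.toAddEquiv (fun r m => e.symm.map_smul r m) (h A hA)

/-- From the base to an etale base. -/
theorem StGood.to_base {R' B' N' A A' : Type u} [CommRing R'] [Algebra R R'] [CommRing B'] [Algebra R B']
    [Algebra R' B'] [IsScalarTower R R' B'] [AddCommGroup N'] [Module B' N'] [Module R N'] [Module R' N']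
    [IsScalarTower R B' N'] [IsScalarTower R' B' N'] [IsScalarTower R R' N']
    [CommRing A] [Algebra R A] [CommRing A'] [Algebra A A'] [Algebra R' A'] [Algebra R A'] [IsScalarTower R A A']
    [IsScalarTower R R' A'] [Algebra.IsPushout R A R' A'] [Algebra.Etale A A']
    (h : StGood R B' N' A 1) : StGood R' B' N' A' 1 := by
  letI : Algebra A (A' ⊗[R'] B') := Algebra.TensorProduct.leftAlgebra
  haveI : IsScalarTower A (A' ⊗[R'] B') (A' ⊗[R'] N') := .of_algebraMap_smul fun x m => by
    rw [IsScalarTower.algebraMap_apply A A' (A' ⊗[R'] B'), algebraMap_smul, algebraMap_smul]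
  let i := Algebra.IsPushout.cancelBaseChangeAlg R A R' A' B'
  let j := Algebra.IsPushout.cancelBaseChange R A R' A' N'
  have h1 : GoodQ A (A' ⊗[R'] B') (A' ⊗[R'] N') 1 := by
    refine GoodQ.of_semilinear i j.toAddEquiv (fun r m => ?_) h
    show j (r • m) = i r • j m
    obtain ⟨r, rfl⟩ := i.symm.surjective r
    obtain ⟨m, rfl⟩ := j.symm.surjective m
    rw [AlgEquiv.apply_symm_apply, LinearEquiv.apply_symm_apply]
    apply j.symm.injective
    rw [LinearEquiv.symm_apply_apply]
    induction r using TensorProduct.induction_on with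
    | zero => exact (congrArg (· • j.symm m) (map_zero i.symm)).trans ((zero_smul _ _).trans
        ((congrArg j.symm (zero_smul (A ⊗[R] B') m)).trans (map_zero _)).symm)
    | add x y hx hy => rw [map_add, add_smul, add_smul, map_add, hx, hy]
    | tmul x b =>
      induction m using TensorProduct.induction_on with
      | zero => rw [map_zero, smul_zero, smul_zero, map_zero]
      | add p q hp hq => rw [map_add, smul_add, smul_add, map_add, hp, hq]
      | tmul y n =>
        simp only [i, j, tmul_smul_tmul, Algebra.IsPushout.cancelBaseChange_symm_tmul,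
          Algebra.IsPushout.cancelBaseChangeAlg_symm_tmul, map_mul]
  obtain ⟨hfl', hfp'⟩ := (goodQ_iff_of_isUnit isUnit_one).1 h1
  exact (goodQ_iff_of_isUnit isUnit_one).2 ⟨(DevEtale.flat_iff_of_etale_base A A' _).1 hfl', hfp'⟩

/-- Base change along a given homomorphism. -/
theorem StGood.along {A A' : Type u} [CommRing A] [CommRing A'] [Algebra R A] [Algebra R A']
    (h : StGood R B N A' 1) (μ : A' →+* A) (hμ : μ.comp (algebraMap R A') = algebraMap R A) :
    StGood R B N A 1 := by
  letI : Algebra A' A := μ.toAlgebra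
  haveI : IsScalarTower R A' A := .of_algebraMap_eq fun r => (RingHom.congr_fun hμ r).symm
  have h3 := h.baseChange (A' := A) (a := 1) (by rw [map_one]; exact one_mem _)
  rw [map_one] at h3
  exact h3

theorem OffGood.etale (h : OffGood R B N I₀) {R' B' N' : Type u} [CommRing R'] [Algebra R R'] [Algebra.Etale R R']
    [CommRing B'] [Algebra R B'] [Algebra R' B'] [IsScalarTower R R' B'] [Algebra B B'] [IsScalarTower R B B']
    [Module.Flat B B'] [AddCommGroup N'] [Module B' N'] [Module B N'] [Module R N'] [Module R' N']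
    [IsScalarTower R B' N'] [IsScalarTower R B N'] [IsScalarTower B B' N'] [IsScalarTower R' B' N']
    [IsScalarTower R R' N']
    (fN : N →ₗ[B] N') (hfN : IsBaseChange B' fN) : OffGood R' B' N' (I₀.map (algebraMap R R')) := by
  intro A _ _ hA
  letI : Algebra R A := ((algebraMap R' A).comp (algebraMap R R')).toAlgebra
  haveI : IsScalarTower R R' A := .of_algebraMap_eq fun _ => rfl
  rw [Ideal.map_map] at hA
  obtain ⟨hfl, hfp⟩ := (goodQ_iff_of_isUnit isUnit_one).1 (h A hA)
  -- enlarge the upper ring
  letI := (pairRingMap R A A B B').toAlgebra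
  letI : Module (A ⊗[R] B) (A ⊗[R] N') := Module.compHom _ (pairRingMap R A A B B').toRingHom
  haveI : IsScalarTower (A ⊗[R] B) (A ⊗[R] B') (A ⊗[R] N') := .of_algebraMap_smul fun _ _ => rfl
  haveI : IsScalarTower A (A ⊗[R] B) (A ⊗[R] B') := .of_algebraMap_eq fun x =>
    ((pairRingMap R A A B B').commutes x).symm
  haveI : IsScalarTower A (A ⊗[R] B) (A ⊗[R] N') := .of_algebraMap_smul fun x m => by
    rw [← algebraMap_smul (A ⊗[R] B') (algebraMap A (A ⊗[R] B) x) m, ← IsScalarTower.algebraMap_apply, algebraMap_smul]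
  obtain ⟨ν, hν, -⟩ := exists_pair (R := R) (A := A) (A' := A) fN hfN
  haveI : Module.Flat (A ⊗[R] B) (A ⊗[R] B') := flat_pair
  haveI := hfl
  haveI : Module.Flat A (A ⊗[R] N') := by
    haveI : Module.Flat A ((A ⊗[R] B') ⊗[A ⊗[R] B] (A ⊗[R] N)) :=
      RGLib.flat_tensor_left A (A ⊗[R] B) (A ⊗[R] N) (A ⊗[R] B')
    exact Module.Flat.of_linearEquiv (hν.equiv.restrictScalars A).symm
  haveI := hfp
  haveI : Module.FinitePresentation (A ⊗[R] B') (A ⊗[R] N') := FinitePresentation.of_isBaseChange ν hν
  -- change the base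
  letI : Algebra R' (A ⊗[R] R') := Algebra.TensorProduct.rightAlgebra
  haveI : Algebra.IsPushout R A R' (A ⊗[R] R') := TensorProduct.isPushout
  have h2 : StGood R' B' N' (A ⊗[R] R') 1 := StGood.to_base ((goodQ_iff_of_isUnit isUnit_one).2 ⟨‹_›, ‹_›⟩)
  -- back along the multiplication
  let μ : A ⊗[R] R' →ₐ[R] A :=
    Algebra.TensorProduct.lift (AlgHom.id R A) (IsScalarTower.toAlgHom R R' A) fun _ _ => Commute.all _ _
  exact h2.along μ.toRingHom (RingHom.ext fun r => by
    show μ (1 ⊗ₜ r) = algebraMap R' A r
    simp [μ])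

end Groth.Agent.StrictAlg
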