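import Groth.Agent.StrictAlg.Good
import Groth.Agent.StrictAlg.Ideals
import Mathlib.RingTheory.LocalRing.ResidueField.Ideal

/-!
# Reductions for flattening: charts, etale covers
-/

set_option autoImplicit false
set_option linter.style.haveILetI false
set_option backward.isDefEq.respectTransparency false
set_option backward.isDefEq.respectTransparency.types false

universe u

open TensorProduct

namespace Groth.Agent.StrictAlg

/-- Two field extensions embed in a common one. -/
theorem exists_field_amalgam (k L L' : Type u) [Field k] [Field L] [Field L'] [Algebra k L] [Algebra k L'] :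
    ∃ (K : Type u) (_ : Field K) (α : L →+* K) (β : L' →+* K), ∀ x, α (algebraMap k L x) = β (algebraMap k L' x) := by
  obtain ⟨m, hm⟩ := Ideal.exists_maximal (L ⊗[k] L')
  letI : Field ((L ⊗[k] L') ⧸ m) := Ideal.Quotient.field m
  refine ⟨(L ⊗[k] L') ⧸ m, inferInstance, (Ideal.Quotient.mk m).comp Algebra.TensorProduct.includeLeftRingHom,
    (Ideal.Quotient.mk m).comp (Algebra.TensorProduct.includeRight : L' →ₐ[k] L ⊗[k] L').toRingHom, fun x => ?_⟩
  show Ideal.Quotient.mk m (algebraMap k L x ⊗ₜ 1) = Ideal.Quotient.mk m (1 ⊗ₜ algebraMap k L' x)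
  rw [Algebra.algebraMap_eq_smul_one, Algebra.algebraMap_eq_smul_one, smul_tmul]

theorem exists_prime_tensor {R A B B' : Type u} [CommRing R] [CommRing A] [CommRing B] [CommRing B'] [Algebra R A]
    [Algebra R B] [Algebra R B'] [Algebra B B'] [IsScalarTower R B B'] (Q : Ideal (A ⊗[R] B)) [Q.IsPrime]
    (q' : Ideal B') [q'.IsPrime]
    (h : q'.comap (algebraMap B B') = Q.comap (Algebra.TensorProduct.includeRight : B →ₐ[R] A ⊗[R] B).toRingHom) :
    ∃ Q' : Ideal (A ⊗[R] B'), Q'.IsPrime ∧
      Q'.comap (Algebra.TensorProduct.map (AlgHom.id A A) (IsScalarTower.toAlgHom R B B')).toRingHom = Q := by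
  let incl : B →+* A ⊗[R] B := (Algebra.TensorProduct.includeRight : B →ₐ[R] A ⊗[R] B).toRingHom
  let q := Q.comap incl
  letI : Algebra q.ResidueField Q.ResidueField := (Ideal.ResidueField.map q Q incl rfl).toAlgebra
  letI : Algebra q.ResidueField q'.ResidueField :=
    (Ideal.ResidueField.map q q' (algebraMap B B') h.symm).toAlgebra
  obtain ⟨K, _, α, β, hαβ⟩ := exists_field_amalgam q.ResidueField Q.ResidueField q'.ResidueField
  let fA : A ⊗[R] B →+* K := α.comp (algebraMap (A ⊗[R] B) Q.ResidueField)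
  let fB : B' →+* K := β.comp (algebraMap B' q'.ResidueField)
  have hb : ∀ b : B, fA (incl b) = fB (algebraMap B B' b) := fun b => by
    show α (algebraMap (A ⊗[R] B) Q.ResidueField (incl b)) = β (algebraMap B' q'.ResidueField (algebraMap B B' b))
    rw [← Ideal.ResidueField.map_algebraMap q Q incl rfl b,
      ← Ideal.ResidueField.map_algebraMap q q' (algebraMap B B') h.symm b]
    exact hαβ _
  letI : Algebra R K := (fA.comp (algebraMap R (A ⊗[R] B))).toAlgebra
  let f₁ : A →ₐ[R] K :=
    { fA.comp (algebraMap A (A ⊗[R] B)) with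
      commutes' := fun r => by
        show fA (algebraMap A (A ⊗[R] B) (algebraMap R A r)) = fA (algebraMap R (A ⊗[R] B) r)
        rw [← IsScalarTower.algebraMap_apply] }
  let f₂ : B' →ₐ[R] K :=
    { fB with
      commutes' := fun r => by
        show fB (algebraMap R B' r) = fA (algebraMap R (A ⊗[R] B) r)
        rw [IsScalarTower.algebraMap_apply R B B', ← hb]
        exact congrArg fA ((Algebra.TensorProduct.includeRight : B →ₐ[R] A ⊗[R] B).commutes r) }
  haveI : IsScalarTower R R K := IsScalarTower.left R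
  let F : A ⊗[R] B' →+* K := (Algebra.TensorProduct.lift f₁ f₂ fun _ _ => Commute.all _ _).toRingHom
  refine ⟨RingHom.ker F, RingHom.ker_isPrime F, ?_⟩
  have e : F.comp (Algebra.TensorProduct.map (AlgHom.id A A) (IsScalarTower.toAlgHom R B B')).toRingHom = fA := by
    refine RingHom.ext fun x => ?_
    induction x using TensorProduct.induction_on with
    | zero => simp only [map_zero]
    | add u v hu hv => simp only [map_add, hu, hv]
    | tmul a b =>
      show (Algebra.TensorProduct.lift f₁ f₂ fun _ _ => Commute.all _ _) (Algebra.TensorProduct.map _ _ (a ⊗ₜ b)) = fA (a ⊗ₜ b)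
      rw [Algebra.TensorProduct.map_tmul, Algebra.TensorProduct.lift_tmul]
      show fA (a ⊗ₜ 1) * fB (algebraMap B B' b) = fA (a ⊗ₜ b)
      rw [← hb, ← map_mul]
      show fA ((a ⊗ₜ[R] 1) * (1 ⊗ₜ[R] b)) = _
      rw [Algebra.TensorProduct.tmul_mul_tmul, mul_one, one_mul]
  rw [RingHom.comap_ker, e]
  refine (RingHom.ker_comp_of_injective _ α.injective).trans ?_
  exact Ideal.ker_algebraMap_residueField Q

variable {R B N : Type u} [CommRing R] [CommRing B] [Algebra R B] [AddCommGroup N] [Module B N] [Module R N]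
  [IsScalarTower R B N]

/-- Goodness is Zariski local on `A`. -/
theorem StGood.of_zariski {A : Type u} [CommRing A] [Algebra R A] (a : A)
    (h : ∀ (p : Ideal A) [p.IsPrime], ∃ g ∉ p, StGood R B N (Localization.Away g) (algebraMap A _ a)) :
    StGood R B N A a := by
  classical
  choose g hg hgood using fun p : PrimeSpectrum A => h p.asIdeal
  obtain ⟨t, ht⟩ := isCompact_univ.elim_finite_subcover
    (fun p : PrimeSpectrum A => (PrimeSpectrum.basicOpen (g p) : Set (PrimeSpectrum A)))
    (fun p => (PrimeSpectrum.basicOpen (g p)).isOpen) (fun p _ => Set.mem_iUnion.2 ⟨p, hg p⟩)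
  haveI : ∀ i : Fin t.card, Module.Flat A (Localization.Away (g (t.equivFin.symm i).1)) := fun i =>
    IsLocalization.flat _ (Submonoid.powers (g (t.equivFin.symm i).1))
  refine StGood.descend a (ι := Fin t.card) (fun i => Localization.Away (g (t.equivFin.symm i).1)) (fun _ => B)
    (fun _ => N) (fun _ => LinearMap.id) (fun _ => IsBaseChange.of_equiv (TensorProduct.lid B N) fun x => by simp)
    (fun Q hQ => ?_) fun i => hgood _
  let P : PrimeSpectrum A := ⟨Q.comap (algebraMap A (A ⊗[R] B)), Ideal.IsPrime.comap _⟩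
  obtain ⟨p, hp, hgp⟩ := Set.mem_iUnion₂.1 (ht (Set.mem_univ P))
  refine ⟨t.equivFin ⟨p, hp⟩, ?_⟩
  rw [Equiv.symm_apply_apply]
  letI := (pairRingMap R A (Localization.Away (g p)) B B).toAlgebra
  haveI : IsScalarTower A (A ⊗[R] B) (Localization.Away (g p) ⊗[R] B) := .of_algebraMap_eq fun x => by
    show _ = pairRingMap R A (Localization.Away (g p)) B B (algebraMap A (A ⊗[R] B) x)
    rw [AlgHom.commutes]
  haveI : Algebra.IsPushout A (Localization.Away (g p)) (A ⊗[R] B) (Localization.Away (g p) ⊗[R] B) :=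
    Algebra.IsPushout.tensorProduct_tensorProduct R B A _ (RingHom.ext fun b => by
      show pairRingMap R A (Localization.Away (g p)) B B (1 ⊗ₜ b) = (1 : Localization.Away (g p)) ⊗ₜ[R] b
      rw [Algebra.TensorProduct.map_tmul, map_one]
      rfl)
  haveI : IsLocalization (Algebra.algebraMapSubmonoid (A ⊗[R] B) (Submonoid.powers (g p)))
      (Localization.Away (g p) ⊗[R] B) :=
    (Algebra.isLocalization_iff_isPushout (Submonoid.powers (g p)) (Localization.Away (g p))).2
      (Algebra.IsPushout.symm inferInstance)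
  have hdis : Disjoint (Algebra.algebraMapSubmonoid (A ⊗[R] B) (Submonoid.powers (g p)) : Set (A ⊗[R] B)) Q := by
    rw [Set.disjoint_left]
    rintro _ ⟨_, ⟨n, rfl⟩, rfl⟩ hn
    rw [SetLike.mem_coe, map_pow] at hn
    exact hgp (hQ.mem_of_pow_mem n hn)
  exact ⟨Q.map (algebraMap (A ⊗[R] B) (Localization.Away (g p) ⊗[R] B)),
    IsLocalization.isPrime_of_isPrime_disjoint _ _ Q hQ hdis, IsLocalization.comap_map_of_isPrime_disjoint _ _ hQ hdis⟩

/-- The strict transform over `C` with respect to `α`, as a module. -/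
abbrev StMod (R B N : Type u) [CommRing R] [CommRing B] [Algebra R B] [AddCommGroup N] [Module B N] [Module R N]
    [IsScalarTower R B N] (C : Type u) [CommRing C] [Algebra R C] (α : C) : Type u :=
  (C ⊗[R] N) ⧸ FlatCA.powTorsion (C ⊗[R] B) (algebraMap C (C ⊗[R] B) α) (C ⊗[R] N)

/-- The strict transform of a strict transform. -/
theorem StGood.of_chart {C T : Type u} [CommRing C] [Algebra R C] [CommRing T] [Algebra R T] [Algebra C T]
    [IsScalarTower R C T] (α : C)
    (h : StGood C (C ⊗[R] B) (StMod R B N C α) T (algebraMap C T α)) :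
    StGood R B N T (algebraMap C T α) := by
  let a := algebraMap C T α
  let T₀ := FlatCA.powTorsion (C ⊗[R] B) (algebraMap C (C ⊗[R] B) α) (C ⊗[R] N)
  let φ₀ : T ⊗[C] (C ⊗[R] N) →ₗ[C] T ⊗[C] ((C ⊗[R] N) ⧸ T₀) := (T₀.mkQ.restrictScalars C).lTensor T
  let φ : T ⊗[C] (C ⊗[R] N) →ₗ[T ⊗[C] (C ⊗[R] B)] T ⊗[C] ((C ⊗[R] N) ⧸ T₀) :=
    { φ₀ with
      map_smul' := fun r m => by
        show φ₀ (r • m) = r • φ₀ m
        induction r using TensorProduct.induction_on with
        | zero => exact (congrArg φ₀ (zero_smul (T ⊗[C] (C ⊗[R] B)) m)).trans ((map_zero φ₀).trans (zero_smul (T ⊗[C] (C ⊗[R] B)) (φ₀ m)).symm)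
        | add x y hx hy => rw [add_smul, map_add, hx, hy, add_smul]
        | tmul t b =>
          induction m using TensorProduct.induction_on with
          | zero => rw [smul_zero, map_zero, smul_zero]
          | add x y hx hy => rw [smul_add, map_add, hx, hy, map_add, smul_add]
          | tmul x n =>
            rw [tmul_smul_tmul, LinearMap.lTensor_tmul, LinearMap.lTensor_tmul, tmul_smul_tmul]
            rfl }
  have hφ : Function.Surjective φ := LinearMap.lTensor_surjective T T₀.mkQ_surjective
  have hker : LinearMap.ker φ ≤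
      FlatCA.powTorsion (T ⊗[C] (C ⊗[R] B)) (algebraMap T _ a) (T ⊗[C] (C ⊗[R] N)) := by
    intro z hz
    have hx : Function.Exact (T₀.restrictScalars C).subtype (T₀.restrictScalars C).mkQ :=
      LinearMap.exact_subtype_mkQ _
    have hex := lTensor_exact T (M := (T₀.restrictScalars C : Submodule C (C ⊗[R] N))) hx (T₀.restrictScalars C).mkQ_surjective
    obtain ⟨w, rfl⟩ : z ∈ LinearMap.range ((T₀.restrictScalars C).subtype.lTensor T) := (hex z).1 hz
    clear hz
    induction w using TensorProduct.induction_on with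
    | zero => rw [map_zero]; exact zero_mem _
    | add x y hx hy => rw [map_add]; exact add_mem hx hy
    | tmul t m =>
      obtain ⟨n, hn⟩ := FittX.mem_powTorsion.1 (m.2 : (m : C ⊗[R] N) ∈ T₀)
      refine FittX.mem_powTorsion.2 ⟨n, ?_⟩
      rw [← map_pow, algebraMap_smul, LinearMap.lTensor_tmul, smul_tmul', ← map_pow, algebraMap_smul, smul_tmul,
        Submodule.coe_subtype]
      rw [← map_pow, algebraMap_smul] at hn
      rw [hn, tmul_zero]
  have h' : GoodQ T (T ⊗[C] (C ⊗[R] B)) (T ⊗[C] (C ⊗[R] N)) a := GoodQ.of_surjective φ hφ hker h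
  let i := (Algebra.TensorProduct.cancelBaseChange R C T T B).symm
  let j := (TensorProduct.AlgebraTensorModule.cancelBaseChange R C T T N).symm
  refine GoodQ.of_semilinear i j.toAddEquiv (fun r m => ?_) h'
  show j (r • m) = i r • j m
  induction r using TensorProduct.induction_on with
  | zero => exact (congrArg j (zero_smul _ m)).trans ((map_zero j).trans
      ((congrArg (· • j m) (map_zero i)).trans (zero_smul _ _)).symm)
  | add x y hx hy => rw [add_smul, map_add, hx, hy, map_add, add_smul]
  | tmul x b =>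
    induction m using TensorProduct.induction_on with
    | zero => rw [smul_zero, map_zero, smul_zero]
    | add p q hp hq => rw [smul_add, map_add, hp, hq, map_add, smul_add]
    | tmul y n =>
      simp only [i, j, tmul_smul_tmul, Algebra.TensorProduct.cancelBaseChange_symm_tmul,
        TensorProduct.AlgebraTensorModule.cancelBaseChange_symm_tmul, mul_one]

/-- Blow up once, then flatten on the charts. -/
theorem flattenable_of_charts {I I₀ : Ideal R} (hrad : I.radical = I₀.radical) (s : Finset R)
    (hs : Ideal.span (s : Set R) = I)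
    (h : ∀ a ∈ s, Flattenable (BlowUp.affineAlgebra R I a) (BlowUp.affineAlgebra R I a ⊗[R] B)
      (StMod R B N (BlowUp.affineAlgebra R I a) (algebraMap R _ a))
      (Ideal.span {algebraMap R (BlowUp.affineAlgebra R I a) a})) :
    Flattenable R B N I₀ := by
  classical
  choose J hJ hJrad hJfl using h
  obtain ⟨K, hK, hKrad, hKI, hKJ⟩ := exists_ideal_charts s hs (fun a => if h : a ∈ s then J a h else ⊤)
    (fun a h => by simp only [dif_pos h]; exact hJ a h) (fun a h => by
      simp only [dif_pos h, hJrad a h]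
      exact Ideal.le_radical (Ideal.mem_span_singleton_self _))
  refine ⟨K, hK, hKrad.trans hrad, fun A _ _ c hKc hc => StGood.of_zariski c fun p _ => ?_⟩
  have hinv : IsInv (K.map (algebraMap R A)) := hKc ▸ isInv_span_singleton hc
  obtain ⟨c₀, hc₀, g, hg, he, hnz⟩ := exists_nhd (hKI A hinv) (s := s.image (algebraMap R A))
    (by rw [Finset.coe_image, ← Ideal.map_span, hs]) p
  obtain ⟨a, ha, rfl⟩ := Finset.mem_image.1 hc₀
  refine ⟨g, hg, ?_⟩
  let T := Localization.Away g
  haveI : Module.Flat A T := IsLocalization.flat _ (Submonoid.powers g)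
  rw [Ideal.map_map, ← IsScalarTower.algebraMap_eq, ← IsScalarTower.algebraMap_apply] at he
  rw [← IsScalarTower.algebraMap_apply] at hnz
  obtain ⟨φ⟩ := exists_algHom (a := a) he hnz
  have hKT : IsInv (K.map (algebraMap R T)) := by
    rw [IsScalarTower.algebraMap_eq R A T, ← Ideal.map_map]
    exact hinv.map
  have hJT := hKJ a ha T φ hKT
  simp only [dif_pos ha] at hJT
  letI : Algebra (BlowUp.affineAlgebra R I a) T := φ.toRingHom.toAlgebra
  haveI : IsScalarTower R (BlowUp.affineAlgebra R I a) T := .of_algebraMap_eq fun r => (φ.commutes r).symm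
  have ea : algebraMap (BlowUp.affineAlgebra R I a) T (algebraMap R _ a) = algebraMap R T a := φ.commutes a
  have h1 : StGood R B N T (algebraMap R T a) := by
    rw [← ea]
    refine StGood.of_chart (algebraMap R _ a) (Flattens.apply (hJfl a ha) hJT (ea.symm ▸ hnz) ?_)
    refine le_antisymm ?_ ?_
    · rw [Ideal.radical_le_radical_iff, Ideal.span_singleton_le_iff_mem]
      exact Ideal.map_radical_le _ (Ideal.mem_map_of_mem _ ((hJrad a ha).symm ▸
        Ideal.le_radical (Ideal.mem_span_singleton_self _)))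
    · rw [Ideal.radical_le_radical_iff]
      refine (Ideal.map_mono ((hJrad a ha) ▸ Ideal.le_radical)).trans ((Ideal.map_radical_le _).trans ?_)
      rw [Ideal.map_span, Set.image_singleton]
  have hcT : (Ideal.span {algebraMap A T c}).radical = (Ideal.span {algebraMap R T a}).radical := by
    rw [← Set.image_singleton, ← Ideal.map_span, ← hKc, Ideal.map_map, ← IsScalarTower.algebraMap_eq, ← he]
    refine le_antisymm ?_ ?_ <;> rw [Ideal.radical_le_radical_iff]
    · exact (Ideal.map_mono (hKrad ▸ Ideal.le_radical)).trans (Ideal.map_radical_le _)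
    · exact (Ideal.map_mono (hKrad ▸ Ideal.le_radical)).trans (Ideal.map_radical_le _)
  exact GoodQ.of_radical (hcT ▸ Ideal.le_radical (Ideal.mem_span_singleton_self _))
    (hcT.symm ▸ Ideal.le_radical (Ideal.mem_span_singleton_self _)) h1

/-- Flattenability is local for etale maps of the base and flat maps upstairs. -/
theorem flattenable_of_etale {I₀ : Ideal R} (hI₀ : I₀.FG) {ι : Type} [Finite ι] (R' B' N' : ι → Type u)
    [∀ i, CommRing (R' i)] [∀ i, Algebra R (R' i)] [∀ i, Algebra.Etale R (R' i)]
    [∀ i, CommRing (B' i)] [∀ i, Algebra R (B' i)] [∀ i, Algebra B (B' i)] [∀ i, Algebra (R' i) (B' i)]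
    [∀ i, IsScalarTower R B (B' i)] [∀ i, IsScalarTower R (R' i) (B' i)] [∀ i, Module.Flat B (B' i)]
    [∀ i, AddCommGroup (N' i)] [∀ i, Module (B' i) (N' i)] [∀ i, Module B (N' i)] [∀ i, Module R (N' i)]
    [∀ i, Module (R' i) (N' i)] [∀ i, IsScalarTower R (B' i) (N' i)] [∀ i, IsScalarTower B (B' i) (N' i)]
    [∀ i, IsScalarTower R B (N' i)] [∀ i, IsScalarTower (R' i) (B' i) (N' i)] [∀ i, IsScalarTower R (R' i) (N' i)]
    (fN : ∀ i, N →ₗ[B] N' i) (hfN : ∀ i, IsBaseChange (B' i) (fN i))
    (hcov : ∀ (q : Ideal B) [q.IsPrime], ∃ (i : ι) (q' : Ideal (B' i)), q'.IsPrime ∧ q'.comap (algebraMap B (B' i)) = q)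
    (h : ∀ i, Flattenable (R' i) (B' i) (N' i) (I₀.map (algebraMap R (R' i)))) : Flattenable R B N I₀ := by
  classical
  haveI : Fintype ι := Fintype.ofFinite ι
  choose J hJ hJrad hJfl using h
  choose K hK hKrad hKJ using fun i => exists_ideal_etale hI₀ (hJ i) ((hJrad i).symm ▸ Ideal.le_radical)
  refine ⟨I₀ * ∏ i, K i, Submodule.FG.mul hI₀ (fg_prod _ _ fun i _ => hK i), ?_, fun A _ _ c hc hcnz => ?_⟩
  · rw [Ideal.radical_mul, inf_eq_left, Ideal.radical_le_radical_iff]
    exact radical_le_prod _ _ _ fun i _ => (hKrad i).symm ▸ Ideal.le_radical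
  have hinv : IsInv ((I₀ * ∏ i, K i).map (algebraMap R A)) := hc ▸ isInv_span_singleton hcnz
  rw [Ideal.map_mul] at hinv
  have hinvI := hinv.of_mul (hI₀.map _)
  rw [mul_comm] at hinv
  have hrad : (Ideal.span {c}).radical = (I₀.map (algebraMap R A)).radical := by
    rw [← hc]
    refine le_antisymm (Ideal.radical_mono (Ideal.map_mono (Ideal.mul_le_inf.trans inf_le_left))) ?_
    rw [Ideal.radical_le_radical_iff]
    refine (Ideal.map_mono (?_ : I₀ ≤ (I₀ * ∏ i, K i).radical)).trans (Ideal.map_radical_le _)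
    rw [Ideal.radical_mul]
    exact le_inf Ideal.le_radical (radical_le_prod _ _ _ fun i _ => (hKrad i).symm ▸ Ideal.le_radical)
  have hgood : ∀ i, StGood R (B' i) (N' i) A c := fun i => by
    obtain ⟨-, hJA⟩ := hKJ i A (IsInv.of_prod (Finset.mem_univ i) (hK i)
      (hinv.of_mul ((fg_prod _ _ fun i _ => hK i).map _)))
    letI : Algebra (R' i) (A ⊗[R] R' i) := Algebra.TensorProduct.rightAlgebra
    haveI : Algebra.IsPushout R A (R' i) (A ⊗[R] R' i) := TensorProduct.isPushout
    refine StGood.of_base (Flattens.apply (hJfl i) hJA (nzd_map_flat hcnz) ?_)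
    have e₀ : (algebraMap (R' i) (A ⊗[R] R' i)).comp (algebraMap R (R' i)) =
        (algebraMap A (A ⊗[R] R' i)).comp (algebraMap R A) := by
      rw [← IsScalarTower.algebraMap_eq, ← IsScalarTower.algebraMap_eq]
    have e₁ : ((J i).map (algebraMap (R' i) (A ⊗[R] R' i))).radical =
        ((I₀.map (algebraMap R A)).map (algebraMap A (A ⊗[R] R' i))).radical := by
      rw [Ideal.map_map, ← e₀, ← Ideal.map_map]
      refine le_antisymm ?_ ?_ <;> rw [Ideal.radical_le_radical_iff]
      · exact (Ideal.map_mono ((hJrad i) ▸ Ideal.le_radical)).trans (Ideal.map_radical_le _)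
      · exact (Ideal.map_mono ((hJrad i).symm ▸ Ideal.le_radical)).trans (Ideal.map_radical_le _)
    rw [e₁, ← Set.image_singleton, ← Ideal.map_span]
    refine le_antisymm ?_ ?_ <;> rw [Ideal.radical_le_radical_iff]
    · exact (Ideal.map_mono (hrad ▸ Ideal.le_radical)).trans (Ideal.map_radical_le _)
    · exact (Ideal.map_mono (hrad.symm ▸ Ideal.le_radical)).trans (Ideal.map_radical_le _)
  haveI : Module.Flat A A := inferInstance
  refine StGood.descend c (fun _ => A) B' N' fN hfN (fun Q hQ => ?_) fun i => hgood i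
  obtain ⟨i, q', hq', he⟩ := hcov (Q.comap (Algebra.TensorProduct.includeRight : B →ₐ[R] A ⊗[R] B).toRingHom)
  obtain ⟨Q', hQ', he'⟩ := exists_prime_tensor Q q' he
  exact ⟨i, Q', hQ', he'⟩

end Groth.Agent.StrictAlg
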