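import Groth.Agent.StrictAlg.Off
import Groth.Agent.RGLib.Consequences
import Groth.Agent.CAlgUI.Flat

/-!
# Universally injective maps from free modules
-/

set_option autoImplicit false
set_option linter.style.haveILetI false
set_option backward.isDefEq.respectTransparency false
set_option backward.isDefEq.respectTransparency.types false

universe u

open TensorProduct

namespace Groth.Agent.StrictAlg

variable {R B N : Type u} [CommRing R] [CommRing B] [Algebra R B] [AddCommGroup N] [Module B N] [Module R N]
  [IsScalarTower R B N]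

/-- The base change of a linear map. -/
noncomputable def tensorMap (A : Type u) [CommRing A] [Algebra R A] {N' : Type u} [AddCommGroup N'] [Module B N']
    [Module R N'] [IsScalarTower R B N'] (φ : N →ₗ[B] N') : A ⊗[R] N →ₗ[A ⊗[R] B] A ⊗[R] N' :=
  { (φ.restrictScalars R).lTensor A with
    map_smul' := fun r m => by
      show (φ.restrictScalars R).lTensor A (r • m) = r • (φ.restrictScalars R).lTensor A m
      induction r using TensorProduct.induction_on with
      | zero => exact (congrArg _ (zero_smul (A ⊗[R] B) m)).trans ((map_zero _).trans (zero_smul (A ⊗[R] B) _).symm)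
      | add x y hx hy => rw [add_smul, map_add, hx, hy, add_smul]
      | tmul t b =>
        induction m using TensorProduct.induction_on with
        | zero => rw [smul_zero, map_zero, smul_zero]
        | add x y hx hy => rw [smul_add, map_add, hx, hy, map_add, smul_add]
        | tmul x n =>
          rw [tmul_smul_tmul, LinearMap.lTensor_tmul, LinearMap.lTensor_tmul, tmul_smul_tmul,
            LinearMap.restrictScalars_apply, LinearMap.restrictScalars_apply, map_smul] }

theorem tensorMap_apply (A : Type u) [CommRing A] [Algebra R A] {N' : Type u} [AddCommGroup N'] [Module B N']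
    [Module R N'] [IsScalarTower R B N'] (φ : N →ₗ[B] N') (z : A ⊗[R] N) :
    tensorMap A φ z = (φ.restrictScalars R).lTensor A z := rfl

variable {F : Type u} [AddCommGroup F] [Module B F] [Module R F] [IsScalarTower R B F] (α : F →ₗ[B] N)

/-- Injective after tensoring with any module of the base. -/
def UnivInjMap : Prop :=
  ∀ (X : Type u) [AddCommGroup X] [Module R X], Function.Injective ((α.restrictScalars R).lTensor X)

theorem exact_tensorMap (A : Type u) [CommRing A] [Algebra R A] :
    Function.Exact (tensorMap (R := R) A α) (tensorMap (R := R) A (LinearMap.range α).mkQ) ∧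
      Function.Surjective (tensorMap (R := R) A (LinearMap.range α).mkQ) :=
  ⟨lTensor_exact A (f := α.restrictScalars R) (g := (LinearMap.range α).mkQ.restrictScalars R)
      (LinearMap.exact_map_mkQ_range α) (LinearMap.range α).mkQ_surjective,
    LinearMap.lTensor_surjective A (LinearMap.range α).mkQ_surjective⟩

theorem finitePresentation_tensor (A : Type u) [CommRing A] [Algebra R A] [Module.FinitePresentation B F] :
    Module.FinitePresentation (A ⊗[R] B) (A ⊗[R] F) := by
  letI : Algebra B (A ⊗[R] B) := Algebra.TensorProduct.rightAlgebra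
  letI : Module B (A ⊗[R] F) := Module.compHom _ (algebraMap B (A ⊗[R] B))
  haveI : IsScalarTower B (A ⊗[R] B) (A ⊗[R] F) := .of_algebraMap_smul fun _ _ => rfl
  let φ : F →ₗ[B] A ⊗[R] F :=
    { toFun := fun n => 1 ⊗ₜ n
      map_add' := fun x y => tmul_add _ _ _
      map_smul' := fun b n => by
        show _ = ((1 : A) ⊗ₜ[R] b) • ((1 : A) ⊗ₜ[R] n)
        rw [tmul_smul_tmul, mul_one] }
  exact FinitePresentation.of_isBaseChange φ (isBaseChange_act R A B F φ fun _ => rfl)

theorem offGood_coker [Module.FinitePresentation B F] {I₀ : Ideal R} (hα : UnivInjMap (R := R) α) (h : OffGood R B N I₀) :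
    OffGood R B (N ⧸ LinearMap.range α) I₀ := by
  intro A _ _ hA
  obtain ⟨hfl, hfp⟩ := (goodQ_iff_of_isUnit isUnit_one).1 (h A hA)
  obtain ⟨hex, hsurj⟩ := exact_tensorMap (R := R) α A
  haveI := hfl
  haveI := hfp
  haveI := finitePresentation_tensor (R := R) (B := B) (F := F) A
  refine (goodQ_iff_of_isUnit isUnit_one).2 ⟨?_, ?_⟩
  · refine RGLib.flat_coker_of_lTensor_injective ((tensorMap (R := R) A α).restrictScalars A)
      ((tensorMap (R := R) A (LinearMap.range α).mkQ).restrictScalars A) hex hsurj fun X _ _ => ?_
    letI : Module R X := Module.compHom X (algebraMap R A)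
    haveI : IsScalarTower R A X := .of_algebraMap_smul fun _ _ => rfl
    let c := TensorProduct.AlgebraTensorModule.cancelBaseChange R A A X (F)
    let c' := TensorProduct.AlgebraTensorModule.cancelBaseChange R A A X N
    have e : ∀ z, c' (((tensorMap (R := R) A α).restrictScalars A).lTensor X z) =
        (α.restrictScalars R).lTensor X (c z) := fun z => by
      induction z using TensorProduct.induction_on with
      | zero => simp only [map_zero]
      | add u v hu hv => simp only [map_add, hu, hv]
      | tmul x w =>
        induction w using TensorProduct.induction_on with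
        | zero => simp only [tmul_zero, map_zero]
        | add u v hu hv => simp only [tmul_add, map_add, hu, hv]
        | tmul y n =>
          simp [c, c', tensorMap_apply, TensorProduct.AlgebraTensorModule.cancelBaseChange_tmul]
    intro u v huv
    exact c.injective (hα X ((e u).symm.trans ((congrArg c' huv).trans (e v))))
  · refine Module.finitePresentation_of_surjective _ hsurj ?_
    rw [LinearMap.exact_iff.1 hex]
    exact Module.Finite.iff_fg.1 (Module.Finite.range _)

theorem flattens_of_univInj [Module.Flat R F] [Module.FinitePresentation B F] {I : Ideal R} (hα : UnivInjMap (R := R) α)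
    (h : Flattens R B (N ⧸ LinearMap.range α) I) : Flattens R B N I := by
  intro A _ _ a hI ha
  obtain ⟨hfl, hfp⟩ := h A a hI ha
  obtain ⟨hex, hsurj⟩ := exact_tensorMap (R := R) α A
  let f := tensorMap (R := R) A α
  let g := tensorMap (R := R) A (LinearMap.range α).mkQ
  let t : A ⊗[R] B := algebraMap A (A ⊗[R] B) a
  let T := FlatCA.powTorsion (A ⊗[R] B) t (A ⊗[R] N)
  let TQ := FlatCA.powTorsion (A ⊗[R] B) t (A ⊗[R] (N ⧸ LinearMap.range α))
  have hinj : Function.Injective f := hα A
  haveI : Module.Flat A (A ⊗[R] F) := inferInstance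
  have hF : ∀ (n : ℕ) (v : A ⊗[R] F), t ^ n • v = 0 → v = 0 := fun n v hv => by
    refine (Module.Flat.isSMulRegular_of_nonZeroDivisors (M := A ⊗[R] F)
      (pow_mem ha n)).right_eq_zero_of_smul ?_
    rw [← algebraMap_smul (A ⊗[R] B), map_pow]
    exact hv
  have hg : T ≤ LinearMap.ker (TQ.mkQ.comp g) := fun x hx => by
    obtain ⟨n, hn⟩ := FittX.mem_powTorsion.1 hx
    refine LinearMap.mem_ker.2 ((Submodule.Quotient.mk_eq_zero _).2 (FittX.mem_powTorsion.2 ⟨n, ?_⟩))
    rw [← map_smul, hn, map_zero]
  let g' := T.liftQ (TQ.mkQ.comp g) hg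
  let f' := T.mkQ.comp f
  have hg's : Function.Surjective g' := fun y => by
    obtain ⟨y, rfl⟩ := TQ.mkQ_surjective y
    obtain ⟨x, rfl⟩ := hsurj y
    exact ⟨T.mkQ x, rfl⟩
  have hf' : Function.Injective f' := (injective_iff_map_eq_zero _).2 fun v hv => by
    obtain ⟨n, hn⟩ := FittX.mem_powTorsion.1 ((Submodule.Quotient.mk_eq_zero T).1 hv)
    rw [← map_smul] at hn
    exact hF n v (hinj (hn.trans (map_zero f).symm))
  have hex' : Function.Exact f' g' := fun y => by
    constructor
    · intro hy
      obtain ⟨x, rfl⟩ := T.mkQ_surjective y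
      obtain ⟨n, hn⟩ := FittX.mem_powTorsion.1 ((Submodule.Quotient.mk_eq_zero TQ).1 hy)
      rw [← map_smul] at hn
      obtain ⟨v, hv⟩ := (hex _).1 hn
      -- reduce modulo the power of `a`
      let J : Submodule A A := Ideal.span {a ^ n}
      let P := (J.restrictScalars R).mkQ
      have hv0 : P.rTensor (F) v = 0 := by
        refine hα _ ?_
        have h1 : (α.restrictScalars R).lTensor (A ⧸ J.restrictScalars R) (P.rTensor (F) v) =
            P.rTensor N ((α.restrictScalars R).lTensor A v) := by
          rw [← LinearMap.comp_apply, LinearMap.lTensor_comp_rTensor, ← LinearMap.rTensor_comp_lTensor,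
            LinearMap.comp_apply]
        rw [h1, map_zero, ← tensorMap_apply, show tensorMap (R := R) A α v = t ^ n • x from hv, ← map_pow, algebraMap_smul]
        clear hv hn hy h1
        induction x using TensorProduct.induction_on with
        | zero => rw [smul_zero, map_zero]
        | add p q hp hq => rw [smul_add, map_add, hp, hq, add_zero]
        | tmul y m =>
          rw [smul_tmul', LinearMap.rTensor_tmul]
          exact (congrArg (· ⊗ₜ[R] m) ((Submodule.Quotient.mk_eq_zero (J.restrictScalars R)).2
            (show a ^ n • y ∈ J from Ideal.mem_span_singleton'.2 ⟨y, by rw [smul_eq_mul, mul_comm]⟩))).trans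
            (zero_tmul _ m)
      obtain ⟨w, hw⟩ : ∃ w, v = (a ^ n) • w := by
        have hexJ : Function.Exact ((LinearMap.lsmul A A (a ^ n)).restrictScalars R) P := fun y => by
          rw [Submodule.mkQ_apply, Submodule.Quotient.mk_eq_zero, Submodule.restrictScalars_mem,
            Ideal.mem_span_singleton']
          exact ⟨fun ⟨c, hc⟩ => ⟨c, by rw [← hc]; exact mul_comm _ _⟩, fun ⟨c, hc⟩ => ⟨c, by rw [← hc]; exact mul_comm _ _⟩⟩
        obtain ⟨w, hw⟩ := (rTensor_exact (F) hexJ (Submodule.mkQ_surjective _) v).1 hv0
        refine ⟨w, hw.symm.trans ?_⟩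
        clear hw
        induction w using TensorProduct.induction_on with
        | zero => rw [map_zero, smul_zero]
        | add p q hp hq => rw [map_add, smul_add, hp, hq]
        | tmul y m => rfl
      refine ⟨w, (Submodule.Quotient.eq T).2 (FittX.mem_powTorsion.2 ⟨n, ?_⟩)⟩
      rw [hw, ← algebraMap_smul (A ⊗[R] B) (a ^ n) w, map_pow, map_smul] at hv
      rw [smul_sub, hv, sub_self]
    · rintro ⟨v, rfl⟩
      show TQ.mkQ (g (f v)) = 0
      rw [hex.apply_apply_eq_zero v, map_zero]
  haveI : Module.Flat A ((A ⊗[R] (N ⧸ LinearMap.range α)) ⧸ TQ) := hfl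
  haveI : Module.FinitePresentation (A ⊗[R] B) ((A ⊗[R] (N ⧸ LinearMap.range α)) ⧸ TQ) := hfp
  haveI := finitePresentation_tensor (R := R) (B := B) (F := F) A
  haveI : Module.FinitePresentation (A ⊗[R] B) (LinearMap.ker g') := by
    rw [LinearMap.exact_iff.1 hex']
    exact Module.FinitePresentation.of_equiv (LinearEquiv.ofInjective f' hf')
  exact ⟨CAlgUI.flat_middle (f := f'.restrictScalars A) (g := g'.restrictScalars A) hf' hex' hg's,
    Module.finitePresentation_of_ker g' hg's⟩

theorem flattenable_of_univInj [Module.Flat R F] [Module.FinitePresentation B F] {I₀ : Ideal R} (hα : UnivInjMap (R := R) α)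
    (h : Flattenable R B (N ⧸ LinearMap.range α) I₀) : Flattenable R B N I₀ :=
  let ⟨I, h₁, h₂, h₃⟩ := h
  ⟨I, h₁, h₂, flattens_of_univInj α hα h₃⟩

end Groth.Agent.StrictAlg
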