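import Groth.Agent.StrictAlg.UnivExt
import Groth.Agent.RGLib.GeomBasis
import Mathlib.RingTheory.LocalProperties.Basic
import Mathlib.RingTheory.Spectrum.Prime.Chevalley

/-!
# Maps bijective on an open meeting all the fibres
-/

set_option autoImplicit false
set_option linter.style.haveILetI false
set_option backward.isDefEq.respectTransparency false
set_option backward.isDefEq.respectTransparency.types false

universe u

open TensorProduct

namespace Groth.Agent.StrictAlg

theorem exists_prime_over_pair {R A D : Type u} [CommRing R] [CommRing A] [CommRing D] [Algebra R A] [Algebra R D]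
    (t : Ideal A) [t.IsPrime] (q : Ideal D) [q.IsPrime]
    (h : t.comap (algebraMap R A) = q.comap (algebraMap R D)) :
    ∃ Q : Ideal (A ⊗[R] D), Q.IsPrime ∧ Q.comap (algebraMap A (A ⊗[R] D)) = t ∧
      Q.comap (Algebra.TensorProduct.includeRight : D →ₐ[R] A ⊗[R] D).toRingHom = q := by
  let p := t.comap (algebraMap R A)
  letI : Algebra p.ResidueField t.ResidueField := (Ideal.ResidueField.map p t (algebraMap R A) rfl).toAlgebra
  letI : Algebra p.ResidueField q.ResidueField := (Ideal.ResidueField.map p q (algebraMap R D) h).toAlgebra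
  obtain ⟨K, _, α, β, hαβ⟩ := exists_field_amalgam p.ResidueField t.ResidueField q.ResidueField
  letI : Algebra R K := ((α.comp (algebraMap A t.ResidueField)).comp (algebraMap R A)).toAlgebra
  haveI : IsScalarTower R R K := IsScalarTower.left R
  let f₁ : A →ₐ[R] K := { α.comp (algebraMap A t.ResidueField) with commutes' := fun _ => rfl }
  let f₂ : D →ₐ[R] K :=
    { β.comp (algebraMap D q.ResidueField) with
      commutes' := fun r => by
        show β (algebraMap D q.ResidueField (algebraMap R D r)) = α (algebraMap A t.ResidueField (algebraMap R A r))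
        rw [← Ideal.ResidueField.map_algebraMap p q (algebraMap R D) h r,
          ← Ideal.ResidueField.map_algebraMap p t (algebraMap R A) rfl r]
        exact (hαβ _).symm }
  let F : A ⊗[R] D →+* K := (Algebra.TensorProduct.lift f₁ f₂ fun _ _ => Commute.all _ _).toRingHom
  have e₁ : F.comp (algebraMap A (A ⊗[R] D)) = α.comp (algebraMap A t.ResidueField) := RingHom.ext fun x => by
    show Algebra.TensorProduct.lift f₁ f₂ (fun _ _ => Commute.all _ _) (x ⊗ₜ 1) = f₁ x
    rw [Algebra.TensorProduct.lift_tmul, map_one, mul_one]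
  have e₂ : F.comp (Algebra.TensorProduct.includeRight : D →ₐ[R] A ⊗[R] D).toRingHom =
      β.comp (algebraMap D q.ResidueField) := RingHom.ext fun x => by
    show Algebra.TensorProduct.lift f₁ f₂ (fun _ _ => Commute.all _ _) (1 ⊗ₜ x) = f₂ x
    rw [Algebra.TensorProduct.lift_tmul, map_one, one_mul]
  refine ⟨RingHom.ker F, RingHom.ker_isPrime F, ?_, ?_⟩
  · rw [RingHom.comap_ker, e₁]
    exact (RingHom.ker_comp_of_injective _ α.injective).trans (Ideal.ker_algebraMap_residueField t)
  · rw [RingHom.comap_ker, e₂]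
    exact (RingHom.ker_comp_of_injective _ β.injective).trans (Ideal.ker_algebraMap_residueField q)

variable {R D G : Type u} [CommRing R] [CommRing D] [Algebra R D] [AddCommGroup G] [Module D G] [Module R G]
  [IsScalarTower R D G]

/-- The fibre over `p` meets the open set where `g` does not vanish. -/
def Meets (g : D) (p : Ideal R) : Prop := ∃ q : Ideal D, q.IsPrime ∧ q.comap (algebraMap R D) = p ∧ g ∉ q

theorem notMem_map_of_meets {g : D} {p : Ideal R} (h : Meets g p) : g ∉ p.map (algebraMap R D) := by
  obtain ⟨q, -, hqp, hg⟩ := h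
  exact fun hm => hg ((Ideal.map_le_iff_le_comap.2 hqp.ge) hm)

/-- The set of points met is open. -/
theorem exists_nhd_meets [Module.Flat R D] [Algebra.FinitePresentation R D] {g : D} (p : Ideal R) [p.IsPrime]
    (h : Meets g p) : ∃ e ∉ p, ∀ (t : Ideal R) [t.IsPrime], e ∉ t → Meets g t := by
  have hopen : IsOpen (PrimeSpectrum.comap (algebraMap R D) '' (PrimeSpectrum.basicOpen g : Set (PrimeSpectrum D))) :=
    (PrimeSpectrum.isOpenMap_comap_of_hasGoingDown_of_finitePresentation) _ (PrimeSpectrum.basicOpen g).isOpen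
  obtain ⟨q, hq, hqp, hg⟩ := h
  obtain ⟨_, ⟨e, rfl⟩, hep, hsub⟩ := PrimeSpectrum.isTopologicalBasis_basic_opens.exists_subset_of_mem_open
    (show (⟨p, inferInstance⟩ : PrimeSpectrum R) ∈ PrimeSpectrum.comap (algebraMap R D) '' (PrimeSpectrum.basicOpen g : Set (PrimeSpectrum D)) from ⟨⟨q, hq⟩, hg, PrimeSpectrum.ext hqp⟩) hopen
  refine ⟨e, hep, fun t ht he => ?_⟩
  obtain ⟨Q, hQ, eQ⟩ := hsub (show (⟨t, ht⟩ : PrimeSpectrum R) ∈ PrimeSpectrum.basicOpen e from he)
  exact ⟨Q.asIdeal, Q.isPrime, congrArg PrimeSpectrum.asIdeal eQ, hQ⟩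

theorem meets_baseChange {A : Type u} [CommRing A] [Algebra R A] {g : D} (t : Ideal A) [t.IsPrime]
    (h : Meets g (t.comap (algebraMap R A))) : Meets (R := A) ((1 : A) ⊗ₜ[R] g) t := by
  obtain ⟨q, hq, hqp, hg⟩ := h
  obtain ⟨Q, hQ, hQt, hQq⟩ := exists_prime_over_pair t q hqp.symm
  exact ⟨Q, hQ, hQt, fun hm => hg (hQq ▸ (hm : (Algebra.TensorProduct.includeRight : D →ₐ[R] A ⊗[R] D).toRingHom g ∈ Q))⟩

/-- Over the locus where all fibres are met, bijectivity on the open gives universal injectivity. -/
theorem eq_zero_of_localized_bijective [Algebra.FiniteType R D] [Module.Flat R D]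
    (hgi : FlatCA.GeomIntegralFibres R D) {g : D} {e : R}
    (hmeet : ∀ (t : Ideal R) [t.IsPrime], e ∉ t → Meets g t) {r : ℕ} (α : (Fin r → D) →ₗ[D] G)
    (hbij : Function.Bijective (LocalizedModule.map (Submonoid.powers g) α))
    (X : Type u) [AddCommGroup X] [Module R X] (heX : Function.Injective fun x : X => e • x)
    (z : (Fin r → D) ⊗[R] X) (hz : TensorProduct.AlgebraTensorModule.rTensor R X α z = 0) : z = 0 := by
  let S := Submonoid.powers g
  let lF := LocalizedModule.mkLinearMap S (Fin r → D)
  let lG := LocalizedModule.mkLinearMap S G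
  let L : LocalizedModule S (Fin r → D) ≃ₗ[D] LocalizedModule S G :=
    LinearEquiv.ofBijective ((LocalizedModule.map S α).restrictScalars D) hbij
  have h0 : TensorProduct.AlgebraTensorModule.rTensor R X L.toLinearMap
      (TensorProduct.AlgebraTensorModule.rTensor R X lF z) = 0 := by
    have e₁ : L.toLinearMap ∘ₗ lF = lG ∘ₗ α := LinearMap.ext fun v => LocalizedModule.map_mk _ _ _ _
    rw [← LinearMap.comp_apply, ← TensorProduct.AlgebraTensorModule.rTensor_comp, e₁,
      TensorProduct.AlgebraTensorModule.rTensor_comp, LinearMap.comp_apply, hz, map_zero]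
  have h1 : TensorProduct.AlgebraTensorModule.rTensor R X lF z = 0 := by
    have hid : TensorProduct.AlgebraTensorModule.rTensor R X L.symm.toLinearMap ∘ₗ
        TensorProduct.AlgebraTensorModule.rTensor R X L.toLinearMap = LinearMap.id := by
      rw [← TensorProduct.AlgebraTensorModule.rTensor_comp, show L.symm.toLinearMap ∘ₗ L.toLinearMap = LinearMap.id
        from LinearMap.ext L.symm_apply_apply, TensorProduct.AlgebraTensorModule.rTensor_id]
    have := LinearMap.congr_fun hid (TensorProduct.AlgebraTensorModule.rTensor R X lF z)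
    rw [LinearMap.comp_apply, h0, map_zero] at this
    exact this.symm
  obtain ⟨⟨d, hd⟩, hdz⟩ := (IsLocalizedModule.eq_zero_iff S (TensorProduct.AlgebraTensorModule.rTensor R X lF)).1 h1
  obtain ⟨w, hw, hwz⟩ := RGLib.exists_kill_of_kill hgi S (Submonoid.powers (algebraMap R D e)) (fun q hq hdis c hc => by
    obtain ⟨k, rfl⟩ := hc
    haveI := hq
    haveI : (q.comap (algebraMap R D)).IsPrime := Ideal.IsPrime.comap _
    haveI := (RGLib.isPrime_map_and_comap hgi (q.comap (algebraMap R D)) (S := D)).1
    intro hmem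
    refine notMem_map_of_meets (hmeet (q.comap (algebraMap R D)) fun he => ?_) (Ideal.IsPrime.mem_of_pow_mem ‹_› k hmem)
    exact Set.disjoint_left.1 hdis ⟨1, pow_one _⟩ he) r X z d hd hdz
  obtain ⟨k, rfl⟩ := hw
  simp only [← map_pow, algebraMap_smul] at hwz
  have hinj : ∀ k : ℕ, Function.Injective fun y : (Fin r → D) ⊗[R] X => e ^ k • y := fun k => by
    haveI : Module.Flat R (Fin r → D) := Module.Flat.trans R D (Fin r → D)
    have h1 : Function.Injective ((e • LinearMap.id : X →ₗ[R] X).lTensor (Fin r → D)) :=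
      Module.Flat.lTensor_preserves_injective_linearMap _ heX
    rw [LinearMap.lTensor_smul, LinearMap.lTensor_id] at h1
    induction k with
    | zero => intro x y h; simpa using h
    | succ k ih =>
      intro x y h
      simp only [pow_succ', mul_smul] at h
      exact ih (h1 h)
  exact hinj k (hwz.trans (smul_zero _).symm)

end Groth.Agent.StrictAlg
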